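import Cfsg.Agent.H16.D.J4p.C0
import Cfsg.Agent.H16.D.J4p.C1

/-! Generated by tools/h16 (computation kit). -/

set_option maxRecDepth 100000
set_option maxHeartbeats 0

namespace H16.J4p

open H26 (jn)
open DC
theorem iso_simple {Rl : List (List ℕ)} {c : ℕ} (hB : Bound Rl 3 c) {G₀ : Type} [Group G₀] {g₀ : ℕ → G₀} (h₀ : Rels g₀ Rl) (hc : Nat.card (gen g₀ 3) = c)
    (hs : IsSimpleGroup (gen g₀ 3)) {G : Type} [Group G] {g : ℕ → G} (h : Rels g Rl) (hne : evA g [0] ≠ evA g []) : Nonempty (gen g 3 ≃* gen g₀ 3) :=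
  have ⟨e, _⟩ := hB.exists_equiv_of_simple h₀ hc h (j := 0) (by decide) (by simpa using hne)
  ⟨e.symm⟩
theorem gen_three {G : Type} [Group G] {g g' : ℕ → G} {Rl : List (List ℕ)} {W : List ℕ} (h : Rels g' Rl) (h0 : [2, 1] ∈ Rl) (h1 : ∀ k < 3, g' k ∈ gen g 12)
    (h2 : ∀ k < 11, g k ∈ gen g' 3) (h3 : g 11 = evA g' W) : gen (wds g' [[0], [1], W]) 3 = gen g 12 := by
  have a : ∀ k < 2, wds g' [[0], [1], W] k = g' k := fun k h => by interval_cases k <;> exact one_mul _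
  have b : gen g' 3 ≤ gen (wds g' [[0], [1], W]) 3 := gen_le.2 fun k hk => by
    rcases (by omega : k < 2 ∨ k = 2) with q | rfl
    · exact a k q ▸ mem_gen _ hk
    · exact (eq_inv_of_mul_eq_one_right (show 1 * g' 1 * g' 2 = 1 from h _ h0)).symm ▸ inv_mem (mul_mem (one_mem _) (a 1 (by omega) ▸ mem_gen _ (by omega)))
  refine le_antisymm (gen_le.2 fun k hk => ?_) (gen_le.2 fun k hk => ?_)
  · rcases (by omega : k < 2 ∨ k = 2) with q | rfl
    · exact a k q ▸ h1 k hk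
    · exact (show wds g' [[0], [1], W] 2 = g 11 from h3.symm) ▸ mem_gen g (by omega)
  · rcases (by omega : k < 11 ∨ k = 11) with q | rfl
    · exact b (h2 k q)
    · exact h3 ▸ mem_gen (wds g' [[0], [1], W]) (show 2 < 3 by omega)
theorem index_sub {G G' : Type} [Group G] [Group G'] {H : Subgroup G} {A : Subgroup G'} (e : Nonempty (H ≃* A)) {c d n : ℕ}
    (h1 : Nat.card G = c) (h2 : Nat.card A = d) (h : 0 < d ∧ c = n * d) : H.index = n := index_of_iso e h1 h2 h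
theorem mc0 : MC RP (fixL J4m.P 3 H15.MM24.B) := MC.of (imp_of_mem im0) J4m.bound J4m.rels J4m.card
  ((H15.MM24.act.wds J4m.vc 3).of_eq J4m.pc) H15.MM24.Blt (H15.MM24.isBase.mono (gen_wds_le J4m.vc 3))
theorem mcM {R : List (List ℕ)} (h : ∀ r ∈ H15.MM24.Rl, r ∈ R ∨ r.length = 2 ∧ r.reverse ∈ R) : MC R (fixL H15.MM24.P 11 H15.MM24.B) :=
  MC.of (imp_of_mem h) H15.MM24.bound H15.MM24.rels H15.MM24.card H15.MM24.act H15.MM24.Blt H15.MM24.isBase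
theorem dca_g0 : ∀ i < 3, (fun i => DC.dcert RP 4 4 (fixL J4m.P 3 H15.MM24.B) (flat Ua (nth [] Rm i)) (nth [] Ca i) [] []) i = 0 := allZ_sound0 dca_0
theorem dca_g1 : ∀ i < 6, (fun i => DC.dcert RP 4 4 (fixL J4m.P 3 H15.MM24.B) (flat Ua (nth [] Rm i)) (nth [] Ca i) [] []) i = 0 := range_glue dca_g0 dca_1
theorem dca_g2 : ∀ i < 9, (fun i => DC.dcert RP 4 4 (fixL J4m.P 3 H15.MM24.B) (flat Ua (nth [] Rm i)) (nth [] Ca i) [] []) i = 0 := range_glue dca_g1 dca_2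
theorem dca_g3 : ∀ i < 12, (fun i => DC.dcert RP 4 4 (fixL J4m.P 3 H15.MM24.B) (flat Ua (nth [] Rm i)) (nth [] Ca i) [] []) i = 0 := range_glue dca_g2 dca_3
theorem dca_g4 : ∀ i < 15, (fun i => DC.dcert RP 4 4 (fixL J4m.P 3 H15.MM24.B) (flat Ua (nth [] Rm i)) (nth [] Ca i) [] []) i = 0 := range_glue dca_g3 dca_4
theorem dca_g5 : ∀ i < 18, (fun i => DC.dcert RP 4 4 (fixL J4m.P 3 H15.MM24.B) (flat Ua (nth [] Rm i)) (nth [] Ca i) [] []) i = 0 := range_glue dca_g4 dca_5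
theorem dca_g6 : ∀ i < 21, (fun i => DC.dcert RP 4 4 (fixL J4m.P 3 H15.MM24.B) (flat Ua (nth [] Rm i)) (nth [] Ca i) [] []) i = 0 := range_glue dca_g5 dca_6
theorem dca_g7 : ∀ i < 24, (fun i => DC.dcert RP 4 4 (fixL J4m.P 3 H15.MM24.B) (flat Ua (nth [] Rm i)) (nth [] Ca i) [] []) i = 0 := range_glue dca_g6 dca_7
theorem dca_g8 : ∀ i < 27, (fun i => DC.dcert RP 4 4 (fixL J4m.P 3 H15.MM24.B) (flat Ua (nth [] Rm i)) (nth [] Ca i) [] []) i = 0 := range_glue dca_g7 dca_8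
theorem dca_g9 : ∀ i < 30, (fun i => DC.dcert RP 4 4 (fixL J4m.P 3 H15.MM24.B) (flat Ua (nth [] Rm i)) (nth [] Ca i) [] []) i = 0 := range_glue dca_g8 dca_9
theorem dca_g10 : ∀ i < 33, (fun i => DC.dcert RP 4 4 (fixL J4m.P 3 H15.MM24.B) (flat Ua (nth [] Rm i)) (nth [] Ca i) [] []) i = 0 := range_glue dca_g9 dca_10
theorem dca_g11 : ∀ i < 36, (fun i => DC.dcert RP 4 4 (fixL J4m.P 3 H15.MM24.B) (flat Ua (nth [] Rm i)) (nth [] Ca i) [] []) i = 0 := range_glue dca_g10 dca_11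
theorem dca_g12 : ∀ i < 39, (fun i => DC.dcert RP 4 4 (fixL J4m.P 3 H15.MM24.B) (flat Ua (nth [] Rm i)) (nth [] Ca i) [] []) i = 0 := range_glue dca_g11 dca_12
theorem dca_g13 : ∀ i < 42, (fun i => DC.dcert RP 4 4 (fixL J4m.P 3 H15.MM24.B) (flat Ua (nth [] Rm i)) (nth [] Ca i) [] []) i = 0 := range_glue dca_g12 dca_13
theorem dca_g14 : ∀ i < 45, (fun i => DC.dcert RP 4 4 (fixL J4m.P 3 H15.MM24.B) (flat Ua (nth [] Rm i)) (nth [] Ca i) [] []) i = 0 := range_glue dca_g13 dca_14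
theorem dca : ∀ i < 47, (fun i => DC.dcert RP 4 4 (fixL J4m.P 3 H15.MM24.B) (flat Ua (nth [] Rm i)) (nth [] Ca i) [] []) i = 0 := range_glue dca_g14 dca_15
theorem suba : Sub RP Ua Rm := DC.sub_of_dcert ivRP dka (mc0) dca
theorem dcx : ∀ i < 3, (fun i => DC.dcert RP 4 4 (fixL J4m.P 3 H15.MM24.B) (flat Ux (nth [] Nwx i)) (nth [] Cx i) [] []) i = 0 := allZ_sound0 dcx_0
theorem subx : Sub RP Ux Nwx := DC.sub_of_dcert ivRP dkx (mc0) dcx
theorem stRx : Imp RP Rx := eqRx ▸ (Sub.back (A := []) subx)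
theorem impRx : Imp RP Rx := stRx
theorem dcb_g0 : ∀ i < 9, (fun i => DC.dcert Rm 12 4 (fixL H15.MM24.P 11 H15.MM24.B) (flat Ub (nth [] Rn i)) (nth [] Cb i) [] []) i = 0 := allZ_sound0 dcb_0
theorem dcb_g1 : ∀ i < 18, (fun i => DC.dcert Rm 12 4 (fixL H15.MM24.P 11 H15.MM24.B) (flat Ub (nth [] Rn i)) (nth [] Cb i) [] []) i = 0 := range_glue dcb_g0 dcb_1
theorem dcb_g2 : ∀ i < 27, (fun i => DC.dcert Rm 12 4 (fixL H15.MM24.P 11 H15.MM24.B) (flat Ub (nth [] Rn i)) (nth [] Cb i) [] []) i = 0 := range_glue dcb_g1 dcb_2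
theorem dcb_g3 : ∀ i < 36, (fun i => DC.dcert Rm 12 4 (fixL H15.MM24.P 11 H15.MM24.B) (flat Ub (nth [] Rn i)) (nth [] Cb i) [] []) i = 0 := range_glue dcb_g2 dcb_3
theorem dcb_g4 : ∀ i < 45, (fun i => DC.dcert Rm 12 4 (fixL H15.MM24.P 11 H15.MM24.B) (flat Ub (nth [] Rn i)) (nth [] Cb i) [] []) i = 0 := range_glue dcb_g3 dcb_4
theorem dcb : ∀ i < 51, (fun i => DC.dcert Rm 12 4 (fixL H15.MM24.P 11 H15.MM24.B) (flat Ub (nth [] Rn i)) (nth [] Cb i) [] []) i = 0 := range_glue dcb_g4 dcb_5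
theorem subb : Sub Rm Ub Rn := DC.sub_of_dcert ivRm dkb (mcM (by decide +kernel)) dcb
theorem suby : Sub Rm Uy Nwy := Sub.of swy
theorem stRy : Imp Rm Ry := eqRy ▸ (Sub.back (A := []) suby)
theorem impRy : Imp Rm Ry := stRy
theorem dcc : ∀ i < 30, (fun i => DC.dcert Rn 12 4 (fixL H15.MM24.P 11 H15.MM24.B) (flat Uc (nth [] Gc i)) (nth [] Cc i) [] []) i = 0 := allZ_sound0 dcc_0
theorem subc : Sub Rn Uc Gc := DC.sub_of_dcert ivRn dkc (mcM (by decide +kernel)) dcc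
theorem tcgce : ∀ k < 15, ∀ i < 21, (ent2 Tgc Egc (selR RLgc Igc) Dgc (nat_lit 31) (nat_lit 21) (nat_lit 0) (nat_lit 21) (nat_lit 15) (nat_lit 511) (nat_lit 0)) k i = 0 := allZ2_sound tcgce_a
theorem tcgcp : ∀ i < 0, (eps2 Tgc Egc Jgc Wgc RLgc (nat_lit 31) (nat_lit 21) (nat_lit 21) (nat_lit 15) (nat_lit 0)) i = 0 := allZ_sound0 tcgcp_0
theorem tcgc : cgc.OK Gc 15 := ⟨tcgcn, ivGc, tcgcr, tcgce, fun i h => tcgcp i (lt_of_lt_of_eq h tcgcq)⟩
theorem stRgc : Imp Gc Rgc := eqRgc ▸ (Imp.goal1 tcgc glgc)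
theorem impRgc : Imp Gc Rgc := stRgc
theorem bkc : Imp Rn (Rn ++ Nwgc.map (flat Uc)) := Sub.back (ebc ▸ subc.imp impRgc)
theorem dcd_g0 : ∀ i < 36, (fun i => DC.dcert Rn 12 4 (fixL H15.MM24.P 11 H15.MM24.B) (flat Ud (nth [] Gd i)) (nth [] Cd i) [] []) i = 0 := allZ_sound0 dcd_0
theorem dcd_g1 : ∀ i < 72, (fun i => DC.dcert Rn 12 4 (fixL H15.MM24.P 11 H15.MM24.B) (flat Ud (nth [] Gd i)) (nth [] Cd i) [] []) i = 0 := range_glue dcd_g0 dcd_1
theorem dcd_g2 : ∀ i < 108, (fun i => DC.dcert Rn 12 4 (fixL H15.MM24.P 11 H15.MM24.B) (flat Ud (nth [] Gd i)) (nth [] Cd i) [] []) i = 0 := range_glue dcd_g1 dcd_2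
theorem dcd_g3 : ∀ i < 144, (fun i => DC.dcert Rn 12 4 (fixL H15.MM24.P 11 H15.MM24.B) (flat Ud (nth [] Gd i)) (nth [] Cd i) [] []) i = 0 := range_glue dcd_g2 dcd_3
theorem dcd_g4 : ∀ i < 180, (fun i => DC.dcert Rn 12 4 (fixL H15.MM24.P 11 H15.MM24.B) (flat Ud (nth [] Gd i)) (nth [] Cd i) [] []) i = 0 := range_glue dcd_g3 dcd_4
theorem dcd : ∀ i < 199, (fun i => DC.dcert Rn 12 4 (fixL H15.MM24.P 11 H15.MM24.B) (flat Ud (nth [] Gd i)) (nth [] Cd i) [] []) i = 0 := range_glue dcd_g4 dcd_5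
theorem subd : Sub Rn Ud Gd := DC.sub_of_dcert ivRn dkd (mcM (by decide +kernel)) dcd
theorem tcgde : ∀ k < 49, ∀ i < 30, (ent2 Tgd Egd (selR RLgd Igd) Dgd (nat_lit 31) (nat_lit 30) (nat_lit 0) (nat_lit 30) (nat_lit 49) (nat_lit 2047) (nat_lit 0)) k i = 0 := allZ2_sound tcgde_a
theorem tcgdp : ∀ i < 0, (eps2 Tgd Egd Jgd Wgd RLgd (nat_lit 31) (nat_lit 30) (nat_lit 30) (nat_lit 49) (nat_lit 0)) i = 0 := allZ_sound0 tcgdp_0
theorem tcgd : cgd.OK Gd 49 := ⟨tcgdn, ivGd, tcgdr, tcgde, fun i h => tcgdp i (lt_of_lt_of_eq h tcgdq)⟩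
theorem stRgd : Imp Gd Rgd := eqRgd ▸ (Imp.goal1 tcgd glgd)
theorem impRgd : Imp Gd Rgd := stRgd
theorem bkd : Imp Rn (Rn ++ Nwgd.map (flat Ud)) := Sub.back (ebd ▸ subd.imp impRgd)
theorem dce_g0 : ∀ i < 45, (fun i => DC.dcert Rn 12 4 (fixL H15.MM24.P 11 H15.MM24.B) (flat Ue (nth [] Ge i)) (nth [] Ce i) [] []) i = 0 := allZ_sound0 dce_0
theorem dce_g1 : ∀ i < 90, (fun i => DC.dcert Rn 12 4 (fixL H15.MM24.P 11 H15.MM24.B) (flat Ue (nth [] Ge i)) (nth [] Ce i) [] []) i = 0 := range_glue dce_g0 dce_1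
theorem dce : ∀ i < 131, (fun i => DC.dcert Rn 12 4 (fixL H15.MM24.P 11 H15.MM24.B) (flat Ue (nth [] Ge i)) (nth [] Ce i) [] []) i = 0 := range_glue dce_g1 dce_2
theorem sube : Sub Rn Ue Ge := DC.sub_of_dcert ivRn dke (mcM (by decide +kernel)) dce
theorem tcgee : ∀ k < 25, ∀ i < 45, (ent2 Tge Ege (selR RLge Ige) Dge (nat_lit 63) (nat_lit 45) (nat_lit 0) (nat_lit 45) (nat_lit 25) (nat_lit 2047) (nat_lit 0)) k i = 0 := allZ2_sound tcgee_a
theorem tcgep : ∀ i < 0, (eps2 Tge Ege Jge Wge RLge (nat_lit 63) (nat_lit 45) (nat_lit 45) (nat_lit 25) (nat_lit 0)) i = 0 := allZ_sound0 tcgep_0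
theorem tcge : cge.OK Ge 25 := ⟨tcgen, ivGe, tcger, tcgee, fun i h => tcgep i (lt_of_lt_of_eq h tcgeq)⟩
theorem stRge : Imp Ge Rge := eqRge ▸ (Imp.goal1 tcge glge)
theorem impRge : Imp Ge Rge := stRge
theorem bke : Imp Rn (Rn ++ Nwge.map (flat Ue)) := Sub.back (ebe ▸ sube.imp impRge)
theorem impo : Imp Rn Ro := fun G _ g h => eo ▸ ((bkc G g h).append fun r hr => bkd G g h r (List.mem_append_right _ hr)).append fun r hr => bke G g h r (List.mem_append_right _ hr)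
theorem dch : ∀ i < 54, (fun i => DC.dcert Ro 12 4 (fixL H15.MM24.P 11 H15.MM24.B) (flat Uh (nth [] J4n.Rl i)) (nth [] Ch i) [] []) i = 0 := allZ_sound0 dch_0
theorem subh : Sub Ro Uh J4n.Rl := DC.sub_of_dcert ivRo dkh (mcM (by decide +kernel)) dch
theorem subi : Sub Ro Uh (J4n.Rl ++ X5) := Sub.model subh J4n.bound J4c.rels (le_antisymm (J4n.bound.le J4c.rels).2 J4c.low)
  ((FP.Prs.step J4c.qok J4c.rp (FP.Prs.zero _ _) x5c).rels rfl) x5l
theorem stRq : Imp Ro Rq := eqRq ▸ (Sub.back (A := []) subi)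
theorem impRq : Imp Ro Rq := stRq
theorem dck : ∀ i < 66, (fun i => DC.dcert Rq 12 4 (fixL H15.MM24.P 11 H15.MM24.B) (flat Uk (nth [] J4c.RA i)) (nth [] Ck i) [] []) i = 0 := allZ_sound0 dck_0
theorem subk : Sub Rq Uk J4c.RA := DC.sub_of_dcert ivRq dkk (mcM (by decide +kernel)) dck
theorem boundn : Bound Rn 12 86775571046077562880 := (impo.trans impRq).bound (Bound.ofW subk J4c.bound v4)
theorem boundm : Bound Rm 12 86775571046077562880 := impRy.bound (bound_ofV ((imp_of_mem i1).sub subb) boundn v2)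
theorem boundP : Bound RP 4 86775571046077562880 := impRx.bound (bound_ofV ((imp_of_mem i0).sub suba) boundm v1)
theorem w4 : ∀ i < 4, (fun k => q4.run fun q => frcs DJ4.C fun C => Nat.xor (q.ev C (nth [] UV k)) (nth 0 C4 k)) i = 0 := allZ_sound0 w4_0
theorem w14_g0 : ∀ i < 1, (fun k => q4.run fun q => frcs C4 fun C => Nat.xor (q.ev C (nth [] UB k)) (nth 0 DJ4.C k)) i = 0 := allZ_sound0 w14_0
theorem w14_g1 : ∀ i < 2, (fun k => q4.run fun q => frcs C4 fun C => Nat.xor (q.ev C (nth [] UB k)) (nth 0 DJ4.C k)) i = 0 := range_glue w14_g0 w14_1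
theorem w14_g2 : ∀ i < 3, (fun k => q4.run fun q => frcs C4 fun C => Nat.xor (q.ev C (nth [] UB k)) (nth 0 DJ4.C k)) i = 0 := range_glue w14_g1 w14_2
theorem w14_g3 : ∀ i < 4, (fun k => q4.run fun q => frcs C4 fun C => Nat.xor (q.ev C (nth [] UB k)) (nth 0 DJ4.C k)) i = 0 := range_glue w14_g2 w14_3
theorem w14_g4 : ∀ i < 5, (fun k => q4.run fun q => frcs C4 fun C => Nat.xor (q.ev C (nth [] UB k)) (nth 0 DJ4.C k)) i = 0 := range_glue w14_g3 w14_4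
theorem w14_g5 : ∀ i < 6, (fun k => q4.run fun q => frcs C4 fun C => Nat.xor (q.ev C (nth [] UB k)) (nth 0 DJ4.C k)) i = 0 := range_glue w14_g4 w14_5
theorem w14_g6 : ∀ i < 7, (fun k => q4.run fun q => frcs C4 fun C => Nat.xor (q.ev C (nth [] UB k)) (nth 0 DJ4.C k)) i = 0 := range_glue w14_g5 w14_6
theorem w14_g7 : ∀ i < 8, (fun k => q4.run fun q => frcs C4 fun C => Nat.xor (q.ev C (nth [] UB k)) (nth 0 DJ4.C k)) i = 0 := range_glue w14_g6 w14_7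
theorem w14_g8 : ∀ i < 9, (fun k => q4.run fun q => frcs C4 fun C => Nat.xor (q.ev C (nth [] UB k)) (nth 0 DJ4.C k)) i = 0 := range_glue w14_g7 w14_8
theorem w14_g9 : ∀ i < 10, (fun k => q4.run fun q => frcs C4 fun C => Nat.xor (q.ev C (nth [] UB k)) (nth 0 DJ4.C k)) i = 0 := range_glue w14_g8 w14_9
theorem w14_g10 : ∀ i < 11, (fun k => q4.run fun q => frcs C4 fun C => Nat.xor (q.ev C (nth [] UB k)) (nth 0 DJ4.C k)) i = 0 := range_glue w14_g9 w14_10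
theorem w14_g11 : ∀ i < 12, (fun k => q4.run fun q => frcs C4 fun C => Nat.xor (q.ev C (nth [] UB k)) (nth 0 DJ4.C k)) i = 0 := range_glue w14_g10 w14_11
theorem w14_g12 : ∀ i < 13, (fun k => q4.run fun q => frcs C4 fun C => Nat.xor (q.ev C (nth [] UB k)) (nth 0 DJ4.C k)) i = 0 := range_glue w14_g11 w14_12
theorem w14 : ∀ i < 14, (fun k => q4.run fun q => frcs C4 fun C => Nat.xor (q.ev C (nth [] UB k)) (nth 0 DJ4.C k)) i = 0 := range_glue w14_g12 w14_13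
theorem rp4 : q4.RpL g4 C4 4 := rpL_wds qok4 DJ4.rp uv fun k h => by
  have := w4 k h
  simpa only [FP.run_eq, frcs_eq] using this
theorem pp : FP.Prs g4 (RP.map fun r => (r, [])) 14 :=
  FP.Prs.step qok4 rp4 (FP.Prs.zero g4 (RP.map fun r => (r, []))) pp_0
theorem relsP : Rels g4 RP := pp.rels (by decide +kernel)
theorem back (k : ℕ) (h : k < 14) : g k = wds g4 UB k := rpL_eq DJ4.rp (rpL_wds qok4 rp4 ub fun k h => by
  have := w14 k h
  simpa only [FP.run_eq, frcs_eq] using this) h h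
theorem genP : gen g4 4 = gen g 14 := le_antisymm (gen_wds_le uv 4) (gen_le.2 fun k h => back k h ▸ evA_mem_gen _ (nth_lt ub k))
theorem main : Nat.card (gen g 12) = 501397585920 ∧ Nat.card (gen g 14) = 86775571046077562880 ∧ IsSimpleGroup (gen g 14) := DJ4.main
open Cfsg.Spor
def col : J4.Gen → ℕ
  | .x => 0
  | .y => 1
  | .t => 3
def icol : J4.Gen → ℕ
  | .x => 0
  | .y => 2
  | .t => 3
def all : List J4.Gen := [.x, .y, .t]
theorem mem_all (v : J4.Gen) : v ∈ all := by cases v <;> decide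
theorem presOK : PresOK J4.edges J4.extra all col icol RP 4 := by decide +kernel
theorem exists_equiv : ∃ e : J4 ≃* gen g4 4, ∀ w, (e (PresentedGroup.mk _ w) : GL (_root_.Fin 112) (ZMod 2)) = evA g4 (toL col icol w) :=
  presOK.exists_equiv mem_all boundP relsP (genP ▸ main.2.1)
/-- the isomorphism with the matrix model -/
noncomputable def equiv : J4 ≃* gen g 14 := exists_equiv.choose.trans (MulEquiv.subgroupCongr genP)
theorem card_eq : Nat.card J4 = 86775571046077562880 := (Nat.card_congr equiv.toEquiv).trans main.2.1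
theorem simple : IsSimpleGroup J4 := simple_of equiv main.2.2
theorem ne0 : evA g4 [0] ≠ evA g4 [] := FP.RpL.ne qok4 rp4 ne0c
theorem isoM {S : Set (FreeGroup J4.Gen)} (hS : ∀ w, w ∈ S ↔ w ∈ [J4.x, J4.y]) :
    Nonempty ((Subgroup.closure S).map (PresentedGroup.mk (coxRelators J4.edges ∪ {r | r ∈ J4.extra})) ≃* Cfsg.M24) :=
  have ⟨e⟩ := pres_iso _ exists_equiv.choose_spec hS (U := [[0], [1]]) (m := 2) (by decide +kernel) (gen_half (K := 3) relsP (by decide +kernel))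
  have ⟨f⟩ := iso_simple J4m.bound J4m.rels J4m.card J4m.simple ((imp_of_mem im0).le relsP) ne0
  ⟨e.trans (f.trans (MulEquiv.subgroupCongr J4m.eq))⟩
theorem genH : gen (wds g4 [[0], [1], [0, 2, 0, 1, 0, 1, 0, 1, 0, 1, 3, 2, 0, 2, 0, 2, 0, 2, 0, 1, 0, 1, 0, 2, 0, 1, 0, 1, 0, 1, 0, 1, 3, 2, 0, 2, 0, 2, 0, 2, 0, 1, 0, 1, 0, 2, 0, 1, 0, 1, 0, 1, 0, 1, 3, 2, 0, 2, 0, 2, 0, 2, 0, 1, 0, 1]]) 3 = gen g 12 :=
  gen_three relsP (by decide +kernel) (fun k h => evA_mem_gen _ (ltAll_zero (uc.1 k h)))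
    (fun k h => back k (by omega) ▸ evA_mem_gen _ (ltAll_zero (uc.2.1 k h))) (uc.2.2 ▸ back 11 (by omega))
theorem isoH {S : Set (FreeGroup J4.Gen)} (hS : ∀ w, w ∈ S ↔ w ∈ [J4.x, J4.y, (J4.y * ((J4.y * J4.x) ^ 4 * J4.y⁻¹ * J4.x)⁻¹ * J4.t * ((J4.y * J4.x) ^ 4 * J4.y⁻¹ * J4.x)) ^ 3]) :
    ((Subgroup.closure S).map (PresentedGroup.mk (coxRelators J4.edges ∪ {r | r ∈ J4.extra}))).index = 173067389 :=
  index_sub (pres_iso _ exists_equiv.choose_spec hS (m := 3) (by decide +kernel) genH) card_eq main.1 (by norm_num)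

end H16.J4p
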