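import Cfsg.Agent.H16.D.J4s

/-! Generated by tools/h16 (computation kit). -/

set_option maxRecDepth 100000
set_option maxHeartbeats 0

namespace H16.J4k

open H26 (jn)
noncomputable def Iv : List (List ℕ) := [[nat_lit 0, nat_lit 0],
  [nat_lit 1, nat_lit 1],
  [nat_lit 2, nat_lit 2],
  [nat_lit 3, nat_lit 3],
  [nat_lit 4, nat_lit 5],
  [nat_lit 5, nat_lit 4],
  [nat_lit 6, nat_lit 6],
  [nat_lit 7, nat_lit 7],
  [nat_lit 8, nat_lit 8],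
  [nat_lit 9, nat_lit 9],
  [nat_lit 10, nat_lit 10],
  [nat_lit 11, nat_lit 11],
  [nat_lit 12, nat_lit 13],
  [nat_lit 13, nat_lit 12]]
noncomputable def clD1750 : List (List ℕ × ℕ × ℕ) :=
  ([nat_lit 7, nat_lit 6, nat_lit 4, nat_lit 8, nat_lit 2, nat_lit 5], (nat_lit 989335729), (nat_lit 0)) ::
  ([nat_lit 8, nat_lit 0, nat_lit 9, nat_lit 8, nat_lit 10, nat_lit 0, nat_lit 4], (nat_lit 989392376), (nat_lit 0)) ::
  ([nat_lit 7, nat_lit 6, nat_lit 3, nat_lit 4, nat_lit 8], (nat_lit 989701450), (nat_lit 0)) ::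
  ([nat_lit 7, nat_lit 6, nat_lit 8, nat_lit 9, nat_lit 1, nat_lit 6, nat_lit 10], (nat_lit 990168855), (nat_lit 0)) ::
  ([nat_lit 7, nat_lit 6, nat_lit 8, nat_lit 0, nat_lit 1, nat_lit 9, nat_lit 8], (nat_lit 990349371), (nat_lit 0)) ::
  ([nat_lit 7, nat_lit 8, nat_lit 1, nat_lit 9, nat_lit 6, nat_lit 0, nat_lit 8, nat_lit 0], (nat_lit 990625791), (nat_lit 0)) ::
  ([nat_lit 8, nat_lit 2, nat_lit 9, nat_lit 8, nat_lit 10, nat_lit 0], (nat_lit 990869958), (nat_lit 0)) ::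
  ([nat_lit 7, nat_lit 8, nat_lit 6, nat_lit 1, nat_lit 5, nat_lit 9, nat_lit 8, nat_lit 2], (nat_lit 991098830), (nat_lit 0)) ::
  ([nat_lit 7, nat_lit 6, nat_lit 1, nat_lit 8, nat_lit 3], (nat_lit 992187999), (nat_lit 0)) ::
  ([nat_lit 7, nat_lit 6, nat_lit 8, nat_lit 0, nat_lit 2, nat_lit 9, nat_lit 8, nat_lit 10, nat_lit 9], (nat_lit 993826848), (nat_lit 0)) ::
  ([nat_lit 7, nat_lit 6, nat_lit 8, nat_lit 9, nat_lit 3, nat_lit 8, nat_lit 10, nat_lit 9], (nat_lit 994846007), (nat_lit 0)) ::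
  ([nat_lit 7, nat_lit 6, nat_lit 8, nat_lit 0, nat_lit 2, nat_lit 9, nat_lit 8, nat_lit 1], (nat_lit 996288677), (nat_lit 0)) ::
  ([nat_lit 7, nat_lit 8, nat_lit 2, nat_lit 6], (nat_lit 997340920), (nat_lit 0)) ::
  ([nat_lit 8, nat_lit 2, nat_lit 5, nat_lit 9, nat_lit 10], (nat_lit 997377679), (nat_lit 0)) ::
  ([nat_lit 7, nat_lit 6, nat_lit 8, nat_lit 9, nat_lit 8, nat_lit 2], (nat_lit 997606521), (nat_lit 0)) ::
  ([nat_lit 7, nat_lit 6, nat_lit 2, nat_lit 8, nat_lit 9, nat_lit 3, nat_lit 8, nat_lit 0], (nat_lit 998238521), (nat_lit 0)) ::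
  ([nat_lit 7, nat_lit 8, nat_lit 0, nat_lit 9, nat_lit 8], (nat_lit 998540159), (nat_lit 0)) ::
  ([nat_lit 7, nat_lit 8, nat_lit 9, nat_lit 6, nat_lit 1, nat_lit 8], (nat_lit 999116318), (nat_lit 0)) ::
  ([nat_lit 8, nat_lit 3, nat_lit 9, nat_lit 6, nat_lit 10], (nat_lit 999153456), (nat_lit 0)) ::
  ([nat_lit 7, nat_lit 8, nat_lit 0, nat_lit 6, nat_lit 9, nat_lit 3], (nat_lit 999752186), (nat_lit 0)) ::
  ([nat_lit 7, nat_lit 6, nat_lit 8, nat_lit 9, nat_lit 1, nat_lit 8, nat_lit 10, nat_lit 0], (nat_lit 999994684), (nat_lit 0)) ::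
  []
noncomputable def clD1700 : List (List ℕ × ℕ × ℕ) :=
  ([nat_lit 7, nat_lit 6, nat_lit 1, nat_lit 8, nat_lit 9, nat_lit 3], (nat_lit 958210311), (nat_lit 0)) ::
  ([nat_lit 7, nat_lit 8, nat_lit 3], (nat_lit 958516500), (nat_lit 0)) ::
  ([nat_lit 7, nat_lit 8, nat_lit 2, nat_lit 9, nat_lit 8, nat_lit 3, nat_lit 6, nat_lit 5], (nat_lit 958524473), (nat_lit 0)) ::
  ([nat_lit 8, nat_lit 0, nat_lit 1, nat_lit 9, nat_lit 8, nat_lit 0, nat_lit 1], (nat_lit 959578244), (nat_lit 0)) ::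
  ([nat_lit 7, nat_lit 8, nat_lit 1, nat_lit 3, nat_lit 6, nat_lit 0], (nat_lit 960203286), (nat_lit 0)) ::
  ([nat_lit 8, nat_lit 3, nat_lit 9, nat_lit 8, nat_lit 10], (nat_lit 960239088), (nat_lit 0)) ::
  ([nat_lit 8, nat_lit 0, nat_lit 9, nat_lit 8, nat_lit 6, nat_lit 10], (nat_lit 960393896), (nat_lit 0)) ::
  ([nat_lit 8, nat_lit 0, nat_lit 7, nat_lit 6, nat_lit 9, nat_lit 10], (nat_lit 960465351), (nat_lit 0)) ::
  ([nat_lit 7, nat_lit 8, nat_lit 2, nat_lit 9, nat_lit 10, nat_lit 3], (nat_lit 960584303), (nat_lit 0)) ::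
  ([nat_lit 7, nat_lit 8, nat_lit 0, nat_lit 9, nat_lit 8, nat_lit 2, nat_lit 5, nat_lit 6], (nat_lit 962263243), (nat_lit 0)) ::
  ([nat_lit 8, nat_lit 0, nat_lit 7, nat_lit 6, nat_lit 9, nat_lit 3], (nat_lit 962946015), (nat_lit 0)) ::
  ([nat_lit 7, nat_lit 8, nat_lit 9, nat_lit 1, nat_lit 6, nat_lit 10], (nat_lit 964674482), (nat_lit 0)) ::
  ([nat_lit 7, nat_lit 6, nat_lit 0, nat_lit 8, nat_lit 9, nat_lit 3, nat_lit 8, nat_lit 10], (nat_lit 965269451), (nat_lit 0)) ::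
  ([nat_lit 7, nat_lit 6, nat_lit 5, nat_lit 8, nat_lit 1, nat_lit 9, nat_lit 8, nat_lit 10], (nat_lit 965824057), (nat_lit 0)) ::
  ([nat_lit 7, nat_lit 8, nat_lit 0, nat_lit 6, nat_lit 9, nat_lit 3, nat_lit 8], (nat_lit 966457477), (nat_lit 0)) ::
  ([nat_lit 8, nat_lit 9, nat_lit 3, nat_lit 8, nat_lit 2, nat_lit 10, nat_lit 9], (nat_lit 966576166), (nat_lit 0)) ::
  ([nat_lit 8, nat_lit 0, nat_lit 1, nat_lit 9, nat_lit 8, nat_lit 3, nat_lit 10], (nat_lit 968705470), (nat_lit 0)) ::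
  ([nat_lit 8, nat_lit 1, nat_lit 9, nat_lit 8, nat_lit 0, nat_lit 10], (nat_lit 969946134), (nat_lit 0)) ::
  ([nat_lit 7, nat_lit 8, nat_lit 2, nat_lit 9, nat_lit 8, nat_lit 3], (nat_lit 970125507), (nat_lit 0)) ::
  ([nat_lit 8, nat_lit 2, nat_lit 9, nat_lit 8, nat_lit 0, nat_lit 8], (nat_lit 971462299), (nat_lit 0)) ::
  ([nat_lit 8, nat_lit 1, nat_lit 6, nat_lit 9, nat_lit 7, nat_lit 8], (nat_lit 972435795), (nat_lit 0)) ::
  ([nat_lit 7, nat_lit 6, nat_lit 4, nat_lit 8, nat_lit 0, nat_lit 9, nat_lit 8, nat_lit 1], (nat_lit 972909091), (nat_lit 0)) ::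
  ([nat_lit 7, nat_lit 8, nat_lit 2, nat_lit 5, nat_lit 9, nat_lit 8, nat_lit 3, nat_lit 10], (nat_lit 974122163), (nat_lit 0)) ::
  ([nat_lit 8, nat_lit 0, nat_lit 2, nat_lit 9, nat_lit 8, nat_lit 1, nat_lit 10], (nat_lit 974164144), (nat_lit 0)) ::
  ([nat_lit 7, nat_lit 6, nat_lit 8, nat_lit 2, nat_lit 9, nat_lit 3, nat_lit 8], (nat_lit 974853324), (nat_lit 0)) ::
  ([nat_lit 7, nat_lit 6, nat_lit 8, nat_lit 2, nat_lit 5, nat_lit 9, nat_lit 8], (nat_lit 974903035), (nat_lit 0)) ::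
  ([nat_lit 7, nat_lit 6, nat_lit 8, nat_lit 2, nat_lit 9, nat_lit 8, nat_lit 10], (nat_lit 974969701), (nat_lit 0)) ::
  ([nat_lit 7, nat_lit 6, nat_lit 0, nat_lit 1], (nat_lit 975545971), (nat_lit 0)) ::
  ([nat_lit 7, nat_lit 8, nat_lit 9, nat_lit 6, nat_lit 0, nat_lit 8, nat_lit 6, nat_lit 2], (nat_lit 976440732), (nat_lit 0)) ::
  ([nat_lit 8, nat_lit 0, nat_lit 9, nat_lit 8, nat_lit 1, nat_lit 2], (nat_lit 976443130), (nat_lit 0)) ::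
  ([nat_lit 7, nat_lit 6, nat_lit 1, nat_lit 8, nat_lit 3, nat_lit 9], (nat_lit 977042715), (nat_lit 0)) ::
  ([nat_lit 8, nat_lit 1, nat_lit 6, nat_lit 9, nat_lit 7, nat_lit 6], (nat_lit 979283082), (nat_lit 0)) ::
  ([nat_lit 8, nat_lit 9, nat_lit 3, nat_lit 8, nat_lit 1, nat_lit 6, nat_lit 7], (nat_lit 979837836), (nat_lit 0)) ::
  ([nat_lit 7, nat_lit 8, nat_lit 0, nat_lit 9, nat_lit 8, nat_lit 1], (nat_lit 979839141), (nat_lit 0)) ::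
  ([nat_lit 8, nat_lit 1, nat_lit 9, nat_lit 7, nat_lit 8, nat_lit 0, nat_lit 6], (nat_lit 980101090), (nat_lit 0)) ::
  ([nat_lit 7, nat_lit 8, nat_lit 1, nat_lit 3, nat_lit 9, nat_lit 8, nat_lit 2, nat_lit 5], (nat_lit 980620894), (nat_lit 0)) ::
  ([nat_lit 7, nat_lit 6, nat_lit 2, nat_lit 8, nat_lit 9], (nat_lit 980710481), (nat_lit 0)) ::
  ([nat_lit 7, nat_lit 8, nat_lit 2, nat_lit 9, nat_lit 3, nat_lit 6, nat_lit 8, nat_lit 1], (nat_lit 981951981), (nat_lit 0)) ::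
  ([nat_lit 8, nat_lit 9, nat_lit 1, nat_lit 8, nat_lit 2, nat_lit 6, nat_lit 4, nat_lit 10], (nat_lit 982930646), (nat_lit 0)) ::
  ([nat_lit 8, nat_lit 1, nat_lit 9, nat_lit 7, nat_lit 8, nat_lit 0, nat_lit 6, nat_lit 8], (nat_lit 983407148), (nat_lit 0)) ::
  ([nat_lit 7, nat_lit 6, nat_lit 8, nat_lit 9, nat_lit 1, nat_lit 8, nat_lit 1, nat_lit 10], (nat_lit 984757952), (nat_lit 0)) ::
  ([nat_lit 7, nat_lit 8, nat_lit 0, nat_lit 9, nat_lit 1, nat_lit 8, nat_lit 1, nat_lit 3], (nat_lit 985467874), (nat_lit 0)) ::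
  ([nat_lit 7, nat_lit 8, nat_lit 2, nat_lit 9, nat_lit 8, nat_lit 1, nat_lit 3, nat_lit 8], (nat_lit 985635175), (nat_lit 0)) ::
  ([nat_lit 7, nat_lit 8, nat_lit 2, nat_lit 9, nat_lit 3, nat_lit 8, nat_lit 0, nat_lit 1], (nat_lit 986275367), (nat_lit 0)) ::
  ([nat_lit 8, nat_lit 0, nat_lit 1, nat_lit 9, nat_lit 8, nat_lit 0, nat_lit 10], (nat_lit 986800325), (nat_lit 0)) ::
  ([nat_lit 8, nat_lit 1, nat_lit 9, nat_lit 7, nat_lit 6, nat_lit 2, nat_lit 10], (nat_lit 986928780), (nat_lit 0)) ::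
  ([nat_lit 7, nat_lit 6, nat_lit 0, nat_lit 8, nat_lit 0, nat_lit 9, nat_lit 8], (nat_lit 986949572), (nat_lit 0)) ::
  ([nat_lit 7, nat_lit 8, nat_lit 0, nat_lit 6, nat_lit 3, nat_lit 9], (nat_lit 987505033), (nat_lit 0)) ::
  ([nat_lit 7, nat_lit 8, nat_lit 0, nat_lit 9, nat_lit 8, nat_lit 2, nat_lit 6, nat_lit 0, nat_lit 7], (nat_lit 988470813), (nat_lit 0)) ::
  ([nat_lit 7, nat_lit 8, nat_lit 1, nat_lit 9, nat_lit 6, nat_lit 0, nat_lit 10], (nat_lit 989077660), (nat_lit 0)) ::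
  clD1750
noncomputable def clD1650 : List (List ℕ × ℕ × ℕ) :=
  ([nat_lit 8, nat_lit 1, nat_lit 6, nat_lit 9, nat_lit 7, nat_lit 8, nat_lit 0], (nat_lit 930660868), (nat_lit 0)) ::
  ([nat_lit 8, nat_lit 9, nat_lit 10, nat_lit 0, nat_lit 8], (nat_lit 930746138), (nat_lit 0)) ::
  ([nat_lit 8, nat_lit 9, nat_lit 10, nat_lit 0, nat_lit 7, nat_lit 8, nat_lit 6], (nat_lit 930976210), (nat_lit 0)) ::
  ([nat_lit 7, nat_lit 6, nat_lit 1, nat_lit 8, nat_lit 1, nat_lit 3], (nat_lit 931005424), (nat_lit 0)) ::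
  ([nat_lit 7, nat_lit 8, nat_lit 9, nat_lit 10, nat_lit 3, nat_lit 6], (nat_lit 931161528), (nat_lit 0)) ::
  ([nat_lit 7, nat_lit 6, nat_lit 8, nat_lit 1, nat_lit 3, nat_lit 9, nat_lit 8, nat_lit 0], (nat_lit 931281645), (nat_lit 0)) ::
  ([nat_lit 8, nat_lit 0, nat_lit 9, nat_lit 8, nat_lit 1, nat_lit 6], (nat_lit 931440209), (nat_lit 0)) ::
  ([nat_lit 7, nat_lit 8, nat_lit 6, nat_lit 9, nat_lit 6], (nat_lit 931448632), (nat_lit 0)) ::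
  ([nat_lit 8, nat_lit 9, nat_lit 1, nat_lit 6, nat_lit 8, nat_lit 0], (nat_lit 932262307), (nat_lit 15180)) ::
  ([nat_lit 7, nat_lit 8, nat_lit 6, nat_lit 9, nat_lit 6, nat_lit 3], (nat_lit 932613957), (nat_lit 0)) ::
  ([nat_lit 7, nat_lit 6, nat_lit 8, nat_lit 1, nat_lit 4], (nat_lit 933481223), (nat_lit 0)) ::
  ([nat_lit 7, nat_lit 8, nat_lit 3, nat_lit 9, nat_lit 8, nat_lit 10], (nat_lit 933721452), (nat_lit 0)) ::
  ([nat_lit 7, nat_lit 8, nat_lit 2, nat_lit 6, nat_lit 9, nat_lit 7], (nat_lit 934154305), (nat_lit 0)) ::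
  ([nat_lit 7, nat_lit 8, nat_lit 9, nat_lit 3, nat_lit 8, nat_lit 1, nat_lit 10], (nat_lit 934362307), (nat_lit 0)) ::
  ([nat_lit 7, nat_lit 6, nat_lit 8, nat_lit 9, nat_lit 8, nat_lit 0], (nat_lit 934495168), (nat_lit 0)) ::
  ([nat_lit 8, nat_lit 2, nat_lit 9, nat_lit 8, nat_lit 1, nat_lit 6, nat_lit 8], (nat_lit 934948792), (nat_lit 0)) ::
  ([nat_lit 7, nat_lit 6, nat_lit 8, nat_lit 9, nat_lit 6, nat_lit 2, nat_lit 8], (nat_lit 935808794), (nat_lit 0)) ::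
  ([nat_lit 7, nat_lit 6, nat_lit 1, nat_lit 8, nat_lit 9, nat_lit 1, nat_lit 5], (nat_lit 936916624), (nat_lit 0)) ::
  ([nat_lit 7, nat_lit 8, nat_lit 9, nat_lit 3, nat_lit 10], (nat_lit 937274057), (nat_lit 0)) ::
  ([nat_lit 7, nat_lit 6, nat_lit 1, nat_lit 8, nat_lit 9], (nat_lit 937421968), (nat_lit 0)) ::
  ([nat_lit 8, nat_lit 1, nat_lit 9, nat_lit 8, nat_lit 0], (nat_lit 938517666), (nat_lit 0)) ::
  ([nat_lit 7, nat_lit 8, nat_lit 1, nat_lit 9, nat_lit 10], (nat_lit 939303477), (nat_lit 0)) ::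
  ([nat_lit 8, nat_lit 1, nat_lit 9, nat_lit 8, nat_lit 0, nat_lit 10, nat_lit 9], (nat_lit 939932075), (nat_lit 0)) ::
  ([nat_lit 7, nat_lit 8, nat_lit 1, nat_lit 9, nat_lit 6, nat_lit 0, nat_lit 8, nat_lit 1], (nat_lit 940627742), (nat_lit 15180)) ::
  ([nat_lit 7, nat_lit 8, nat_lit 2, nat_lit 9, nat_lit 8, nat_lit 1, nat_lit 10], (nat_lit 941017484), (nat_lit 0)) ::
  ([nat_lit 7, nat_lit 6, nat_lit 8, nat_lit 1, nat_lit 9, nat_lit 8, nat_lit 0, nat_lit 7], (nat_lit 941206947), (nat_lit 0)) ::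
  ([nat_lit 8, nat_lit 9, nat_lit 3, nat_lit 8, nat_lit 0], (nat_lit 942266224), (nat_lit 0)) ::
  ([nat_lit 8, nat_lit 0, nat_lit 2, nat_lit 9, nat_lit 8, nat_lit 10, nat_lit 9], (nat_lit 942924810), (nat_lit 0)) ::
  ([nat_lit 7, nat_lit 6, nat_lit 8, nat_lit 9, nat_lit 6, nat_lit 1, nat_lit 8, nat_lit 0], (nat_lit 944304258), (nat_lit 0)) ::
  ([nat_lit 8, nat_lit 1, nat_lit 9, nat_lit 7, nat_lit 8, nat_lit 0, nat_lit 6, nat_lit 5], (nat_lit 944739941), (nat_lit 0)) ::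
  ([nat_lit 7, nat_lit 8, nat_lit 2, nat_lit 9, nat_lit 8, nat_lit 3, nat_lit 6], (nat_lit 945544870), (nat_lit 0)) ::
  ([nat_lit 7, nat_lit 8, nat_lit 2, nat_lit 6, nat_lit 9, nat_lit 8, nat_lit 3, nat_lit 5], (nat_lit 945609892), (nat_lit 0)) ::
  ([nat_lit 7, nat_lit 8, nat_lit 6, nat_lit 5, nat_lit 0, nat_lit 9, nat_lit 10], (nat_lit 945641051), (nat_lit 0)) ::
  ([nat_lit 7, nat_lit 6, nat_lit 8, nat_lit 0, nat_lit 2, nat_lit 9, nat_lit 8, nat_lit 10], (nat_lit 945917817), (nat_lit 0)) ::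
  ([nat_lit 7, nat_lit 8, nat_lit 2, nat_lit 5, nat_lit 9, nat_lit 8, nat_lit 1], (nat_lit 946291279), (nat_lit 0)) ::
  ([nat_lit 8, nat_lit 0, nat_lit 2, nat_lit 9, nat_lit 8, nat_lit 0, nat_lit 6, nat_lit 5], (nat_lit 946541083), (nat_lit 0)) ::
  ([nat_lit 7, nat_lit 6, nat_lit 1, nat_lit 4, nat_lit 8, nat_lit 0], (nat_lit 947121936), (nat_lit 0)) ::
  ([nat_lit 8, nat_lit 1, nat_lit 9, nat_lit 8, nat_lit 10, nat_lit 0, nat_lit 9], (nat_lit 950218946), (nat_lit 0)) ::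
  ([nat_lit 7, nat_lit 6, nat_lit 2, nat_lit 8, nat_lit 3], (nat_lit 950283550), (nat_lit 0)) ::
  ([nat_lit 8, nat_lit 9, nat_lit 1, nat_lit 6], (nat_lit 952374090), (nat_lit 0)) ::
  ([nat_lit 7, nat_lit 6, nat_lit 1, nat_lit 8, nat_lit 9, nat_lit 1], (nat_lit 953427778), (nat_lit 0)) ::
  ([nat_lit 7, nat_lit 8, nat_lit 2, nat_lit 5, nat_lit 9, nat_lit 8, nat_lit 0, nat_lit 6, nat_lit 3], (nat_lit 955009657), (nat_lit 0)) ::
  ([nat_lit 8, nat_lit 9, nat_lit 3, nat_lit 8, nat_lit 10, nat_lit 3, nat_lit 9], (nat_lit 955929477), (nat_lit 0)) ::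
  ([nat_lit 8, nat_lit 3], (nat_lit 956057138), (nat_lit 0)) ::
  ([nat_lit 7, nat_lit 6, nat_lit 1, nat_lit 8, nat_lit 0, nat_lit 9, nat_lit 8, nat_lit 1], (nat_lit 956205163), (nat_lit 0)) ::
  ([nat_lit 7, nat_lit 8, nat_lit 0, nat_lit 1, nat_lit 6, nat_lit 9], (nat_lit 956383493), (nat_lit 0)) ::
  ([nat_lit 8, nat_lit 0, nat_lit 9, nat_lit 8, nat_lit 10, nat_lit 0, nat_lit 8], (nat_lit 956827162), (nat_lit 0)) ::
  ([nat_lit 7, nat_lit 6, nat_lit 8, nat_lit 2, nat_lit 9, nat_lit 6, nat_lit 8, nat_lit 1], (nat_lit 956883900), (nat_lit 0)) ::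
  ([nat_lit 8, nat_lit 0, nat_lit 9, nat_lit 8, nat_lit 2, nat_lit 6, nat_lit 3], (nat_lit 957313976), (nat_lit 0)) ::
  ([nat_lit 8, nat_lit 1, nat_lit 9, nat_lit 7, nat_lit 8, nat_lit 2, nat_lit 5], (nat_lit 958116310), (nat_lit 0)) ::
  clD1700
noncomputable def clD1600 : List (List ℕ × ℕ × ℕ) :=
  ([nat_lit 7, nat_lit 8, nat_lit 0, nat_lit 1], (nat_lit 912115240), (nat_lit 0)) ::
  ([nat_lit 8, nat_lit 2, nat_lit 5, nat_lit 9, nat_lit 8, nat_lit 1], (nat_lit 912606471), (nat_lit 0)) ::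
  ([nat_lit 7, nat_lit 8, nat_lit 1, nat_lit 9, nat_lit 6, nat_lit 0, nat_lit 8, nat_lit 2], (nat_lit 912674388), (nat_lit 0)) ::
  ([nat_lit 7, nat_lit 6, nat_lit 0, nat_lit 8, nat_lit 9, nat_lit 3, nat_lit 8, nat_lit 1], (nat_lit 912872094), (nat_lit 0)) ::
  ([nat_lit 7, nat_lit 6, nat_lit 0, nat_lit 3, nat_lit 8, nat_lit 1, nat_lit 9], (nat_lit 912990891), (nat_lit 0)) ::
  ([nat_lit 8, nat_lit 0, nat_lit 2, nat_lit 9, nat_lit 8, nat_lit 1], (nat_lit 914100070), (nat_lit 0)) ::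
  ([nat_lit 8, nat_lit 1, nat_lit 4], (nat_lit 914466648), (nat_lit 0)) ::
  ([nat_lit 7, nat_lit 8, nat_lit 1, nat_lit 6, nat_lit 9], (nat_lit 914780275), (nat_lit 0)) ::
  ([nat_lit 8, nat_lit 3, nat_lit 9, nat_lit 6, nat_lit 8, nat_lit 10, nat_lit 0], (nat_lit 914833013), (nat_lit 0)) ::
  ([nat_lit 8, nat_lit 9, nat_lit 1, nat_lit 8, nat_lit 2, nat_lit 3], (nat_lit 914877049), (nat_lit 0)) ::
  ([nat_lit 8, nat_lit 2, nat_lit 9, nat_lit 8, nat_lit 1], (nat_lit 915318499), (nat_lit 0)) ::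
  ([nat_lit 8, nat_lit 1, nat_lit 9, nat_lit 8, nat_lit 0, nat_lit 1, nat_lit 8], (nat_lit 916097505), (nat_lit 0)) ::
  ([nat_lit 8, nat_lit 2, nat_lit 3, nat_lit 9, nat_lit 8, nat_lit 2], (nat_lit 916108818), (nat_lit 0)) ::
  ([nat_lit 8, nat_lit 1, nat_lit 6, nat_lit 7, nat_lit 9, nat_lit 8, nat_lit 10], (nat_lit 916287436), (nat_lit 0)) ::
  ([nat_lit 8, nat_lit 9, nat_lit 1, nat_lit 6, nat_lit 7, nat_lit 8, nat_lit 3], (nat_lit 916315062), (nat_lit 0)) ::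
  ([nat_lit 7, nat_lit 8, nat_lit 9, nat_lit 6, nat_lit 1, nat_lit 8, nat_lit 0, nat_lit 3], (nat_lit 916529399), (nat_lit 0)) ::
  ([nat_lit 7, nat_lit 8, nat_lit 2, nat_lit 6, nat_lit 9, nat_lit 8, nat_lit 1], (nat_lit 916619694), (nat_lit 0)) ::
  ([nat_lit 7, nat_lit 6, nat_lit 8, nat_lit 9, nat_lit 6, nat_lit 3], (nat_lit 917096472), (nat_lit 0)) ::
  ([nat_lit 8, nat_lit 0, nat_lit 2, nat_lit 9, nat_lit 10], (nat_lit 917535461), (nat_lit 0)) ::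
  ([nat_lit 8, nat_lit 1, nat_lit 9, nat_lit 7, nat_lit 8, nat_lit 0, nat_lit 10], (nat_lit 918149469), (nat_lit 0)) ::
  ([nat_lit 7, nat_lit 6, nat_lit 2, nat_lit 6, nat_lit 5], (nat_lit 918825839), (nat_lit 0)) ::
  ([nat_lit 7, nat_lit 8, nat_lit 0, nat_lit 9, nat_lit 8, nat_lit 2], (nat_lit 919156722), (nat_lit 0)) ::
  ([nat_lit 7, nat_lit 6, nat_lit 5, nat_lit 8, nat_lit 3, nat_lit 9, nat_lit 8, nat_lit 2, nat_lit 3], (nat_lit 919522888), (nat_lit 0)) ::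
  ([nat_lit 7, nat_lit 6, nat_lit 8, nat_lit 9, nat_lit 1, nat_lit 8, nat_lit 0, nat_lit 2], (nat_lit 919571011), (nat_lit 0)) ::
  ([nat_lit 8, nat_lit 1, nat_lit 9, nat_lit 7, nat_lit 6, nat_lit 5, nat_lit 8, nat_lit 2], (nat_lit 919735193), (nat_lit 0)) ::
  ([nat_lit 7, nat_lit 8, nat_lit 6, nat_lit 0, nat_lit 9, nat_lit 8, nat_lit 10], (nat_lit 919892529), (nat_lit 0)) ::
  ([nat_lit 8, nat_lit 1, nat_lit 9, nat_lit 7, nat_lit 6, nat_lit 0, nat_lit 8], (nat_lit 920170536), (nat_lit 0)) ::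
  ([nat_lit 7, nat_lit 6, nat_lit 5, nat_lit 8, nat_lit 1, nat_lit 9], (nat_lit 921094106), (nat_lit 0)) ::
  ([nat_lit 7, nat_lit 8, nat_lit 9, nat_lit 6, nat_lit 0, nat_lit 8, nat_lit 10], (nat_lit 921784074), (nat_lit 0)) ::
  ([nat_lit 7, nat_lit 6, nat_lit 1, nat_lit 8, nat_lit 3, nat_lit 9, nat_lit 6, nat_lit 8], (nat_lit 921938954), (nat_lit 0)) ::
  ([nat_lit 7, nat_lit 8, nat_lit 6, nat_lit 0], (nat_lit 922338614), (nat_lit 0)) ::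
  ([nat_lit 8, nat_lit 0, nat_lit 1, nat_lit 9, nat_lit 8, nat_lit 1, nat_lit 4], (nat_lit 922571471), (nat_lit 0)) ::
  ([nat_lit 8, nat_lit 2, nat_lit 3, nat_lit 9, nat_lit 8], (nat_lit 923298019), (nat_lit 0)) ::
  ([nat_lit 8, nat_lit 0, nat_lit 9, nat_lit 1, nat_lit 8, nat_lit 0, nat_lit 10], (nat_lit 923497929), (nat_lit 0)) ::
  ([nat_lit 8, nat_lit 0, nat_lit 9, nat_lit 8, nat_lit 10, nat_lit 0], (nat_lit 924298965), (nat_lit 0)) ::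
  ([nat_lit 8, nat_lit 9, nat_lit 10, nat_lit 0, nat_lit 8, nat_lit 1, nat_lit 2], (nat_lit 924313267), (nat_lit 0)) ::
  ([nat_lit 8, nat_lit 9, nat_lit 3, nat_lit 10], (nat_lit 924627592), (nat_lit 0)) ::
  ([nat_lit 8, nat_lit 0, nat_lit 7, nat_lit 6, nat_lit 9, nat_lit 8], (nat_lit 924649418), (nat_lit 0)) ::
  ([nat_lit 7, nat_lit 8, nat_lit 0, nat_lit 9, nat_lit 8, nat_lit 1, nat_lit 4, nat_lit 6], (nat_lit 924697515), (nat_lit 0)) ::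
  ([nat_lit 7, nat_lit 8, nat_lit 2, nat_lit 9, nat_lit 8, nat_lit 1, nat_lit 3], (nat_lit 924700947), (nat_lit 0)) ::
  ([nat_lit 7, nat_lit 8, nat_lit 3, nat_lit 9, nat_lit 10], (nat_lit 924726382), (nat_lit 0)) ::
  ([nat_lit 7, nat_lit 8, nat_lit 0, nat_lit 1, nat_lit 9, nat_lit 8, nat_lit 1, nat_lit 5], (nat_lit 924984401), (nat_lit 0)) ::
  ([nat_lit 7, nat_lit 6, nat_lit 3, nat_lit 8, nat_lit 0, nat_lit 9, nat_lit 8, nat_lit 0], (nat_lit 925613593), (nat_lit 0)) ::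
  ([nat_lit 8, nat_lit 1, nat_lit 9, nat_lit 8, nat_lit 10, nat_lit 3], (nat_lit 925807169), (nat_lit 0)) ::
  ([nat_lit 7, nat_lit 8, nat_lit 9, nat_lit 10, nat_lit 3, nat_lit 6, nat_lit 8, nat_lit 0], (nat_lit 926227745), (nat_lit 0)) ::
  ([nat_lit 8, nat_lit 1, nat_lit 6, nat_lit 7, nat_lit 9], (nat_lit 929091432), (nat_lit 0)) ::
  ([nat_lit 8, nat_lit 1, nat_lit 9, nat_lit 8, nat_lit 3, nat_lit 6], (nat_lit 929377613), (nat_lit 0)) ::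
  ([nat_lit 8, nat_lit 1, nat_lit 9, nat_lit 3, nat_lit 8], (nat_lit 929718763), (nat_lit 0)) ::
  ([nat_lit 7, nat_lit 8, nat_lit 9, nat_lit 6, nat_lit 1], (nat_lit 929748265), (nat_lit 0)) ::
  ([nat_lit 8, nat_lit 0, nat_lit 9, nat_lit 8, nat_lit 0, nat_lit 6, nat_lit 7], (nat_lit 930130693), (nat_lit 0)) ::
  clD1650
noncomputable def clD1550 : List (List ℕ × ℕ × ℕ) :=
  ([nat_lit 8, nat_lit 1, nat_lit 9, nat_lit 8, nat_lit 0, nat_lit 10, nat_lit 9, nat_lit 6], (nat_lit 882883295), (nat_lit 0)) ::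
  ([nat_lit 7, nat_lit 6, nat_lit 8, nat_lit 9, nat_lit 1, nat_lit 8, nat_lit 3, nat_lit 6], (nat_lit 883384008), (nat_lit 0)) ::
  ([nat_lit 7, nat_lit 8, nat_lit 9, nat_lit 6, nat_lit 0, nat_lit 10], (nat_lit 883483942), (nat_lit 0)) ::
  ([nat_lit 8, nat_lit 0, nat_lit 1, nat_lit 9, nat_lit 6, nat_lit 8, nat_lit 1, nat_lit 10], (nat_lit 883831057), (nat_lit 0)) ::
  ([nat_lit 7, nat_lit 8, nat_lit 3, nat_lit 6, nat_lit 3, nat_lit 9, nat_lit 8], (nat_lit 883897388), (nat_lit 0)) ::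
  ([nat_lit 7, nat_lit 8, nat_lit 1, nat_lit 3, nat_lit 9, nat_lit 8, nat_lit 1, nat_lit 5], (nat_lit 885163677), (nat_lit 0)) ::
  ([nat_lit 7, nat_lit 8, nat_lit 6, nat_lit 9, nat_lit 6, nat_lit 2], (nat_lit 885288141), (nat_lit 0)) ::
  ([nat_lit 7, nat_lit 8, nat_lit 3, nat_lit 10, nat_lit 9, nat_lit 8, nat_lit 0], (nat_lit 887309143), (nat_lit 0)) ::
  ([nat_lit 7, nat_lit 6, nat_lit 3, nat_lit 8, nat_lit 0, nat_lit 9, nat_lit 10], (nat_lit 887508009), (nat_lit 0)) ::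
  ([nat_lit 7, nat_lit 6, nat_lit 5, nat_lit 8, nat_lit 0, nat_lit 9, nat_lit 8], (nat_lit 887568624), (nat_lit 0)) ::
  ([nat_lit 8, nat_lit 1, nat_lit 9, nat_lit 7, nat_lit 6, nat_lit 0], (nat_lit 888113554), (nat_lit 0)) ::
  ([nat_lit 8, nat_lit 1, nat_lit 9, nat_lit 8, nat_lit 3], (nat_lit 888659517), (nat_lit 0)) ::
  ([nat_lit 7, nat_lit 8, nat_lit 2, nat_lit 3, nat_lit 9, nat_lit 8, nat_lit 0], (nat_lit 889155708), (nat_lit 0)) ::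
  ([nat_lit 8, nat_lit 0, nat_lit 9, nat_lit 1, nat_lit 8, nat_lit 1, nat_lit 2], (nat_lit 891060594), (nat_lit 0)) ::
  ([nat_lit 7], (nat_lit 891128810), (nat_lit 0)) ::
  ([nat_lit 8, nat_lit 2, nat_lit 3, nat_lit 9, nat_lit 8, nat_lit 10, nat_lit 9], (nat_lit 893930108), (nat_lit 0)) ::
  ([nat_lit 8, nat_lit 3, nat_lit 9, nat_lit 6, nat_lit 8, nat_lit 10, nat_lit 9], (nat_lit 894309048), (nat_lit 0)) ::
  ([nat_lit 8, nat_lit 1, nat_lit 9, nat_lit 7, nat_lit 6, nat_lit 2, nat_lit 8], (nat_lit 894844585), (nat_lit 0)) ::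
  ([nat_lit 7, nat_lit 8, nat_lit 0, nat_lit 9, nat_lit 8, nat_lit 1, nat_lit 2], (nat_lit 895030965), (nat_lit 0)) ::
  ([nat_lit 7, nat_lit 6, nat_lit 8, nat_lit 0, nat_lit 2, nat_lit 9, nat_lit 8, nat_lit 2], (nat_lit 896251780), (nat_lit 0)) ::
  ([nat_lit 7, nat_lit 8, nat_lit 0, nat_lit 9, nat_lit 8, nat_lit 0, nat_lit 6, nat_lit 8], (nat_lit 897252415), (nat_lit 0)) ::
  ([nat_lit 7, nat_lit 8, nat_lit 1, nat_lit 6, nat_lit 4], (nat_lit 897405379), (nat_lit 0)) ::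
  ([nat_lit 8, nat_lit 2, nat_lit 3], (nat_lit 897439403), (nat_lit 0)) ::
  ([nat_lit 8, nat_lit 1, nat_lit 9, nat_lit 8, nat_lit 10, nat_lit 9], (nat_lit 900230790), (nat_lit 0)) ::
  ([nat_lit 7, nat_lit 8, nat_lit 6, nat_lit 1, nat_lit 4], (nat_lit 900841332), (nat_lit 0)) ::
  ([nat_lit 7, nat_lit 8, nat_lit 9, nat_lit 10, nat_lit 0, nat_lit 8], (nat_lit 901388042), (nat_lit 0)) ::
  ([nat_lit 7, nat_lit 6, nat_lit 2, nat_lit 8, nat_lit 3, nat_lit 9], (nat_lit 902012673), (nat_lit 0)) ::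
  ([nat_lit 7, nat_lit 8, nat_lit 6, nat_lit 0, nat_lit 3], (nat_lit 902317628), (nat_lit 0)) ::
  ([nat_lit 8, nat_lit 1, nat_lit 6, nat_lit 7], (nat_lit 902372088), (nat_lit 0)) ::
  ([nat_lit 8, nat_lit 0, nat_lit 7, nat_lit 6, nat_lit 9, nat_lit 8, nat_lit 0], (nat_lit 903251563), (nat_lit 0)) ::
  ([nat_lit 7, nat_lit 8, nat_lit 3, nat_lit 9, nat_lit 8, nat_lit 1, nat_lit 10], (nat_lit 903386885), (nat_lit 0)) ::
  ([nat_lit 7, nat_lit 6, nat_lit 1, nat_lit 8, nat_lit 1, nat_lit 5, nat_lit 9], (nat_lit 903790763), (nat_lit 0)) ::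
  ([nat_lit 7, nat_lit 8, nat_lit 2, nat_lit 9, nat_lit 3, nat_lit 6, nat_lit 10], (nat_lit 904122457), (nat_lit 0)) ::
  ([nat_lit 8, nat_lit 9, nat_lit 10, nat_lit 0, nat_lit 7, nat_lit 8, nat_lit 2], (nat_lit 904447079), (nat_lit 0)) ::
  ([nat_lit 7, nat_lit 8, nat_lit 0, nat_lit 9, nat_lit 8, nat_lit 6, nat_lit 0], (nat_lit 905552228), (nat_lit 0)) ::
  ([nat_lit 7, nat_lit 8, nat_lit 2, nat_lit 5, nat_lit 6, nat_lit 9], (nat_lit 906391745), (nat_lit 0)) ::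
  ([nat_lit 7, nat_lit 8, nat_lit 1, nat_lit 3, nat_lit 6, nat_lit 8, nat_lit 9], (nat_lit 906709543), (nat_lit 0)) ::
  ([nat_lit 7, nat_lit 8, nat_lit 0, nat_lit 6, nat_lit 3, nat_lit 8], (nat_lit 907325882), (nat_lit 0)) ::
  ([nat_lit 7, nat_lit 8, nat_lit 3, nat_lit 6, nat_lit 10, nat_lit 9, nat_lit 8, nat_lit 2], (nat_lit 908723948), (nat_lit 0)) ::
  ([nat_lit 7, nat_lit 6, nat_lit 8, nat_lit 1, nat_lit 9, nat_lit 10], (nat_lit 909372481), (nat_lit 0)) ::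
  ([nat_lit 7, nat_lit 6, nat_lit 8, nat_lit 9, nat_lit 3, nat_lit 6, nat_lit 8], (nat_lit 909506602), (nat_lit 0)) ::
  ([nat_lit 8, nat_lit 0, nat_lit 9], (nat_lit 909856197), (nat_lit 0)) ::
  ([nat_lit 7, nat_lit 8, nat_lit 9, nat_lit 10, nat_lit 0, nat_lit 8, nat_lit 6], (nat_lit 909864398), (nat_lit 0)) ::
  ([nat_lit 7, nat_lit 6, nat_lit 4, nat_lit 8, nat_lit 9], (nat_lit 909956909), (nat_lit 0)) ::
  ([nat_lit 7, nat_lit 6, nat_lit 8, nat_lit 2, nat_lit 9, nat_lit 8, nat_lit 0], (nat_lit 910079879), (nat_lit 0)) ::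
  ([nat_lit 7, nat_lit 8, nat_lit 1, nat_lit 9, nat_lit 6, nat_lit 0, nat_lit 8, nat_lit 10], (nat_lit 910791096), (nat_lit 0)) ::
  ([nat_lit 7, nat_lit 8, nat_lit 2, nat_lit 9, nat_lit 8, nat_lit 3, nat_lit 6, nat_lit 0], (nat_lit 910873098), (nat_lit 0)) ::
  ([nat_lit 8, nat_lit 1, nat_lit 9, nat_lit 7, nat_lit 8, nat_lit 10], (nat_lit 911031399), (nat_lit 0)) ::
  ([nat_lit 7, nat_lit 6, nat_lit 1, nat_lit 4, nat_lit 8, nat_lit 3], (nat_lit 911988683), (nat_lit 0)) ::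
  ([nat_lit 7, nat_lit 8, nat_lit 2, nat_lit 9, nat_lit 8, nat_lit 1, nat_lit 6], (nat_lit 912041610), (nat_lit 0)) ::
  clD1600
noncomputable def clD1500 : List (List ℕ × ℕ × ℕ) :=
  ([nat_lit 7, nat_lit 6, nat_lit 8, nat_lit 0, nat_lit 9, nat_lit 8], (nat_lit 862891392), (nat_lit 0)) ::
  ([nat_lit 7, nat_lit 8, nat_lit 2, nat_lit 5, nat_lit 9, nat_lit 6, nat_lit 8, nat_lit 3], (nat_lit 862914984), (nat_lit 0)) ::
  ([nat_lit 7, nat_lit 8, nat_lit 6, nat_lit 3, nat_lit 4], (nat_lit 862927995), (nat_lit 0)) ::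
  ([nat_lit 7, nat_lit 8, nat_lit 6, nat_lit 9, nat_lit 6, nat_lit 3, nat_lit 10], (nat_lit 863080245), (nat_lit 0)) ::
  ([nat_lit 8, nat_lit 3, nat_lit 9, nat_lit 6, nat_lit 8, nat_lit 0, nat_lit 7], (nat_lit 863426028), (nat_lit 0)) ::
  ([nat_lit 8, nat_lit 1, nat_lit 9, nat_lit 8], (nat_lit 864099620), (nat_lit 0)) ::
  ([nat_lit 8, nat_lit 0, nat_lit 1, nat_lit 9, nat_lit 8, nat_lit 1, nat_lit 9, nat_lit 6], (nat_lit 864234219), (nat_lit 0)) ::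
  ([nat_lit 7, nat_lit 8, nat_lit 9, nat_lit 3, nat_lit 6, nat_lit 8, nat_lit 2, nat_lit 5], (nat_lit 864911334), (nat_lit 0)) ::
  ([nat_lit 7, nat_lit 8, nat_lit 3, nat_lit 6, nat_lit 9, nat_lit 10, nat_lit 9, nat_lit 8], (nat_lit 865301049), (nat_lit 0)) ::
  ([nat_lit 8, nat_lit 2, nat_lit 3, nat_lit 9, nat_lit 8, nat_lit 2, nat_lit 10], (nat_lit 866646993), (nat_lit 0)) ::
  ([nat_lit 7, nat_lit 6, nat_lit 8, nat_lit 9, nat_lit 6, nat_lit 10, nat_lit 0, nat_lit 8], (nat_lit 867780891), (nat_lit 0)) ::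
  ([nat_lit 7, nat_lit 6, nat_lit 4, nat_lit 8, nat_lit 9, nat_lit 1, nat_lit 8, nat_lit 3, nat_lit 5], (nat_lit 867798432), (nat_lit 0)) ::
  ([nat_lit 7, nat_lit 8, nat_lit 6, nat_lit 9, nat_lit 3, nat_lit 8, nat_lit 2], (nat_lit 868531246), (nat_lit 0)) ::
  ([nat_lit 7, nat_lit 6, nat_lit 8, nat_lit 2, nat_lit 9, nat_lit 8, nat_lit 2, nat_lit 10], (nat_lit 868756008), (nat_lit 0)) ::
  ([nat_lit 7, nat_lit 6, nat_lit 0, nat_lit 8, nat_lit 6], (nat_lit 869763731), (nat_lit 0)) ::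
  ([nat_lit 7, nat_lit 6, nat_lit 8, nat_lit 2, nat_lit 4], (nat_lit 870260279), (nat_lit 0)) ::
  ([nat_lit 7, nat_lit 8, nat_lit 9, nat_lit 3, nat_lit 8, nat_lit 0, nat_lit 10], (nat_lit 870686096), (nat_lit 0)) ::
  ([nat_lit 7, nat_lit 6, nat_lit 1, nat_lit 8, nat_lit 0, nat_lit 9, nat_lit 8, nat_lit 3, nat_lit 6], (nat_lit 870877398), (nat_lit 0)) ::
  ([nat_lit 7, nat_lit 6, nat_lit 4, nat_lit 8, nat_lit 2, nat_lit 9, nat_lit 10], (nat_lit 870881090), (nat_lit 0)) ::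
  ([nat_lit 8, nat_lit 1, nat_lit 9, nat_lit 7, nat_lit 8, nat_lit 2], (nat_lit 871217360), (nat_lit 0)) ::
  ([nat_lit 7, nat_lit 8, nat_lit 0, nat_lit 9, nat_lit 8, nat_lit 1, nat_lit 4, nat_lit 6, nat_lit 0], (nat_lit 872056635), (nat_lit 0)) ::
  ([nat_lit 8, nat_lit 0, nat_lit 9, nat_lit 8], (nat_lit 872102748), (nat_lit 0)) ::
  ([nat_lit 7, nat_lit 8, nat_lit 6, nat_lit 0, nat_lit 9, nat_lit 6], (nat_lit 872271278), (nat_lit 0)) ::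
  ([nat_lit 7, nat_lit 8, nat_lit 3, nat_lit 9, nat_lit 8, nat_lit 6, nat_lit 3], (nat_lit 872631532), (nat_lit 0)) ::
  ([nat_lit 7, nat_lit 8, nat_lit 3, nat_lit 6, nat_lit 3, nat_lit 9, nat_lit 8, nat_lit 3], (nat_lit 872812506), (nat_lit 0)) ::
  ([nat_lit 8, nat_lit 9, nat_lit 3, nat_lit 8, nat_lit 10, nat_lit 9], (nat_lit 872825157), (nat_lit 0)) ::
  ([nat_lit 7, nat_lit 8, nat_lit 9, nat_lit 6, nat_lit 1, nat_lit 5, nat_lit 8, nat_lit 2], (nat_lit 872893137), (nat_lit 0)) ::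
  ([nat_lit 7, nat_lit 6, nat_lit 8, nat_lit 0, nat_lit 6, nat_lit 9, nat_lit 8, nat_lit 0], (nat_lit 873012759), (nat_lit 0)) ::
  ([nat_lit 7, nat_lit 8, nat_lit 3, nat_lit 9, nat_lit 6, nat_lit 8, nat_lit 2], (nat_lit 873122196), (nat_lit 0)) ::
  ([nat_lit 7, nat_lit 8, nat_lit 0, nat_lit 6, nat_lit 7], (nat_lit 873445560), (nat_lit 0)) ::
  ([nat_lit 7, nat_lit 8, nat_lit 2, nat_lit 9, nat_lit 8, nat_lit 1, nat_lit 10, nat_lit 9], (nat_lit 873568246), (nat_lit 0)) ::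
  ([nat_lit 7, nat_lit 6, nat_lit 8, nat_lit 2, nat_lit 3, nat_lit 9, nat_lit 8, nat_lit 3], (nat_lit 873687238), (nat_lit 0)) ::
  ([nat_lit 7, nat_lit 8, nat_lit 9, nat_lit 3, nat_lit 8, nat_lit 1], (nat_lit 874175594), (nat_lit 0)) ::
  ([nat_lit 8, nat_lit 1, nat_lit 3], (nat_lit 875168691), (nat_lit 0)) ::
  ([nat_lit 7, nat_lit 6, nat_lit 4, nat_lit 8, nat_lit 3, nat_lit 9, nat_lit 10], (nat_lit 875191741), (nat_lit 0)) ::
  ([nat_lit 8, nat_lit 1, nat_lit 9, nat_lit 7, nat_lit 6, nat_lit 0, nat_lit 10], (nat_lit 875194275), (nat_lit 0)) ::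
  ([nat_lit 8, nat_lit 1, nat_lit 9, nat_lit 3], (nat_lit 875292614), (nat_lit 0)) ::
  ([nat_lit 7, nat_lit 8, nat_lit 9, nat_lit 6], (nat_lit 875353085), (nat_lit 0)) ::
  ([nat_lit 8, nat_lit 1, nat_lit 9, nat_lit 7, nat_lit 8, nat_lit 3, nat_lit 6], (nat_lit 875378088), (nat_lit 0)) ::
  ([nat_lit 7, nat_lit 8, nat_lit 9, nat_lit 3, nat_lit 8, nat_lit 2, nat_lit 10], (nat_lit 875738672), (nat_lit 0)) ::
  ([nat_lit 7, nat_lit 8, nat_lit 3, nat_lit 9, nat_lit 8, nat_lit 1, nat_lit 6, nat_lit 7], (nat_lit 875856811), (nat_lit 0)) ::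
  ([nat_lit 7, nat_lit 8, nat_lit 2, nat_lit 5, nat_lit 9, nat_lit 8, nat_lit 0, nat_lit 1], (nat_lit 876156774), (nat_lit 0)) ::
  ([nat_lit 8, nat_lit 0, nat_lit 9, nat_lit 10, nat_lit 3], (nat_lit 878281147), (nat_lit 0)) ::
  ([nat_lit 8, nat_lit 1, nat_lit 9, nat_lit 7, nat_lit 8, nat_lit 1], (nat_lit 879448962), (nat_lit 0)) ::
  ([nat_lit 7, nat_lit 8, nat_lit 3, nat_lit 9, nat_lit 8, nat_lit 3, nat_lit 6], (nat_lit 879967950), (nat_lit 0)) ::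
  ([nat_lit 7, nat_lit 8, nat_lit 6, nat_lit 0, nat_lit 9, nat_lit 10, nat_lit 3], (nat_lit 879976437), (nat_lit 0)) ::
  ([nat_lit 7, nat_lit 8, nat_lit 2, nat_lit 9, nat_lit 3, nat_lit 8, nat_lit 2], (nat_lit 880629274), (nat_lit 0)) ::
  ([nat_lit 7, nat_lit 8, nat_lit 2, nat_lit 9, nat_lit 8, nat_lit 0, nat_lit 10], (nat_lit 881108484), (nat_lit 0)) ::
  ([nat_lit 7, nat_lit 8, nat_lit 1, nat_lit 9, nat_lit 6, nat_lit 4], (nat_lit 881907379), (nat_lit 0)) ::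
  ([nat_lit 8, nat_lit 0, nat_lit 2, nat_lit 9], (nat_lit 882667450), (nat_lit 0)) ::
  clD1550
noncomputable def clD1450 : List (List ℕ × ℕ × ℕ) :=
  ([nat_lit 7, nat_lit 6, nat_lit 5, nat_lit 8, nat_lit 9, nat_lit 1, nat_lit 10], (nat_lit 838778315), (nat_lit 0)) ::
  ([nat_lit 7, nat_lit 8, nat_lit 0, nat_lit 9, nat_lit 8, nat_lit 6], (nat_lit 838931691), (nat_lit 0)) ::
  ([nat_lit 7, nat_lit 8, nat_lit 9, nat_lit 6, nat_lit 0, nat_lit 8, nat_lit 9], (nat_lit 839513886), (nat_lit 0)) ::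
  ([nat_lit 8, nat_lit 2, nat_lit 9, nat_lit 3, nat_lit 8, nat_lit 10], (nat_lit 840951383), (nat_lit 0)) ::
  ([nat_lit 7, nat_lit 6, nat_lit 8, nat_lit 0, nat_lit 4, nat_lit 2], (nat_lit 841061586), (nat_lit 0)) ::
  ([nat_lit 7, nat_lit 6, nat_lit 8, nat_lit 0, nat_lit 6], (nat_lit 841696812), (nat_lit 0)) ::
  ([nat_lit 7, nat_lit 6, nat_lit 8, nat_lit 2, nat_lit 9, nat_lit 8], (nat_lit 841853844), (nat_lit 0)) ::
  ([nat_lit 8, nat_lit 9, nat_lit 3, nat_lit 8, nat_lit 10, nat_lit 3, nat_lit 6], (nat_lit 842304029), (nat_lit 0)) ::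
  ([nat_lit 7, nat_lit 8, nat_lit 9, nat_lit 10, nat_lit 3, nat_lit 8, nat_lit 6], (nat_lit 842598657), (nat_lit 0)) ::
  ([nat_lit 8, nat_lit 0, nat_lit 9, nat_lit 8, nat_lit 10, nat_lit 9, nat_lit 1], (nat_lit 842666964), (nat_lit 0)) ::
  ([nat_lit 8, nat_lit 1, nat_lit 9, nat_lit 7, nat_lit 8, nat_lit 1, nat_lit 6], (nat_lit 843069237), (nat_lit 0)) ::
  ([nat_lit 7, nat_lit 8, nat_lit 3, nat_lit 9, nat_lit 8, nat_lit 1], (nat_lit 843701036), (nat_lit 0)) ::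
  ([nat_lit 8, nat_lit 9, nat_lit 10, nat_lit 3, nat_lit 8, nat_lit 1, nat_lit 6, nat_lit 9], (nat_lit 844618461), (nat_lit 0)) ::
  ([nat_lit 7, nat_lit 6, nat_lit 8, nat_lit 0, nat_lit 2, nat_lit 9, nat_lit 8, nat_lit 1, nat_lit 10], (nat_lit 845530976), (nat_lit 0)) ::
  ([nat_lit 7, nat_lit 6, nat_lit 5, nat_lit 8, nat_lit 2, nat_lit 9, nat_lit 8], (nat_lit 846048813), (nat_lit 0)) ::
  ([nat_lit 7, nat_lit 6, nat_lit 0, nat_lit 8, nat_lit 9, nat_lit 3, nat_lit 8], (nat_lit 846080349), (nat_lit 0)) ::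
  ([nat_lit 7, nat_lit 8, nat_lit 0, nat_lit 6, nat_lit 4, nat_lit 9, nat_lit 10], (nat_lit 846097391), (nat_lit 0)) ::
  ([nat_lit 7, nat_lit 8, nat_lit 2, nat_lit 9, nat_lit 6, nat_lit 8, nat_lit 3], (nat_lit 846427458), (nat_lit 0)) ::
  ([nat_lit 7, nat_lit 8, nat_lit 0, nat_lit 6, nat_lit 5, nat_lit 9, nat_lit 10], (nat_lit 846567327), (nat_lit 0)) ::
  ([nat_lit 7, nat_lit 8, nat_lit 9, nat_lit 6, nat_lit 10], (nat_lit 847018677), (nat_lit 0)) ::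
  ([nat_lit 7, nat_lit 6, nat_lit 8, nat_lit 0, nat_lit 9, nat_lit 8, nat_lit 0, nat_lit 1], (nat_lit 847468163), (nat_lit 0)) ::
  ([nat_lit 7, nat_lit 6, nat_lit 8, nat_lit 3, nat_lit 9, nat_lit 1, nat_lit 8, nat_lit 0], (nat_lit 848019377), (nat_lit 0)) ::
  ([nat_lit 7, nat_lit 8, nat_lit 6, nat_lit 5], (nat_lit 848249564), (nat_lit 0)) ::
  ([nat_lit 8, nat_lit 2, nat_lit 5, nat_lit 9, nat_lit 8, nat_lit 3], (nat_lit 848504853), (nat_lit 0)) ::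
  ([nat_lit 8, nat_lit 0, nat_lit 2, nat_lit 9, nat_lit 8, nat_lit 2, nat_lit 10], (nat_lit 849218696), (nat_lit 0)) ::
  ([nat_lit 7, nat_lit 6, nat_lit 0, nat_lit 8, nat_lit 0, nat_lit 9], (nat_lit 849422502), (nat_lit 0)) ::
  ([nat_lit 7, nat_lit 8, nat_lit 0, nat_lit 9, nat_lit 8, nat_lit 6, nat_lit 0, nat_lit 8], (nat_lit 849438207), (nat_lit 0)) ::
  ([nat_lit 7, nat_lit 8, nat_lit 0, nat_lit 9, nat_lit 8, nat_lit 10, nat_lit 9, nat_lit 6], (nat_lit 849947942), (nat_lit 0)) ::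
  ([nat_lit 8, nat_lit 3, nat_lit 9, nat_lit 8, nat_lit 3, nat_lit 6, nat_lit 7], (nat_lit 850181090), (nat_lit 0)) ::
  ([nat_lit 7, nat_lit 6, nat_lit 4], (nat_lit 851209958), (nat_lit 0)) ::
  ([nat_lit 7, nat_lit 8, nat_lit 2, nat_lit 9, nat_lit 8, nat_lit 6, nat_lit 1], (nat_lit 852250983), (nat_lit 0)) ::
  ([nat_lit 7, nat_lit 6, nat_lit 3, nat_lit 8, nat_lit 1, nat_lit 9], (nat_lit 852279915), (nat_lit 0)) ::
  ([nat_lit 8, nat_lit 0, nat_lit 1, nat_lit 9, nat_lit 6, nat_lit 8, nat_lit 0, nat_lit 3], (nat_lit 853161468), (nat_lit 0)) ::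
  ([nat_lit 8, nat_lit 9, nat_lit 3, nat_lit 8, nat_lit 0, nat_lit 10], (nat_lit 853171486), (nat_lit 0)) ::
  ([nat_lit 8, nat_lit 0, nat_lit 9, nat_lit 8, nat_lit 6, nat_lit 10, nat_lit 0], (nat_lit 853453817), (nat_lit 0)) ::
  ([nat_lit 8, nat_lit 3, nat_lit 9, nat_lit 6, nat_lit 8, nat_lit 1], (nat_lit 853584751), (nat_lit 15180)) ::
  ([nat_lit 8, nat_lit 0, nat_lit 9, nat_lit 1, nat_lit 8, nat_lit 3], (nat_lit 854000985), (nat_lit 0)) ::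
  ([nat_lit 7, nat_lit 6, nat_lit 1, nat_lit 4, nat_lit 8, nat_lit 1], (nat_lit 854511517), (nat_lit 0)) ::
  ([nat_lit 7, nat_lit 6, nat_lit 4, nat_lit 8, nat_lit 2, nat_lit 4], (nat_lit 854712246), (nat_lit 0)) ::
  ([nat_lit 8, nat_lit 3, nat_lit 9, nat_lit 6], (nat_lit 855888320), (nat_lit 0)) ::
  ([nat_lit 7, nat_lit 6, nat_lit 8, nat_lit 9, nat_lit 3, nat_lit 8, nat_lit 9, nat_lit 1], (nat_lit 856489468), (nat_lit 0)) ::
  ([nat_lit 8, nat_lit 1, nat_lit 9, nat_lit 7, nat_lit 6, nat_lit 2, nat_lit 8, nat_lit 10], (nat_lit 856579757), (nat_lit 0)) ::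
  ([nat_lit 7, nat_lit 8, nat_lit 2, nat_lit 9, nat_lit 3, nat_lit 8, nat_lit 6, nat_lit 0], (nat_lit 857183692), (nat_lit 0)) ::
  ([nat_lit 7, nat_lit 6, nat_lit 8, nat_lit 1, nat_lit 9, nat_lit 8, nat_lit 1, nat_lit 5], (nat_lit 857766739), (nat_lit 0)) ::
  ([nat_lit 7, nat_lit 6, nat_lit 1, nat_lit 8, nat_lit 0, nat_lit 9, nat_lit 8, nat_lit 2], (nat_lit 857908378), (nat_lit 0)) ::
  ([nat_lit 7, nat_lit 6, nat_lit 4, nat_lit 8, nat_lit 2, nat_lit 9], (nat_lit 857957825), (nat_lit 0)) ::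
  ([nat_lit 7, nat_lit 8, nat_lit 2, nat_lit 9, nat_lit 8, nat_lit 6, nat_lit 3], (nat_lit 858820968), (nat_lit 0)) ::
  ([nat_lit 7, nat_lit 8, nat_lit 9, nat_lit 1, nat_lit 6], (nat_lit 859301428), (nat_lit 0)) ::
  ([nat_lit 8, nat_lit 0, nat_lit 1, nat_lit 9, nat_lit 8, nat_lit 2], (nat_lit 861075629), (nat_lit 0)) ::
  ([nat_lit 7, nat_lit 8, nat_lit 6, nat_lit 1, nat_lit 9, nat_lit 3, nat_lit 8, nat_lit 0], (nat_lit 862091919), (nat_lit 0)) ::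
  clD1500
noncomputable def clD1400 : List (List ℕ × ℕ × ℕ) :=
  ([nat_lit 7, nat_lit 8, nat_lit 3, nat_lit 9, nat_lit 8, nat_lit 1, nat_lit 6], (nat_lit 806903260), (nat_lit 0)) ::
  ([nat_lit 7, nat_lit 8, nat_lit 0, nat_lit 9, nat_lit 8, nat_lit 2, nat_lit 6, nat_lit 3, nat_lit 7], (nat_lit 807234722), (nat_lit 0)) ::
  ([nat_lit 7, nat_lit 8, nat_lit 3, nat_lit 10, nat_lit 9, nat_lit 8, nat_lit 3], (nat_lit 809281487), (nat_lit 0)) ::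
  ([nat_lit 8, nat_lit 0, nat_lit 9, nat_lit 8, nat_lit 2, nat_lit 4], (nat_lit 809675424), (nat_lit 0)) ::
  ([nat_lit 7, nat_lit 8, nat_lit 9, nat_lit 3, nat_lit 8], (nat_lit 809730762), (nat_lit 0)) ::
  ([nat_lit 7, nat_lit 8, nat_lit 2, nat_lit 6, nat_lit 9, nat_lit 10], (nat_lit 809904874), (nat_lit 0)) ::
  ([nat_lit 7, nat_lit 6, nat_lit 8, nat_lit 9, nat_lit 3, nat_lit 8, nat_lit 0, nat_lit 1, nat_lit 8], (nat_lit 810894642), (nat_lit 0)) ::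
  ([nat_lit 7, nat_lit 6, nat_lit 8, nat_lit 1, nat_lit 3], (nat_lit 811049256), (nat_lit 0)) ::
  ([nat_lit 8, nat_lit 1, nat_lit 6, nat_lit 9, nat_lit 7, nat_lit 8, nat_lit 10], (nat_lit 812062513), (nat_lit 0)) ::
  ([nat_lit 7, nat_lit 6, nat_lit 0], (nat_lit 813511106), (nat_lit 0)) ::
  ([nat_lit 8, nat_lit 0, nat_lit 9, nat_lit 8, nat_lit 0, nat_lit 10, nat_lit 9], (nat_lit 815043254), (nat_lit 0)) ::
  ([nat_lit 7, nat_lit 8, nat_lit 9, nat_lit 10], (nat_lit 815476274), (nat_lit 0)) ::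
  ([nat_lit 7, nat_lit 8, nat_lit 6, nat_lit 9, nat_lit 3, nat_lit 10], (nat_lit 815752476), (nat_lit 0)) ::
  ([nat_lit 8, nat_lit 0, nat_lit 1, nat_lit 7, nat_lit 6], (nat_lit 815922899), (nat_lit 0)) ::
  ([nat_lit 7, nat_lit 6, nat_lit 0, nat_lit 8, nat_lit 9], (nat_lit 815971489), (nat_lit 0)) ::
  ([nat_lit 7, nat_lit 6, nat_lit 8, nat_lit 0, nat_lit 8, nat_lit 9], (nat_lit 816019058), (nat_lit 0)) ::
  ([nat_lit 7, nat_lit 8, nat_lit 3, nat_lit 9, nat_lit 6, nat_lit 8, nat_lit 0], (nat_lit 816261925), (nat_lit 0)) ::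
  ([nat_lit 7, nat_lit 8, nat_lit 9, nat_lit 10, nat_lit 3, nat_lit 6, nat_lit 5, nat_lit 8], (nat_lit 818213372), (nat_lit 0)) ::
  ([nat_lit 7, nat_lit 8, nat_lit 2, nat_lit 9, nat_lit 3, nat_lit 6, nat_lit 8, nat_lit 10], (nat_lit 818280310), (nat_lit 0)) ::
  ([nat_lit 7, nat_lit 8, nat_lit 0, nat_lit 1, nat_lit 9, nat_lit 8], (nat_lit 818369044), (nat_lit 0)) ::
  ([nat_lit 8, nat_lit 1, nat_lit 9, nat_lit 8, nat_lit 0, nat_lit 4, nat_lit 10], (nat_lit 819085154), (nat_lit 0)) ::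
  ([nat_lit 7, nat_lit 6, nat_lit 8, nat_lit 0, nat_lit 9, nat_lit 8, nat_lit 2], (nat_lit 821144586), (nat_lit 0)) ::
  ([nat_lit 8, nat_lit 0, nat_lit 9, nat_lit 8, nat_lit 0, nat_lit 10, nat_lit 3, nat_lit 6], (nat_lit 821244175), (nat_lit 0)) ::
  ([nat_lit 7, nat_lit 8, nat_lit 2, nat_lit 9, nat_lit 8, nat_lit 6, nat_lit 3, nat_lit 6], (nat_lit 821659053), (nat_lit 0)) ::
  ([nat_lit 7, nat_lit 8, nat_lit 2, nat_lit 9, nat_lit 3, nat_lit 6, nat_lit 8], (nat_lit 821935961), (nat_lit 0)) ::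
  ([nat_lit 8, nat_lit 0, nat_lit 9, nat_lit 8, nat_lit 0, nat_lit 2], (nat_lit 821950800), (nat_lit 0)) ::
  ([nat_lit 7, nat_lit 8, nat_lit 6, nat_lit 3], (nat_lit 822066637), (nat_lit 0)) ::
  ([nat_lit 8, nat_lit 0, nat_lit 9, nat_lit 8, nat_lit 0, nat_lit 6, nat_lit 3, nat_lit 7], (nat_lit 822231275), (nat_lit 0)) ::
  ([nat_lit 7, nat_lit 6, nat_lit 2, nat_lit 6, nat_lit 4], (nat_lit 822814128), (nat_lit 0)) ::
  ([nat_lit 7, nat_lit 6, nat_lit 0, nat_lit 8, nat_lit 3, nat_lit 9, nat_lit 8, nat_lit 3], (nat_lit 823808441), (nat_lit 0)) ::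
  ([nat_lit 7, nat_lit 8, nat_lit 2, nat_lit 9, nat_lit 8, nat_lit 6], (nat_lit 823962969), (nat_lit 0)) ::
  ([nat_lit 7, nat_lit 8, nat_lit 2, nat_lit 9, nat_lit 8, nat_lit 6, nat_lit 0, nat_lit 7], (nat_lit 824068824), (nat_lit 0)) ::
  ([nat_lit 7, nat_lit 6, nat_lit 3], (nat_lit 824172880), (nat_lit 0)) ::
  ([nat_lit 7, nat_lit 8, nat_lit 0, nat_lit 9, nat_lit 8, nat_lit 6, nat_lit 1], (nat_lit 824270734), (nat_lit 0)) ::
  ([nat_lit 7, nat_lit 8, nat_lit 1, nat_lit 9, nat_lit 6, nat_lit 8], (nat_lit 825047771), (nat_lit 0)) ::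
  ([nat_lit 7, nat_lit 6, nat_lit 9, nat_lit 8, nat_lit 0, nat_lit 6], (nat_lit 825510507), (nat_lit 0)) ::
  ([nat_lit 7, nat_lit 6, nat_lit 5, nat_lit 8, nat_lit 1, nat_lit 9, nat_lit 8, nat_lit 0], (nat_lit 825929119), (nat_lit 0)) ::
  ([nat_lit 7, nat_lit 6, nat_lit 8, nat_lit 9, nat_lit 10, nat_lit 3, nat_lit 8], (nat_lit 826152629), (nat_lit 0)) ::
  ([nat_lit 7, nat_lit 8, nat_lit 0, nat_lit 6, nat_lit 9, nat_lit 8, nat_lit 0, nat_lit 6, nat_lit 5], (nat_lit 826502760), (nat_lit 0)) ::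
  ([nat_lit 7, nat_lit 8, nat_lit 2, nat_lit 9, nat_lit 8, nat_lit 6, nat_lit 0, nat_lit 4], (nat_lit 827422152), (nat_lit 0)) ::
  ([nat_lit 7, nat_lit 6, nat_lit 8, nat_lit 9, nat_lit 3, nat_lit 6], (nat_lit 828469641), (nat_lit 0)) ::
  ([nat_lit 8, nat_lit 0], (nat_lit 829749154), (nat_lit 0)) ::
  ([nat_lit 7, nat_lit 6, nat_lit 4, nat_lit 8, nat_lit 3, nat_lit 9, nat_lit 8, nat_lit 3], (nat_lit 833408391), (nat_lit 0)) ::
  ([nat_lit 8, nat_lit 0, nat_lit 9, nat_lit 8, nat_lit 1, nat_lit 10], (nat_lit 833728766), (nat_lit 0)) ::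
  ([nat_lit 7, nat_lit 8, nat_lit 2, nat_lit 5, nat_lit 9, nat_lit 8], (nat_lit 834533239), (nat_lit 0)) ::
  ([nat_lit 7, nat_lit 8, nat_lit 6, nat_lit 1, nat_lit 5, nat_lit 9, nat_lit 8, nat_lit 3], (nat_lit 834655902), (nat_lit 0)) ::
  ([nat_lit 7, nat_lit 8, nat_lit 3, nat_lit 6, nat_lit 0, nat_lit 8], (nat_lit 835374028), (nat_lit 0)) ::
  ([nat_lit 7, nat_lit 8, nat_lit 0, nat_lit 9, nat_lit 1, nat_lit 8, nat_lit 3], (nat_lit 835397628), (nat_lit 0)) ::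
  ([nat_lit 7, nat_lit 8, nat_lit 3, nat_lit 9, nat_lit 6, nat_lit 5], (nat_lit 837017408), (nat_lit 0)) ::
  ([nat_lit 7, nat_lit 8, nat_lit 6, nat_lit 9, nat_lit 6, nat_lit 10, nat_lit 3], (nat_lit 837434014), (nat_lit 0)) ::
  clD1450
noncomputable def clD1350 : List (List ℕ × ℕ × ℕ) :=
  ([nat_lit 7, nat_lit 8, nat_lit 2, nat_lit 9, nat_lit 3, nat_lit 6, nat_lit 8, nat_lit 3], (nat_lit 776558841), (nat_lit 0)) ::
  ([nat_lit 7, nat_lit 8, nat_lit 2, nat_lit 9, nat_lit 3, nat_lit 8], (nat_lit 777153212), (nat_lit 0)) ::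
  ([nat_lit 7, nat_lit 6, nat_lit 8, nat_lit 2, nat_lit 9, nat_lit 8, nat_lit 1, nat_lit 4], (nat_lit 777476185), (nat_lit 0)) ::
  ([nat_lit 7, nat_lit 6, nat_lit 8, nat_lit 9, nat_lit 8], (nat_lit 778228857), (nat_lit 0)) ::
  ([nat_lit 8, nat_lit 9, nat_lit 1, nat_lit 6, nat_lit 7, nat_lit 8], (nat_lit 778824626), (nat_lit 0)) ::
  ([nat_lit 8, nat_lit 3, nat_lit 9, nat_lit 10], (nat_lit 779600012), (nat_lit 0)) ::
  ([nat_lit 7, nat_lit 8, nat_lit 2, nat_lit 6, nat_lit 0], (nat_lit 781160026), (nat_lit 0)) ::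
  ([nat_lit 7, nat_lit 6, nat_lit 8, nat_lit 9, nat_lit 6, nat_lit 0], (nat_lit 781385738), (nat_lit 0)) ::
  ([nat_lit 7, nat_lit 6, nat_lit 3, nat_lit 8, nat_lit 2], (nat_lit 781625909), (nat_lit 0)) ::
  ([], (nat_lit 783299208), (nat_lit 0)) ::
  ([nat_lit 7, nat_lit 8, nat_lit 2, nat_lit 9, nat_lit 8, nat_lit 0], (nat_lit 783378682), (nat_lit 0)) ::
  ([nat_lit 7, nat_lit 6, nat_lit 8, nat_lit 0, nat_lit 6, nat_lit 3, nat_lit 9], (nat_lit 784886528), (nat_lit 0)) ::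
  ([nat_lit 8, nat_lit 1, nat_lit 9, nat_lit 7, nat_lit 8, nat_lit 1, nat_lit 2], (nat_lit 784924576), (nat_lit 0)) ::
  ([nat_lit 7, nat_lit 6, nat_lit 0, nat_lit 8, nat_lit 3, nat_lit 9, nat_lit 8], (nat_lit 786897441), (nat_lit 0)) ::
  ([nat_lit 8, nat_lit 0, nat_lit 2, nat_lit 9, nat_lit 8, nat_lit 3, nat_lit 10], (nat_lit 787531294), (nat_lit 0)) ::
  ([nat_lit 7, nat_lit 8, nat_lit 6, nat_lit 1, nat_lit 9, nat_lit 3, nat_lit 8, nat_lit 1], (nat_lit 787896373), (nat_lit 0)) ::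
  ([nat_lit 7, nat_lit 8, nat_lit 2, nat_lit 6, nat_lit 9, nat_lit 8, nat_lit 3, nat_lit 6], (nat_lit 789248537), (nat_lit 0)) ::
  ([nat_lit 7, nat_lit 8, nat_lit 2, nat_lit 3, nat_lit 6], (nat_lit 789723159), (nat_lit 0)) ::
  ([nat_lit 7, nat_lit 8, nat_lit 6, nat_lit 1, nat_lit 9, nat_lit 10], (nat_lit 789801965), (nat_lit 0)) ::
  ([nat_lit 8, nat_lit 2, nat_lit 9, nat_lit 3, nat_lit 8, nat_lit 0, nat_lit 10], (nat_lit 789917437), (nat_lit 0)) ::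
  ([nat_lit 7, nat_lit 6, nat_lit 8, nat_lit 0, nat_lit 4], (nat_lit 790044407), (nat_lit 0)) ::
  ([nat_lit 7, nat_lit 6, nat_lit 1, nat_lit 4], (nat_lit 790448054), (nat_lit 0)) ::
  ([nat_lit 7, nat_lit 6, nat_lit 8, nat_lit 9, nat_lit 6, nat_lit 1], (nat_lit 791725034), (nat_lit 0)) ::
  ([nat_lit 7, nat_lit 8, nat_lit 2, nat_lit 6, nat_lit 9, nat_lit 8, nat_lit 3], (nat_lit 792116453), (nat_lit 0)) ::
  ([nat_lit 7, nat_lit 6, nat_lit 1, nat_lit 4, nat_lit 8, nat_lit 1, nat_lit 9], (nat_lit 793884492), (nat_lit 0)) ::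
  ([nat_lit 7, nat_lit 8, nat_lit 0, nat_lit 9, nat_lit 1, nat_lit 8, nat_lit 1, nat_lit 2], (nat_lit 794118936), (nat_lit 0)) ::
  ([nat_lit 7, nat_lit 8, nat_lit 2, nat_lit 9, nat_lit 3, nat_lit 8, nat_lit 2, nat_lit 5], (nat_lit 795309658), (nat_lit 0)) ::
  ([nat_lit 7, nat_lit 6, nat_lit 5, nat_lit 8], (nat_lit 797374145), (nat_lit 0)) ::
  ([nat_lit 7, nat_lit 8, nat_lit 6, nat_lit 1, nat_lit 9, nat_lit 8, nat_lit 3], (nat_lit 797503027), (nat_lit 0)) ::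
  ([nat_lit 7, nat_lit 6, nat_lit 0, nat_lit 8, nat_lit 3, nat_lit 9], (nat_lit 798065839), (nat_lit 0)) ::
  ([nat_lit 8, nat_lit 1, nat_lit 6, nat_lit 7, nat_lit 9, nat_lit 8], (nat_lit 798141700), (nat_lit 0)) ::
  ([nat_lit 7, nat_lit 6, nat_lit 8, nat_lit 9, nat_lit 1, nat_lit 5], (nat_lit 798629257), (nat_lit 0)) ::
  ([nat_lit 8, nat_lit 0, nat_lit 1, nat_lit 9, nat_lit 8, nat_lit 0, nat_lit 2], (nat_lit 799853098), (nat_lit 0)) ::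
  ([nat_lit 7, nat_lit 8, nat_lit 2, nat_lit 9, nat_lit 8, nat_lit 1, nat_lit 3, nat_lit 6], (nat_lit 799877307), (nat_lit 0)) ::
  ([nat_lit 7, nat_lit 8, nat_lit 6, nat_lit 5, nat_lit 2, nat_lit 9, nat_lit 8], (nat_lit 800455031), (nat_lit 0)) ::
  ([nat_lit 7, nat_lit 6, nat_lit 3, nat_lit 8, nat_lit 3, nat_lit 9, nat_lit 8], (nat_lit 800513918), (nat_lit 0)) ::
  ([nat_lit 7, nat_lit 6, nat_lit 2, nat_lit 8, nat_lit 3, nat_lit 9, nat_lit 8, nat_lit 3], (nat_lit 800638278), (nat_lit 0)) ::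
  ([nat_lit 7, nat_lit 6, nat_lit 5], (nat_lit 800826326), (nat_lit 0)) ::
  ([nat_lit 7, nat_lit 8, nat_lit 3, nat_lit 6, nat_lit 10, nat_lit 9, nat_lit 8], (nat_lit 801420436), (nat_lit 0)) ::
  ([nat_lit 7, nat_lit 6, nat_lit 8, nat_lit 9, nat_lit 6, nat_lit 2], (nat_lit 802283665), (nat_lit 0)) ::
  ([nat_lit 7, nat_lit 8, nat_lit 9, nat_lit 6, nat_lit 0, nat_lit 8, nat_lit 1, nat_lit 6], (nat_lit 802736598), (nat_lit 0)) ::
  ([nat_lit 7, nat_lit 8, nat_lit 6, nat_lit 9, nat_lit 3, nat_lit 8, nat_lit 1], (nat_lit 803512850), (nat_lit 0)) ::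
  ([nat_lit 8, nat_lit 0, nat_lit 1, nat_lit 9, nat_lit 8, nat_lit 1], (nat_lit 804238653), (nat_lit 0)) ::
  ([nat_lit 7, nat_lit 6, nat_lit 8, nat_lit 9, nat_lit 3, nat_lit 8, nat_lit 0], (nat_lit 804319123), (nat_lit 0)) ::
  ([nat_lit 7, nat_lit 8, nat_lit 2, nat_lit 6, nat_lit 9, nat_lit 8, nat_lit 1, nat_lit 9], (nat_lit 804932775), (nat_lit 0)) ::
  ([nat_lit 7, nat_lit 8, nat_lit 6, nat_lit 3, nat_lit 5], (nat_lit 805021889), (nat_lit 0)) ::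
  ([nat_lit 8, nat_lit 9, nat_lit 10], (nat_lit 805186732), (nat_lit 0)) ::
  ([nat_lit 7, nat_lit 8, nat_lit 2], (nat_lit 805549836), (nat_lit 0)) ::
  ([nat_lit 7, nat_lit 6, nat_lit 8, nat_lit 2, nat_lit 9], (nat_lit 806265862), (nat_lit 0)) ::
  ([nat_lit 8, nat_lit 1, nat_lit 9, nat_lit 7, nat_lit 8, nat_lit 1, nat_lit 6, nat_lit 3], (nat_lit 806767279), (nat_lit 0)) ::
  clD1400
noncomputable def clD1300 : List (List ℕ × ℕ × ℕ) :=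
  ([nat_lit 7, nat_lit 8, nat_lit 9, nat_lit 3, nat_lit 6, nat_lit 8, nat_lit 1, nat_lit 3], (nat_lit 752302957), (nat_lit 0)) ::
  ([nat_lit 8, nat_lit 0, nat_lit 9, nat_lit 1, nat_lit 8], (nat_lit 752350491), (nat_lit 0)) ::
  ([nat_lit 7, nat_lit 8, nat_lit 3, nat_lit 6, nat_lit 3, nat_lit 9], (nat_lit 752440122), (nat_lit 0)) ::
  ([nat_lit 7, nat_lit 6, nat_lit 8, nat_lit 0, nat_lit 6, nat_lit 9, nat_lit 8, nat_lit 1], (nat_lit 753227113), (nat_lit 0)) ::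
  ([nat_lit 7, nat_lit 8, nat_lit 1, nat_lit 3, nat_lit 9], (nat_lit 753563434), (nat_lit 0)) ::
  ([nat_lit 7, nat_lit 8, nat_lit 9, nat_lit 3, nat_lit 6, nat_lit 10], (nat_lit 755117228), (nat_lit 0)) ::
  ([nat_lit 8, nat_lit 0, nat_lit 9, nat_lit 8, nat_lit 0], (nat_lit 755157906), (nat_lit 0)) ::
  ([nat_lit 7, nat_lit 6, nat_lit 3, nat_lit 8, nat_lit 1, nat_lit 9, nat_lit 10], (nat_lit 755163408), (nat_lit 0)) ::
  ([nat_lit 8, nat_lit 1, nat_lit 6, nat_lit 5], (nat_lit 758408261), (nat_lit 0)) ::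
  ([nat_lit 7, nat_lit 6, nat_lit 3, nat_lit 8, nat_lit 2, nat_lit 9, nat_lit 8, nat_lit 3], (nat_lit 758793363), (nat_lit 0)) ::
  ([nat_lit 7, nat_lit 6, nat_lit 2, nat_lit 8, nat_lit 9, nat_lit 3, nat_lit 10], (nat_lit 759215903), (nat_lit 0)) ::
  ([nat_lit 7, nat_lit 8, nat_lit 6, nat_lit 1, nat_lit 9, nat_lit 8, nat_lit 0], (nat_lit 759572343), (nat_lit 0)) ::
  ([nat_lit 7, nat_lit 6, nat_lit 0, nat_lit 8, nat_lit 6, nat_lit 1], (nat_lit 760136719), (nat_lit 0)) ::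
  ([nat_lit 7, nat_lit 8, nat_lit 0, nat_lit 9, nat_lit 8, nat_lit 10], (nat_lit 760682173), (nat_lit 0)) ::
  ([nat_lit 8, nat_lit 2, nat_lit 9, nat_lit 8, nat_lit 0, nat_lit 8, nat_lit 6], (nat_lit 760883844), (nat_lit 0)) ::
  ([nat_lit 8, nat_lit 0, nat_lit 9, nat_lit 8, nat_lit 6, nat_lit 3], (nat_lit 761190732), (nat_lit 0)) ::
  ([nat_lit 8, nat_lit 0, nat_lit 1, nat_lit 9, nat_lit 8, nat_lit 3], (nat_lit 761265819), (nat_lit 0)) ::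
  ([nat_lit 7, nat_lit 6, nat_lit 8, nat_lit 1, nat_lit 9, nat_lit 6], (nat_lit 761997022), (nat_lit 0)) ::
  ([nat_lit 7, nat_lit 6, nat_lit 1, nat_lit 8, nat_lit 0, nat_lit 3], (nat_lit 762363872), (nat_lit 0)) ::
  ([nat_lit 7, nat_lit 6, nat_lit 5, nat_lit 8, nat_lit 0, nat_lit 9], (nat_lit 762965838), (nat_lit 0)) ::
  ([nat_lit 7, nat_lit 8, nat_lit 2, nat_lit 3, nat_lit 9, nat_lit 8, nat_lit 0, nat_lit 6], (nat_lit 763385257), (nat_lit 0)) ::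
  ([nat_lit 8, nat_lit 1, nat_lit 6, nat_lit 7, nat_lit 9, nat_lit 8, nat_lit 2], (nat_lit 764168836), (nat_lit 0)) ::
  ([nat_lit 8, nat_lit 1, nat_lit 9, nat_lit 7, nat_lit 8, nat_lit 6, nat_lit 1], (nat_lit 764318931), (nat_lit 0)) ::
  ([nat_lit 7, nat_lit 8, nat_lit 3, nat_lit 6, nat_lit 10, nat_lit 9, nat_lit 8, nat_lit 0], (nat_lit 765516140), (nat_lit 0)) ::
  ([nat_lit 7, nat_lit 8, nat_lit 2, nat_lit 5, nat_lit 6, nat_lit 9, nat_lit 10], (nat_lit 765899279), (nat_lit 0)) ::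
  ([nat_lit 7, nat_lit 8, nat_lit 9, nat_lit 3, nat_lit 8, nat_lit 6, nat_lit 3], (nat_lit 766178002), (nat_lit 0)) ::
  ([nat_lit 8, nat_lit 9, nat_lit 1, nat_lit 8, nat_lit 2, nat_lit 6, nat_lit 4], (nat_lit 766295297), (nat_lit 0)) ::
  ([nat_lit 7, nat_lit 8, nat_lit 3, nat_lit 9, nat_lit 6, nat_lit 3, nat_lit 8, nat_lit 0], (nat_lit 766720414), (nat_lit 0)) ::
  ([nat_lit 7, nat_lit 6, nat_lit 1, nat_lit 4, nat_lit 8], (nat_lit 766729069), (nat_lit 0)) ::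
  ([nat_lit 7, nat_lit 6, nat_lit 4, nat_lit 8, nat_lit 2, nat_lit 6], (nat_lit 768687227), (nat_lit 0)) ::
  ([nat_lit 7, nat_lit 8, nat_lit 2, nat_lit 9, nat_lit 3, nat_lit 8, nat_lit 1, nat_lit 5], (nat_lit 768991843), (nat_lit 0)) ::
  ([nat_lit 8, nat_lit 1, nat_lit 9, nat_lit 8, nat_lit 3, nat_lit 10], (nat_lit 769483868), (nat_lit 0)) ::
  ([nat_lit 8, nat_lit 9, nat_lit 10, nat_lit 0, nat_lit 7, nat_lit 6], (nat_lit 769710644), (nat_lit 0)) ::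
  ([nat_lit 7, nat_lit 6, nat_lit 5, nat_lit 8, nat_lit 3, nat_lit 9, nat_lit 8, nat_lit 2], (nat_lit 769940515), (nat_lit 0)) ::
  ([nat_lit 7, nat_lit 6, nat_lit 8, nat_lit 9, nat_lit 1, nat_lit 5, nat_lit 8, nat_lit 2], (nat_lit 770346384), (nat_lit 0)) ::
  ([nat_lit 8, nat_lit 1, nat_lit 9, nat_lit 7, nat_lit 8, nat_lit 6, nat_lit 2, nat_lit 5], (nat_lit 770981141), (nat_lit 0)) ::
  ([nat_lit 7, nat_lit 8, nat_lit 0], (nat_lit 771273128), (nat_lit 0)) ::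
  ([nat_lit 7, nat_lit 8, nat_lit 0, nat_lit 6, nat_lit 9, nat_lit 7], (nat_lit 771383138), (nat_lit 0)) ::
  ([nat_lit 7, nat_lit 8, nat_lit 3, nat_lit 9, nat_lit 6, nat_lit 8, nat_lit 0, nat_lit 6], (nat_lit 771529316), (nat_lit 0)) ::
  ([nat_lit 7, nat_lit 6, nat_lit 8, nat_lit 9, nat_lit 1, nat_lit 8, nat_lit 1], (nat_lit 771668843), (nat_lit 0)) ::
  ([nat_lit 7, nat_lit 8, nat_lit 6, nat_lit 9, nat_lit 3, nat_lit 8, nat_lit 0], (nat_lit 771885493), (nat_lit 0)) ::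
  ([nat_lit 7, nat_lit 8, nat_lit 6, nat_lit 0, nat_lit 1], (nat_lit 772568869), (nat_lit 0)) ::
  ([nat_lit 8, nat_lit 1, nat_lit 9, nat_lit 8, nat_lit 0, nat_lit 3, nat_lit 10], (nat_lit 772834971), (nat_lit 0)) ::
  ([nat_lit 8, nat_lit 9, nat_lit 1, nat_lit 8, nat_lit 0, nat_lit 7], (nat_lit 773429112), (nat_lit 0)) ::
  ([nat_lit 8, nat_lit 0, nat_lit 1, nat_lit 9, nat_lit 6, nat_lit 8, nat_lit 1], (nat_lit 773642220), (nat_lit 0)) ::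
  ([nat_lit 8, nat_lit 1, nat_lit 9, nat_lit 7], (nat_lit 774162207), (nat_lit 0)) ::
  ([nat_lit 8, nat_lit 1, nat_lit 3, nat_lit 9, nat_lit 8, nat_lit 2], (nat_lit 774250235), (nat_lit 0)) ::
  ([nat_lit 7, nat_lit 8, nat_lit 3, nat_lit 9, nat_lit 8, nat_lit 1, nat_lit 4], (nat_lit 774381847), (nat_lit 0)) ::
  ([nat_lit 8, nat_lit 0, nat_lit 9, nat_lit 8, nat_lit 0, nat_lit 10, nat_lit 3], (nat_lit 775561112), (nat_lit 0)) ::
  ([nat_lit 7, nat_lit 8, nat_lit 2, nat_lit 5, nat_lit 9, nat_lit 8, nat_lit 0, nat_lit 6], (nat_lit 776421332), (nat_lit 0)) ::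
  clD1350
noncomputable def clD1250 : List (List ℕ × ℕ × ℕ) :=
  ([nat_lit 7, nat_lit 6, nat_lit 8, nat_lit 0, nat_lit 6, nat_lit 9, nat_lit 8], (nat_lit 729357045), (nat_lit 0)) ::
  ([nat_lit 7, nat_lit 8, nat_lit 6, nat_lit 0, nat_lit 9, nat_lit 8, nat_lit 2], (nat_lit 730260955), (nat_lit 0)) ::
  ([nat_lit 7, nat_lit 8, nat_lit 2, nat_lit 5, nat_lit 6, nat_lit 9, nat_lit 8, nat_lit 0], (nat_lit 730566959), (nat_lit 0)) ::
  ([nat_lit 7, nat_lit 8, nat_lit 2, nat_lit 9, nat_lit 8, nat_lit 6, nat_lit 0, nat_lit 1], (nat_lit 730961908), (nat_lit 0)) ::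
  ([nat_lit 8, nat_lit 0, nat_lit 7, nat_lit 6, nat_lit 9], (nat_lit 731006949), (nat_lit 0)) ::
  ([nat_lit 8, nat_lit 1, nat_lit 3, nat_lit 9, nat_lit 8, nat_lit 3, nat_lit 6, nat_lit 10], (nat_lit 731327917), (nat_lit 0)) ::
  ([nat_lit 7, nat_lit 8, nat_lit 0, nat_lit 6, nat_lit 9, nat_lit 3, nat_lit 8, nat_lit 2], (nat_lit 731418239), (nat_lit 0)) ::
  ([nat_lit 8, nat_lit 0, nat_lit 9, nat_lit 8, nat_lit 2, nat_lit 6, nat_lit 10, nat_lit 9], (nat_lit 731704440), (nat_lit 0)) ::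
  ([nat_lit 8, nat_lit 2, nat_lit 9, nat_lit 3, nat_lit 8, nat_lit 10, nat_lit 3], (nat_lit 732127400), (nat_lit 0)) ::
  ([nat_lit 7, nat_lit 6, nat_lit 0, nat_lit 1, nat_lit 8], (nat_lit 733917689), (nat_lit 0)) ::
  ([nat_lit 7, nat_lit 6, nat_lit 8, nat_lit 2, nat_lit 5, nat_lit 9, nat_lit 8, nat_lit 10], (nat_lit 734546365), (nat_lit 0)) ::
  ([nat_lit 7, nat_lit 8, nat_lit 6, nat_lit 0, nat_lit 9, nat_lit 8, nat_lit 3], (nat_lit 734848004), (nat_lit 0)) ::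
  ([nat_lit 8, nat_lit 0, nat_lit 7, nat_lit 6, nat_lit 9, nat_lit 8, nat_lit 1], (nat_lit 735142175), (nat_lit 0)) ::
  ([nat_lit 7, nat_lit 6, nat_lit 2, nat_lit 8, nat_lit 3, nat_lit 6], (nat_lit 735178488), (nat_lit 0)) ::
  ([nat_lit 7, nat_lit 6, nat_lit 0, nat_lit 1, nat_lit 8, nat_lit 3], (nat_lit 738330941), (nat_lit 0)) ::
  ([nat_lit 7, nat_lit 8, nat_lit 6, nat_lit 5, nat_lit 2, nat_lit 9, nat_lit 10], (nat_lit 738450905), (nat_lit 0)) ::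
  ([nat_lit 8, nat_lit 0, nat_lit 9, nat_lit 8, nat_lit 1, nat_lit 6, nat_lit 4], (nat_lit 739911588), (nat_lit 0)) ::
  ([nat_lit 7, nat_lit 6, nat_lit 8, nat_lit 0, nat_lit 1], (nat_lit 740779864), (nat_lit 0)) ::
  ([nat_lit 8, nat_lit 0, nat_lit 9, nat_lit 1, nat_lit 8, nat_lit 0, nat_lit 4], (nat_lit 741094117), (nat_lit 0)) ::
  ([nat_lit 8, nat_lit 0, nat_lit 7, nat_lit 6, nat_lit 9, nat_lit 8, nat_lit 2], (nat_lit 741787483), (nat_lit 0)) ::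
  ([nat_lit 7, nat_lit 6, nat_lit 8, nat_lit 9, nat_lit 1, nat_lit 6], (nat_lit 742062708), (nat_lit 0)) ::
  ([nat_lit 7, nat_lit 8, nat_lit 3, nat_lit 6, nat_lit 3], (nat_lit 742164113), (nat_lit 0)) ::
  ([nat_lit 8, nat_lit 0, nat_lit 1, nat_lit 9, nat_lit 8, nat_lit 10, nat_lit 3], (nat_lit 742244383), (nat_lit 0)) ::
  ([nat_lit 7, nat_lit 6, nat_lit 5, nat_lit 8, nat_lit 3, nat_lit 10], (nat_lit 742437135), (nat_lit 0)) ::
  ([nat_lit 7, nat_lit 8, nat_lit 6, nat_lit 0, nat_lit 1, nat_lit 3], (nat_lit 742676281), (nat_lit 0)) ::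
  ([nat_lit 7, nat_lit 8, nat_lit 2, nat_lit 9, nat_lit 8, nat_lit 1], (nat_lit 742723762), (nat_lit 0)) ::
  ([nat_lit 7, nat_lit 8, nat_lit 9, nat_lit 3, nat_lit 8, nat_lit 2, nat_lit 6], (nat_lit 742868228), (nat_lit 0)) ::
  ([nat_lit 7, nat_lit 6, nat_lit 1, nat_lit 8, nat_lit 0], (nat_lit 742991683), (nat_lit 0)) ::
  ([nat_lit 7, nat_lit 8, nat_lit 2, nat_lit 5, nat_lit 6, nat_lit 9, nat_lit 8, nat_lit 1], (nat_lit 743442185), (nat_lit 0)) ::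
  ([nat_lit 8, nat_lit 9, nat_lit 1, nat_lit 8, nat_lit 3], (nat_lit 743704356), (nat_lit 0)) ::
  ([nat_lit 7, nat_lit 8, nat_lit 3, nat_lit 6, nat_lit 9, nat_lit 8], (nat_lit 744592059), (nat_lit 0)) ::
  ([nat_lit 7, nat_lit 8, nat_lit 3, nat_lit 6, nat_lit 9, nat_lit 8, nat_lit 3], (nat_lit 745262455), (nat_lit 0)) ::
  ([nat_lit 7, nat_lit 8, nat_lit 2, nat_lit 3, nat_lit 9, nat_lit 8, nat_lit 2], (nat_lit 745489489), (nat_lit 0)) ::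
  ([nat_lit 7, nat_lit 8, nat_lit 0, nat_lit 6, nat_lit 9, nat_lit 8, nat_lit 3], (nat_lit 745565564), (nat_lit 0)) ::
  ([nat_lit 8, nat_lit 1, nat_lit 9, nat_lit 7, nat_lit 6, nat_lit 8, nat_lit 0, nat_lit 2], (nat_lit 746146421), (nat_lit 0)) ::
  ([nat_lit 7, nat_lit 8, nat_lit 0, nat_lit 6, nat_lit 4], (nat_lit 746209074), (nat_lit 0)) ::
  ([nat_lit 7, nat_lit 8, nat_lit 0, nat_lit 6, nat_lit 7, nat_lit 9], (nat_lit 746984320), (nat_lit 0)) ::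
  ([nat_lit 7, nat_lit 6, nat_lit 8, nat_lit 3, nat_lit 5], (nat_lit 747198732), (nat_lit 0)) ::
  ([nat_lit 7, nat_lit 6, nat_lit 8, nat_lit 2, nat_lit 3, nat_lit 9, nat_lit 8, nat_lit 0], (nat_lit 747443459), (nat_lit 0)) ::
  ([nat_lit 7, nat_lit 8, nat_lit 3, nat_lit 9, nat_lit 8, nat_lit 6, nat_lit 2], (nat_lit 747689360), (nat_lit 0)) ::
  ([nat_lit 8, nat_lit 1, nat_lit 9, nat_lit 7, nat_lit 8, nat_lit 10, nat_lit 3], (nat_lit 747773575), (nat_lit 0)) ::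
  ([nat_lit 7, nat_lit 8, nat_lit 0, nat_lit 6, nat_lit 3, nat_lit 9, nat_lit 8], (nat_lit 748038328), (nat_lit 0)) ::
  ([nat_lit 8, nat_lit 3, nat_lit 10, nat_lit 9], (nat_lit 748802741), (nat_lit 0)) ::
  ([nat_lit 8, nat_lit 1, nat_lit 9, nat_lit 8, nat_lit 1, nat_lit 6, nat_lit 9], (nat_lit 750154307), (nat_lit 0)) ::
  ([nat_lit 7, nat_lit 8, nat_lit 0, nat_lit 9, nat_lit 1, nat_lit 8, nat_lit 3, nat_lit 10], (nat_lit 750500012), (nat_lit 0)) ::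
  ([nat_lit 8, nat_lit 0, nat_lit 1, nat_lit 5], (nat_lit 750779429), (nat_lit 0)) ::
  ([nat_lit 8, nat_lit 1, nat_lit 3, nat_lit 9, nat_lit 8, nat_lit 0], (nat_lit 750973305), (nat_lit 0)) ::
  ([nat_lit 8, nat_lit 3, nat_lit 9, nat_lit 8, nat_lit 3, nat_lit 10, nat_lit 9, nat_lit 8], (nat_lit 751093909), (nat_lit 0)) ::
  ([nat_lit 7, nat_lit 6, nat_lit 4, nat_lit 8, nat_lit 9, nat_lit 10, nat_lit 0], (nat_lit 751708077), (nat_lit 0)) ::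
  ([nat_lit 7, nat_lit 6, nat_lit 5, nat_lit 8, nat_lit 1, nat_lit 9, nat_lit 8], (nat_lit 752282552), (nat_lit 0)) ::
  clD1300
noncomputable def clD1200 : List (List ℕ × ℕ × ℕ) :=
  ([nat_lit 8, nat_lit 0, nat_lit 9, nat_lit 8, nat_lit 1, nat_lit 4, nat_lit 10], (nat_lit 696796923), (nat_lit 0)) ::
  ([nat_lit 7, nat_lit 6, nat_lit 8, nat_lit 1, nat_lit 3, nat_lit 9, nat_lit 8], (nat_lit 697925629), (nat_lit 0)) ::
  ([nat_lit 7, nat_lit 6, nat_lit 8, nat_lit 9, nat_lit 1, nat_lit 8, nat_lit 10], (nat_lit 698165758), (nat_lit 0)) ::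
  ([nat_lit 7, nat_lit 6, nat_lit 9, nat_lit 8, nat_lit 1, nat_lit 9, nat_lit 8, nat_lit 3, nat_lit 6], (nat_lit 698847593), (nat_lit 0)) ::
  ([nat_lit 7, nat_lit 6, nat_lit 4, nat_lit 8, nat_lit 9, nat_lit 1, nat_lit 8, nat_lit 0, nat_lit 4], (nat_lit 699166014), (nat_lit 0)) ::
  ([nat_lit 7, nat_lit 6, nat_lit 8, nat_lit 9, nat_lit 3, nat_lit 8], (nat_lit 699239552), (nat_lit 0)) ::
  ([nat_lit 7, nat_lit 8, nat_lit 3, nat_lit 6, nat_lit 9, nat_lit 3], (nat_lit 701065579), (nat_lit 0)) ::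
  ([nat_lit 8, nat_lit 9, nat_lit 3, nat_lit 8], (nat_lit 701131871), (nat_lit 0)) ::
  ([nat_lit 7, nat_lit 8, nat_lit 0, nat_lit 1, nat_lit 9, nat_lit 8, nat_lit 2], (nat_lit 701319072), (nat_lit 0)) ::
  ([nat_lit 7, nat_lit 6, nat_lit 8, nat_lit 9, nat_lit 6], (nat_lit 701794136), (nat_lit 0)) ::
  ([nat_lit 8, nat_lit 2, nat_lit 9, nat_lit 8, nat_lit 3, nat_lit 5], (nat_lit 702373287), (nat_lit 0)) ::
  ([nat_lit 7, nat_lit 6, nat_lit 0, nat_lit 1, nat_lit 8, nat_lit 3, nat_lit 9, nat_lit 8, nat_lit 1], (nat_lit 703076542), (nat_lit 0)) ::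
  ([nat_lit 7, nat_lit 6, nat_lit 5, nat_lit 8, nat_lit 0], (nat_lit 703490161), (nat_lit 0)) ::
  ([nat_lit 7, nat_lit 8, nat_lit 0, nat_lit 6, nat_lit 9, nat_lit 3, nat_lit 8, nat_lit 1], (nat_lit 703760055), (nat_lit 0)) ::
  ([nat_lit 7, nat_lit 6, nat_lit 5, nat_lit 8, nat_lit 2, nat_lit 9, nat_lit 10], (nat_lit 704436241), (nat_lit 0)) ::
  ([nat_lit 8, nat_lit 1, nat_lit 9, nat_lit 8, nat_lit 3, nat_lit 6, nat_lit 10], (nat_lit 704494287), (nat_lit 0)) ::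
  ([nat_lit 7, nat_lit 8, nat_lit 2, nat_lit 4, nat_lit 6], (nat_lit 705470958), (nat_lit 0)) ::
  ([nat_lit 7, nat_lit 8, nat_lit 9, nat_lit 6, nat_lit 0, nat_lit 8, nat_lit 1, nat_lit 4], (nat_lit 707827102), (nat_lit 0)) ::
  ([nat_lit 8, nat_lit 9, nat_lit 3, nat_lit 8, nat_lit 10, nat_lit 0], (nat_lit 709394232), (nat_lit 0)) ::
  ([nat_lit 8, nat_lit 0, nat_lit 9, nat_lit 8, nat_lit 10, nat_lit 3, nat_lit 5], (nat_lit 709986044), (nat_lit 0)) ::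
  ([nat_lit 7, nat_lit 8, nat_lit 3, nat_lit 9, nat_lit 6, nat_lit 8, nat_lit 10], (nat_lit 710143833), (nat_lit 0)) ::
  ([nat_lit 8, nat_lit 9, nat_lit 1, nat_lit 6, nat_lit 8, nat_lit 3], (nat_lit 710831333), (nat_lit 0)) ::
  ([nat_lit 8, nat_lit 9, nat_lit 1, nat_lit 6, nat_lit 8, nat_lit 10], (nat_lit 711923685), (nat_lit 0)) ::
  ([nat_lit 7, nat_lit 6, nat_lit 8, nat_lit 9, nat_lit 8, nat_lit 0, nat_lit 10], (nat_lit 713167575), (nat_lit 0)) ::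
  ([nat_lit 8, nat_lit 0, nat_lit 9, nat_lit 1, nat_lit 8, nat_lit 3, nat_lit 9], (nat_lit 713503726), (nat_lit 15180)) ::
  ([nat_lit 8, nat_lit 0, nat_lit 1, nat_lit 9, nat_lit 8, nat_lit 2, nat_lit 4], (nat_lit 713897180), (nat_lit 0)) ::
  ([nat_lit 7, nat_lit 6, nat_lit 8, nat_lit 2, nat_lit 9, nat_lit 6, nat_lit 8, nat_lit 0], (nat_lit 714042029), (nat_lit 15180)) ::
  ([nat_lit 8, nat_lit 1, nat_lit 9, nat_lit 8, nat_lit 10, nat_lit 0], (nat_lit 714556323), (nat_lit 0)) ::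
  ([nat_lit 7, nat_lit 6, nat_lit 3, nat_lit 8, nat_lit 9, nat_lit 1, nat_lit 8, nat_lit 2], (nat_lit 714817190), (nat_lit 0)) ::
  ([nat_lit 7, nat_lit 6, nat_lit 5, nat_lit 8, nat_lit 6, nat_lit 1], (nat_lit 715516374), (nat_lit 0)) ::
  ([nat_lit 7, nat_lit 8, nat_lit 6, nat_lit 9, nat_lit 10, nat_lit 3, nat_lit 8, nat_lit 9], (nat_lit 715606880), (nat_lit 0)) ::
  ([nat_lit 8, nat_lit 0, nat_lit 9, nat_lit 8, nat_lit 1, nat_lit 6, nat_lit 7], (nat_lit 717732921), (nat_lit 0)) ::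
  ([nat_lit 8, nat_lit 1, nat_lit 9, nat_lit 7, nat_lit 6, nat_lit 8, nat_lit 0], (nat_lit 718404659), (nat_lit 0)) ::
  ([nat_lit 7, nat_lit 6, nat_lit 4, nat_lit 8, nat_lit 2, nat_lit 9, nat_lit 3], (nat_lit 718785208), (nat_lit 0)) ::
  ([nat_lit 7, nat_lit 8, nat_lit 9, nat_lit 1, nat_lit 10], (nat_lit 719298771), (nat_lit 0)) ::
  ([nat_lit 7, nat_lit 6, nat_lit 8, nat_lit 2, nat_lit 9, nat_lit 3, nat_lit 8, nat_lit 10], (nat_lit 719325895), (nat_lit 0)) ::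
  ([nat_lit 7, nat_lit 8, nat_lit 3, nat_lit 6, nat_lit 9, nat_lit 8, nat_lit 0, nat_lit 8], (nat_lit 722141104), (nat_lit 0)) ::
  ([nat_lit 7, nat_lit 6, nat_lit 8, nat_lit 0], (nat_lit 722296307), (nat_lit 0)) ::
  ([nat_lit 8, nat_lit 9, nat_lit 10, nat_lit 3, nat_lit 8, nat_lit 9], (nat_lit 723503085), (nat_lit 0)) ::
  ([nat_lit 7, nat_lit 6, nat_lit 2, nat_lit 8, nat_lit 3, nat_lit 9, nat_lit 10], (nat_lit 723757870), (nat_lit 0)) ::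
  ([nat_lit 8, nat_lit 9, nat_lit 1, nat_lit 8, nat_lit 2, nat_lit 6], (nat_lit 724432614), (nat_lit 0)) ::
  ([nat_lit 7, nat_lit 6, nat_lit 4, nat_lit 8, nat_lit 0, nat_lit 9, nat_lit 8, nat_lit 2, nat_lit 5], (nat_lit 724533727), (nat_lit 0)) ::
  ([nat_lit 7, nat_lit 8, nat_lit 2, nat_lit 6, nat_lit 4, nat_lit 9, nat_lit 8], (nat_lit 724557200), (nat_lit 0)) ::
  ([nat_lit 7, nat_lit 8, nat_lit 6, nat_lit 5, nat_lit 9, nat_lit 1], (nat_lit 725258695), (nat_lit 0)) ::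
  ([nat_lit 7, nat_lit 6, nat_lit 4, nat_lit 8], (nat_lit 726164800), (nat_lit 0)) ::
  ([nat_lit 7, nat_lit 8, nat_lit 9, nat_lit 3, nat_lit 6, nat_lit 8, nat_lit 1], (nat_lit 726807495), (nat_lit 0)) ::
  ([nat_lit 8, nat_lit 1, nat_lit 9, nat_lit 8, nat_lit 10, nat_lit 0, nat_lit 9, nat_lit 8], (nat_lit 727654145), (nat_lit 0)) ::
  ([nat_lit 7, nat_lit 8, nat_lit 2, nat_lit 4, nat_lit 6, nat_lit 9, nat_lit 8], (nat_lit 727996610), (nat_lit 0)) ::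
  ([nat_lit 7, nat_lit 6, nat_lit 8, nat_lit 9, nat_lit 8, nat_lit 10, nat_lit 0], (nat_lit 729065149), (nat_lit 0)) ::
  ([nat_lit 7, nat_lit 6, nat_lit 1, nat_lit 8, nat_lit 1, nat_lit 9, nat_lit 8], (nat_lit 729247067), (nat_lit 0)) ::
  clD1250
noncomputable def clD1150 : List (List ℕ × ℕ × ℕ) :=
  ([nat_lit 7, nat_lit 8, nat_lit 3, nat_lit 6, nat_lit 3, nat_lit 10], (nat_lit 675109433), (nat_lit 0)) ::
  ([nat_lit 7, nat_lit 8, nat_lit 6, nat_lit 9, nat_lit 3, nat_lit 8, nat_lit 1, nat_lit 9], (nat_lit 675691460), (nat_lit 0)) ::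
  ([nat_lit 8, nat_lit 3, nat_lit 9, nat_lit 8, nat_lit 10, nat_lit 9, nat_lit 3], (nat_lit 675956274), (nat_lit 0)) ::
  ([nat_lit 7, nat_lit 6, nat_lit 4, nat_lit 8, nat_lit 3, nat_lit 9, nat_lit 8], (nat_lit 678418185), (nat_lit 0)) ::
  ([nat_lit 7, nat_lit 8, nat_lit 9, nat_lit 6, nat_lit 0, nat_lit 8, nat_lit 6], (nat_lit 679010446), (nat_lit 0)) ::
  ([nat_lit 7, nat_lit 8, nat_lit 1], (nat_lit 679206871), (nat_lit 0)) ::
  ([nat_lit 7, nat_lit 6, nat_lit 8, nat_lit 2, nat_lit 9, nat_lit 8, nat_lit 0, nat_lit 6], (nat_lit 679482046), (nat_lit 0)) ::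
  ([nat_lit 8, nat_lit 0, nat_lit 9, nat_lit 1, nat_lit 8, nat_lit 3, nat_lit 10], (nat_lit 679769275), (nat_lit 0)) ::
  ([nat_lit 8, nat_lit 9, nat_lit 10, nat_lit 3], (nat_lit 681051472), (nat_lit 0)) ::
  ([nat_lit 7, nat_lit 6, nat_lit 8, nat_lit 2, nat_lit 9, nat_lit 6, nat_lit 8, nat_lit 3], (nat_lit 681097721), (nat_lit 0)) ::
  ([nat_lit 7, nat_lit 8, nat_lit 3, nat_lit 6, nat_lit 9, nat_lit 6], (nat_lit 681152653), (nat_lit 0)) ::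
  ([nat_lit 8, nat_lit 0, nat_lit 9, nat_lit 8, nat_lit 1, nat_lit 6, nat_lit 7, nat_lit 10], (nat_lit 681897894), (nat_lit 0)) ::
  ([nat_lit 7, nat_lit 6, nat_lit 8, nat_lit 2, nat_lit 9, nat_lit 3, nat_lit 8, nat_lit 0], (nat_lit 681912319), (nat_lit 0)) ::
  ([nat_lit 7, nat_lit 8, nat_lit 0, nat_lit 6, nat_lit 9, nat_lit 3, nat_lit 8, nat_lit 3], (nat_lit 682732777), (nat_lit 0)) ::
  ([nat_lit 7, nat_lit 8, nat_lit 9, nat_lit 3, nat_lit 8, nat_lit 1, nat_lit 2], (nat_lit 683075924), (nat_lit 0)) ::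
  ([nat_lit 7, nat_lit 8, nat_lit 2, nat_lit 9, nat_lit 3, nat_lit 8, nat_lit 6, nat_lit 3], (nat_lit 683113985), (nat_lit 0)) ::
  ([nat_lit 8, nat_lit 3, nat_lit 9, nat_lit 8, nat_lit 1, nat_lit 3], (nat_lit 683984199), (nat_lit 0)) ::
  ([nat_lit 7, nat_lit 6, nat_lit 4, nat_lit 8, nat_lit 0, nat_lit 10], (nat_lit 684500260), (nat_lit 0)) ::
  ([nat_lit 8, nat_lit 1, nat_lit 9, nat_lit 7, nat_lit 8, nat_lit 0, nat_lit 2], (nat_lit 684633588), (nat_lit 0)) ::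
  ([nat_lit 8, nat_lit 3, nat_lit 9, nat_lit 8, nat_lit 10, nat_lit 9, nat_lit 6], (nat_lit 684833408), (nat_lit 0)) ::
  ([nat_lit 8, nat_lit 0, nat_lit 9, nat_lit 8, nat_lit 10, nat_lit 0, nat_lit 7], (nat_lit 685136293), (nat_lit 0)) ::
  ([nat_lit 8, nat_lit 1, nat_lit 6, nat_lit 9, nat_lit 8, nat_lit 10], (nat_lit 685893582), (nat_lit 0)) ::
  ([nat_lit 8, nat_lit 2, nat_lit 5, nat_lit 9, nat_lit 8, nat_lit 2], (nat_lit 686711334), (nat_lit 0)) ::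
  ([nat_lit 7, nat_lit 6, nat_lit 1, nat_lit 8, nat_lit 3, nat_lit 9, nat_lit 6], (nat_lit 686769826), (nat_lit 0)) ::
  ([nat_lit 8, nat_lit 0, nat_lit 1], (nat_lit 687742300), (nat_lit 0)) ::
  ([nat_lit 8, nat_lit 0, nat_lit 1, nat_lit 9, nat_lit 6, nat_lit 8, nat_lit 3], (nat_lit 687794373), (nat_lit 0)) ::
  ([nat_lit 7, nat_lit 8, nat_lit 6, nat_lit 1, nat_lit 5, nat_lit 9, nat_lit 8, nat_lit 1], (nat_lit 688392752), (nat_lit 0)) ::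
  ([nat_lit 7, nat_lit 6, nat_lit 8, nat_lit 2, nat_lit 9, nat_lit 8, nat_lit 3], (nat_lit 688397114), (nat_lit 0)) ::
  ([nat_lit 7, nat_lit 8, nat_lit 3, nat_lit 6, nat_lit 3, nat_lit 9, nat_lit 10], (nat_lit 688443321), (nat_lit 0)) ::
  ([nat_lit 8, nat_lit 1, nat_lit 6, nat_lit 9, nat_lit 8, nat_lit 0], (nat_lit 688646061), (nat_lit 0)) ::
  ([nat_lit 8, nat_lit 2, nat_lit 9, nat_lit 3, nat_lit 8, nat_lit 1], (nat_lit 689284052), (nat_lit 0)) ::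
  ([nat_lit 7, nat_lit 8, nat_lit 3, nat_lit 10, nat_lit 9, nat_lit 8, nat_lit 1, nat_lit 3], (nat_lit 691163088), (nat_lit 0)) ::
  ([nat_lit 7, nat_lit 8, nat_lit 6], (nat_lit 691245477), (nat_lit 0)) ::
  ([nat_lit 7, nat_lit 6, nat_lit 4, nat_lit 8, nat_lit 3, nat_lit 6, nat_lit 9], (nat_lit 692270670), (nat_lit 0)) ::
  ([nat_lit 7, nat_lit 6, nat_lit 0, nat_lit 8, nat_lit 9, nat_lit 3, nat_lit 10], (nat_lit 692750636), (nat_lit 0)) ::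
  ([nat_lit 8, nat_lit 0, nat_lit 9, nat_lit 8, nat_lit 6, nat_lit 2], (nat_lit 692921873), (nat_lit 0)) ::
  ([nat_lit 7, nat_lit 8, nat_lit 6, nat_lit 0, nat_lit 4], (nat_lit 692942176), (nat_lit 0)) ::
  ([nat_lit 7, nat_lit 8, nat_lit 0, nat_lit 1, nat_lit 9, nat_lit 8, nat_lit 10], (nat_lit 693008225), (nat_lit 0)) ::
  ([nat_lit 7, nat_lit 6, nat_lit 8, nat_lit 1], (nat_lit 693299454), (nat_lit 0)) ::
  ([nat_lit 7, nat_lit 8, nat_lit 2, nat_lit 6, nat_lit 9, nat_lit 3, nat_lit 8], (nat_lit 693774615), (nat_lit 0)) ::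
  ([nat_lit 7, nat_lit 6, nat_lit 3, nat_lit 8, nat_lit 0, nat_lit 1], (nat_lit 694483574), (nat_lit 0)) ::
  ([nat_lit 7, nat_lit 8, nat_lit 1, nat_lit 9, nat_lit 6, nat_lit 1, nat_lit 8, nat_lit 1], (nat_lit 694583338), (nat_lit 0)) ::
  ([nat_lit 8, nat_lit 2, nat_lit 9, nat_lit 3, nat_lit 8], (nat_lit 694601593), (nat_lit 0)) ::
  ([nat_lit 8, nat_lit 2, nat_lit 9, nat_lit 8, nat_lit 1, nat_lit 3], (nat_lit 694669184), (nat_lit 0)) ::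
  ([nat_lit 7, nat_lit 6, nat_lit 9, nat_lit 8, nat_lit 3, nat_lit 9, nat_lit 8], (nat_lit 694790775), (nat_lit 0)) ::
  ([nat_lit 8, nat_lit 9, nat_lit 10, nat_lit 0, nat_lit 7, nat_lit 8, nat_lit 1], (nat_lit 695208417), (nat_lit 0)) ::
  ([nat_lit 7, nat_lit 6, nat_lit 8, nat_lit 0, nat_lit 9], (nat_lit 695464519), (nat_lit 0)) ::
  ([nat_lit 8, nat_lit 0, nat_lit 9, nat_lit 1, nat_lit 8, nat_lit 1, nat_lit 6], (nat_lit 696029214), (nat_lit 0)) ::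
  ([nat_lit 7, nat_lit 8, nat_lit 6, nat_lit 5, nat_lit 2, nat_lit 9, nat_lit 8, nat_lit 3], (nat_lit 696212535), (nat_lit 0)) ::
  ([nat_lit 7, nat_lit 6, nat_lit 8, nat_lit 1, nat_lit 9, nat_lit 7, nat_lit 8, nat_lit 2], (nat_lit 696246569), (nat_lit 0)) ::
  clD1200
noncomputable def clD1100 : List (List ℕ × ℕ × ℕ) :=
  ([nat_lit 7, nat_lit 6, nat_lit 8, nat_lit 1, nat_lit 3, nat_lit 9, nat_lit 8, nat_lit 1], (nat_lit 651457172), (nat_lit 0)) ::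
  ([nat_lit 7, nat_lit 8, nat_lit 1, nat_lit 3, nat_lit 9, nat_lit 8, nat_lit 1], (nat_lit 651717727), (nat_lit 0)) ::
  ([nat_lit 8, nat_lit 9, nat_lit 1, nat_lit 6, nat_lit 10], (nat_lit 651949788), (nat_lit 0)) ::
  ([nat_lit 7, nat_lit 6, nat_lit 8, nat_lit 0, nat_lit 2, nat_lit 9, nat_lit 8, nat_lit 3], (nat_lit 652070058), (nat_lit 0)) ::
  ([nat_lit 7, nat_lit 6, nat_lit 8, nat_lit 9, nat_lit 3, nat_lit 6, nat_lit 8, nat_lit 2, nat_lit 4], (nat_lit 652364115), (nat_lit 0)) ::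
  ([nat_lit 7, nat_lit 8, nat_lit 2, nat_lit 9, nat_lit 10, nat_lit 3, nat_lit 6], (nat_lit 652399316), (nat_lit 0)) ::
  ([nat_lit 7, nat_lit 8, nat_lit 2, nat_lit 9, nat_lit 10, nat_lit 3, nat_lit 8, nat_lit 1], (nat_lit 652676729), (nat_lit 0)) ::
  ([nat_lit 7, nat_lit 8, nat_lit 2, nat_lit 5, nat_lit 9, nat_lit 8, nat_lit 2, nat_lit 10], (nat_lit 654451516), (nat_lit 0)) ::
  ([nat_lit 7, nat_lit 8, nat_lit 3, nat_lit 9, nat_lit 8, nat_lit 2], (nat_lit 655082883), (nat_lit 0)) ::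
  ([nat_lit 7, nat_lit 6, nat_lit 8, nat_lit 0, nat_lit 9, nat_lit 10], (nat_lit 655417276), (nat_lit 0)) ::
  ([nat_lit 7, nat_lit 6, nat_lit 0, nat_lit 8, nat_lit 0, nat_lit 9, nat_lit 8, nat_lit 3], (nat_lit 655528694), (nat_lit 0)) ::
  ([nat_lit 7, nat_lit 8, nat_lit 0, nat_lit 9, nat_lit 8, nat_lit 2, nat_lit 6, nat_lit 7], (nat_lit 655597674), (nat_lit 0)) ::
  ([nat_lit 7, nat_lit 6, nat_lit 1, nat_lit 8, nat_lit 9, nat_lit 3, nat_lit 8], (nat_lit 656218943), (nat_lit 0)) ::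
  ([nat_lit 7, nat_lit 8, nat_lit 0, nat_lit 9, nat_lit 1, nat_lit 8], (nat_lit 656915590), (nat_lit 0)) ::
  ([nat_lit 7, nat_lit 6, nat_lit 8, nat_lit 0, nat_lit 9, nat_lit 8, nat_lit 3], (nat_lit 657325772), (nat_lit 0)) ::
  ([nat_lit 7, nat_lit 6, nat_lit 8, nat_lit 9, nat_lit 1], (nat_lit 657914344), (nat_lit 0)) ::
  ([nat_lit 8, nat_lit 9, nat_lit 1, nat_lit 8], (nat_lit 658144769), (nat_lit 0)) ::
  ([nat_lit 7, nat_lit 8, nat_lit 9, nat_lit 6, nat_lit 1, nat_lit 8, nat_lit 10, nat_lit 3], (nat_lit 658901099), (nat_lit 0)) ::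
  ([nat_lit 7, nat_lit 6, nat_lit 8, nat_lit 9, nat_lit 6, nat_lit 3, nat_lit 10], (nat_lit 659481200), (nat_lit 0)) ::
  ([nat_lit 7, nat_lit 6, nat_lit 5, nat_lit 8, nat_lit 9, nat_lit 3, nat_lit 8], (nat_lit 660253114), (nat_lit 0)) ::
  ([nat_lit 8, nat_lit 3, nat_lit 9, nat_lit 8, nat_lit 1, nat_lit 4], (nat_lit 660381579), (nat_lit 0)) ::
  ([nat_lit 7, nat_lit 6, nat_lit 8, nat_lit 9, nat_lit 6, nat_lit 10], (nat_lit 660577576), (nat_lit 0)) ::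
  ([nat_lit 7, nat_lit 8, nat_lit 3, nat_lit 9, nat_lit 6], (nat_lit 663284353), (nat_lit 0)) ::
  ([nat_lit 7, nat_lit 8, nat_lit 3, nat_lit 9, nat_lit 6, nat_lit 3], (nat_lit 663878760), (nat_lit 0)) ::
  ([nat_lit 7, nat_lit 6, nat_lit 8, nat_lit 3, nat_lit 9, nat_lit 1, nat_lit 8], (nat_lit 664111493), (nat_lit 0)) ::
  ([nat_lit 7, nat_lit 6, nat_lit 8, nat_lit 0, nat_lit 6, nat_lit 9, nat_lit 8, nat_lit 3], (nat_lit 664836812), (nat_lit 0)) ::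
  ([nat_lit 7, nat_lit 8, nat_lit 1, nat_lit 9], (nat_lit 665246627), (nat_lit 0)) ::
  ([nat_lit 7, nat_lit 6, nat_lit 5, nat_lit 8, nat_lit 2, nat_lit 9], (nat_lit 665725443), (nat_lit 0)) ::
  ([nat_lit 7, nat_lit 6, nat_lit 8, nat_lit 9, nat_lit 1, nat_lit 5, nat_lit 8], (nat_lit 665951340), (nat_lit 0)) ::
  ([nat_lit 7, nat_lit 8, nat_lit 0, nat_lit 9, nat_lit 8, nat_lit 10, nat_lit 9], (nat_lit 666287065), (nat_lit 0)) ::
  ([nat_lit 7, nat_lit 6, nat_lit 0, nat_lit 8, nat_lit 3, nat_lit 9, nat_lit 8, nat_lit 1], (nat_lit 666315921), (nat_lit 0)) ::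
  ([nat_lit 7, nat_lit 8, nat_lit 0, nat_lit 9, nat_lit 8, nat_lit 2, nat_lit 6, nat_lit 3], (nat_lit 667403781), (nat_lit 0)) ::
  ([nat_lit 8, nat_lit 1, nat_lit 9, nat_lit 7, nat_lit 8, nat_lit 2, nat_lit 6, nat_lit 0], (nat_lit 668142887), (nat_lit 0)) ::
  ([nat_lit 8, nat_lit 9, nat_lit 1, nat_lit 8, nat_lit 10, nat_lit 3, nat_lit 6], (nat_lit 668379925), (nat_lit 0)) ::
  ([nat_lit 8, nat_lit 1, nat_lit 9, nat_lit 10], (nat_lit 668540414), (nat_lit 0)) ::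
  ([nat_lit 7, nat_lit 6, nat_lit 1, nat_lit 8, nat_lit 1, nat_lit 9, nat_lit 8, nat_lit 1], (nat_lit 669401800), (nat_lit 0)) ::
  ([nat_lit 7, nat_lit 8, nat_lit 9, nat_lit 6, nat_lit 0, nat_lit 8, nat_lit 1], (nat_lit 669702070), (nat_lit 0)) ::
  ([nat_lit 8, nat_lit 0, nat_lit 9, nat_lit 8, nat_lit 6, nat_lit 0, nat_lit 7], (nat_lit 670647660), (nat_lit 0)) ::
  ([nat_lit 7, nat_lit 8, nat_lit 3, nat_lit 6, nat_lit 9], (nat_lit 671256537), (nat_lit 0)) ::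
  ([nat_lit 7, nat_lit 6, nat_lit 5, nat_lit 8, nat_lit 3], (nat_lit 672236958), (nat_lit 0)) ::
  ([nat_lit 8, nat_lit 0, nat_lit 2, nat_lit 9, nat_lit 8, nat_lit 2], (nat_lit 672744329), (nat_lit 0)) ::
  ([nat_lit 8, nat_lit 9, nat_lit 3, nat_lit 8, nat_lit 0, nat_lit 10, nat_lit 9], (nat_lit 673071524), (nat_lit 0)) ::
  ([nat_lit 7, nat_lit 8, nat_lit 2, nat_lit 9, nat_lit 3, nat_lit 8, nat_lit 10], (nat_lit 673120711), (nat_lit 0)) ::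
  ([nat_lit 7, nat_lit 6, nat_lit 3, nat_lit 10], (nat_lit 673517382), (nat_lit 0)) ::
  ([nat_lit 8, nat_lit 9, nat_lit 10, nat_lit 3, nat_lit 8, nat_lit 0], (nat_lit 673600494), (nat_lit 0)) ::
  ([nat_lit 8, nat_lit 1, nat_lit 6, nat_lit 9, nat_lit 7, nat_lit 6, nat_lit 8], (nat_lit 673643361), (nat_lit 0)) ::
  ([nat_lit 7, nat_lit 8, nat_lit 2, nat_lit 5, nat_lit 9, nat_lit 6], (nat_lit 674219458), (nat_lit 0)) ::
  ([nat_lit 7, nat_lit 8, nat_lit 3, nat_lit 6, nat_lit 9, nat_lit 8, nat_lit 0, nat_lit 4], (nat_lit 674373457), (nat_lit 0)) ::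
  ([nat_lit 7, nat_lit 6, nat_lit 4, nat_lit 8, nat_lit 0, nat_lit 9], (nat_lit 674544241), (nat_lit 0)) ::
  ([nat_lit 8, nat_lit 9, nat_lit 3], (nat_lit 674795823), (nat_lit 0)) ::
  clD1150
noncomputable def clD1050 : List (List ℕ × ℕ × ℕ) :=
  ([nat_lit 8, nat_lit 0, nat_lit 1, nat_lit 9, nat_lit 8, nat_lit 3, nat_lit 10, nat_lit 9], (nat_lit 619813154), (nat_lit 0)) ::
  ([nat_lit 7, nat_lit 8, nat_lit 0, nat_lit 9, nat_lit 8, nat_lit 6, nat_lit 1, nat_lit 3], (nat_lit 620330865), (nat_lit 0)) ::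
  ([nat_lit 7, nat_lit 6, nat_lit 8, nat_lit 2, nat_lit 5, nat_lit 9, nat_lit 8, nat_lit 3], (nat_lit 620929416), (nat_lit 0)) ::
  ([nat_lit 7, nat_lit 8, nat_lit 3, nat_lit 9, nat_lit 8, nat_lit 10, nat_lit 9], (nat_lit 621015686), (nat_lit 0)) ::
  ([nat_lit 7, nat_lit 6, nat_lit 1, nat_lit 8], (nat_lit 621572039), (nat_lit 0)) ::
  ([nat_lit 8, nat_lit 3, nat_lit 9], (nat_lit 622793774), (nat_lit 0)) ::
  ([nat_lit 7, nat_lit 6, nat_lit 8, nat_lit 9, nat_lit 6, nat_lit 3, nat_lit 8, nat_lit 0], (nat_lit 622980193), (nat_lit 0)) ::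
  ([nat_lit 7, nat_lit 8, nat_lit 2, nat_lit 9, nat_lit 8, nat_lit 6, nat_lit 5, nat_lit 2], (nat_lit 623920245), (nat_lit 0)) ::
  ([nat_lit 8, nat_lit 2, nat_lit 4], (nat_lit 626183568), (nat_lit 0)) ::
  ([nat_lit 7, nat_lit 6, nat_lit 9, nat_lit 8, nat_lit 0], (nat_lit 626602241), (nat_lit 0)) ::
  ([nat_lit 7, nat_lit 8, nat_lit 2, nat_lit 5, nat_lit 9, nat_lit 8, nat_lit 0], (nat_lit 627098859), (nat_lit 0)) ::
  ([nat_lit 8, nat_lit 0, nat_lit 1, nat_lit 9, nat_lit 8, nat_lit 10, nat_lit 9], (nat_lit 628111829), (nat_lit 0)) ::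
  ([nat_lit 7, nat_lit 8, nat_lit 9, nat_lit 6, nat_lit 0, nat_lit 3, nat_lit 8, nat_lit 2], (nat_lit 629793489), (nat_lit 0)) ::
  ([nat_lit 8, nat_lit 1, nat_lit 9, nat_lit 7, nat_lit 8, nat_lit 6], (nat_lit 630563815), (nat_lit 0)) ::
  ([nat_lit 7, nat_lit 6, nat_lit 0, nat_lit 8, nat_lit 9, nat_lit 7], (nat_lit 631288565), (nat_lit 0)) ::
  ([nat_lit 7, nat_lit 6, nat_lit 5, nat_lit 8, nat_lit 1, nat_lit 4], (nat_lit 632842842), (nat_lit 0)) ::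
  ([nat_lit 7, nat_lit 6, nat_lit 8, nat_lit 1, nat_lit 9, nat_lit 3, nat_lit 8, nat_lit 1], (nat_lit 632848500), (nat_lit 0)) ::
  ([nat_lit 8, nat_lit 0, nat_lit 9, nat_lit 8, nat_lit 6, nat_lit 2, nat_lit 4], (nat_lit 633249356), (nat_lit 0)) ::
  ([nat_lit 7, nat_lit 8, nat_lit 6, nat_lit 0, nat_lit 9, nat_lit 10], (nat_lit 634445830), (nat_lit 0)) ::
  ([nat_lit 7, nat_lit 8, nat_lit 0, nat_lit 9, nat_lit 8, nat_lit 1, nat_lit 6], (nat_lit 634883372), (nat_lit 0)) ::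
  ([nat_lit 8, nat_lit 9, nat_lit 3, nat_lit 8, nat_lit 10, nat_lit 0, nat_lit 9], (nat_lit 636352327), (nat_lit 0)) ::
  ([nat_lit 7, nat_lit 8, nat_lit 3, nat_lit 6, nat_lit 9, nat_lit 3, nat_lit 10], (nat_lit 636787041), (nat_lit 0)) ::
  ([nat_lit 8, nat_lit 9, nat_lit 1, nat_lit 6, nat_lit 8, nat_lit 1], (nat_lit 636916655), (nat_lit 0)) ::
  ([nat_lit 7, nat_lit 6, nat_lit 2, nat_lit 8, nat_lit 0, nat_lit 9, nat_lit 8], (nat_lit 637424219), (nat_lit 0)) ::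
  ([nat_lit 7, nat_lit 8, nat_lit 6, nat_lit 0, nat_lit 5, nat_lit 9, nat_lit 10], (nat_lit 637529757), (nat_lit 0)) ::
  ([nat_lit 7, nat_lit 8, nat_lit 9, nat_lit 10, nat_lit 0], (nat_lit 639757684), (nat_lit 0)) ::
  ([nat_lit 8, nat_lit 9, nat_lit 1, nat_lit 10], (nat_lit 639977994), (nat_lit 0)) ::
  ([nat_lit 7, nat_lit 6, nat_lit 8, nat_lit 0, nat_lit 6, nat_lit 3, nat_lit 9, nat_lit 8], (nat_lit 641093175), (nat_lit 0)) ::
  ([nat_lit 8, nat_lit 1, nat_lit 9, nat_lit 7, nat_lit 8, nat_lit 2, nat_lit 6], (nat_lit 641116547), (nat_lit 0)) ::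
  ([nat_lit 8, nat_lit 9, nat_lit 3, nat_lit 8, nat_lit 2, nat_lit 10], (nat_lit 641280726), (nat_lit 0)) ::
  ([nat_lit 7, nat_lit 8, nat_lit 6, nat_lit 5, nat_lit 0], (nat_lit 641443097), (nat_lit 0)) ::
  ([nat_lit 7, nat_lit 6, nat_lit 3, nat_lit 8], (nat_lit 641809589), (nat_lit 0)) ::
  ([nat_lit 7, nat_lit 8, nat_lit 0, nat_lit 1, nat_lit 9, nat_lit 8, nat_lit 1, nat_lit 9], (nat_lit 641951014), (nat_lit 0)) ::
  ([nat_lit 7, nat_lit 8, nat_lit 3, nat_lit 6, nat_lit 0], (nat_lit 642049725), (nat_lit 0)) ::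
  ([nat_lit 7, nat_lit 6, nat_lit 8, nat_lit 1, nat_lit 9, nat_lit 3, nat_lit 8, nat_lit 0], (nat_lit 642362390), (nat_lit 0)) ::
  ([nat_lit 7, nat_lit 8, nat_lit 6, nat_lit 1, nat_lit 9, nat_lit 8, nat_lit 3, nat_lit 5], (nat_lit 642395468), (nat_lit 0)) ::
  ([nat_lit 7, nat_lit 6, nat_lit 9, nat_lit 8, nat_lit 1], (nat_lit 642401379), (nat_lit 0)) ::
  ([nat_lit 8, nat_lit 2, nat_lit 9, nat_lit 3, nat_lit 8, nat_lit 10, nat_lit 0], (nat_lit 642996738), (nat_lit 0)) ::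
  ([nat_lit 8, nat_lit 1, nat_lit 6, nat_lit 9, nat_lit 8, nat_lit 2, nat_lit 5], (nat_lit 643110742), (nat_lit 0)) ::
  ([nat_lit 8, nat_lit 1, nat_lit 2, nat_lit 6], (nat_lit 643737989), (nat_lit 0)) ::
  ([nat_lit 7, nat_lit 8, nat_lit 2, nat_lit 9, nat_lit 8], (nat_lit 644477743), (nat_lit 0)) ::
  ([nat_lit 7, nat_lit 8, nat_lit 0, nat_lit 6, nat_lit 9, nat_lit 8, nat_lit 1], (nat_lit 646048070), (nat_lit 0)) ::
  ([nat_lit 7, nat_lit 8, nat_lit 2, nat_lit 9, nat_lit 8, nat_lit 10, nat_lit 9], (nat_lit 646170166), (nat_lit 0)) ::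
  ([nat_lit 7, nat_lit 8, nat_lit 2, nat_lit 9, nat_lit 8, nat_lit 6, nat_lit 5], (nat_lit 646373147), (nat_lit 0)) ::
  ([nat_lit 7, nat_lit 6, nat_lit 8, nat_lit 0, nat_lit 9, nat_lit 8, nat_lit 1, nat_lit 2], (nat_lit 647256346), (nat_lit 0)) ::
  ([nat_lit 7, nat_lit 6, nat_lit 8, nat_lit 9, nat_lit 3, nat_lit 8, nat_lit 1, nat_lit 4], (nat_lit 647523035), (nat_lit 0)) ::
  ([nat_lit 8, nat_lit 2, nat_lit 3, nat_lit 9, nat_lit 8, nat_lit 3], (nat_lit 648084507), (nat_lit 0)) ::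
  ([nat_lit 8, nat_lit 1, nat_lit 9, nat_lit 8, nat_lit 10, nat_lit 3, nat_lit 5], (nat_lit 648409616), (nat_lit 0)) ::
  ([nat_lit 8, nat_lit 0, nat_lit 9, nat_lit 8, nat_lit 6, nat_lit 2, nat_lit 3], (nat_lit 649634947), (nat_lit 0)) ::
  ([nat_lit 8, nat_lit 2, nat_lit 9, nat_lit 3, nat_lit 8, nat_lit 3], (nat_lit 651279729), (nat_lit 0)) ::
  clD1100
noncomputable def clD1000 : List (List ℕ × ℕ × ℕ) :=
  ([nat_lit 8, nat_lit 1, nat_lit 9, nat_lit 7, nat_lit 6, nat_lit 2], (nat_lit 589696459), (nat_lit 0)) ::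
  ([nat_lit 7, nat_lit 6, nat_lit 8, nat_lit 2, nat_lit 9, nat_lit 6], (nat_lit 590338002), (nat_lit 0)) ::
  ([nat_lit 7, nat_lit 6, nat_lit 8, nat_lit 2, nat_lit 9, nat_lit 6, nat_lit 8, nat_lit 10], (nat_lit 590343136), (nat_lit 0)) ::
  ([nat_lit 8, nat_lit 9, nat_lit 10, nat_lit 0, nat_lit 7, nat_lit 8], (nat_lit 590953644), (nat_lit 0)) ::
  ([nat_lit 7, nat_lit 6, nat_lit 8, nat_lit 2, nat_lit 5, nat_lit 9], (nat_lit 591101947), (nat_lit 0)) ::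
  ([nat_lit 7, nat_lit 8, nat_lit 0, nat_lit 6, nat_lit 9, nat_lit 8, nat_lit 0, nat_lit 1], (nat_lit 591395813), (nat_lit 0)) ::
  ([nat_lit 7, nat_lit 8, nat_lit 2, nat_lit 9, nat_lit 6, nat_lit 8, nat_lit 0], (nat_lit 592361259), (nat_lit 0)) ::
  ([nat_lit 7, nat_lit 8, nat_lit 2, nat_lit 9, nat_lit 8, nat_lit 6, nat_lit 3, nat_lit 10], (nat_lit 592365674), (nat_lit 0)) ::
  ([nat_lit 7, nat_lit 6, nat_lit 5, nat_lit 8, nat_lit 9, nat_lit 3], (nat_lit 594738198), (nat_lit 0)) ::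
  ([nat_lit 7, nat_lit 6, nat_lit 1, nat_lit 8, nat_lit 0, nat_lit 9, nat_lit 8], (nat_lit 594975333), (nat_lit 0)) ::
  ([nat_lit 8, nat_lit 1, nat_lit 9, nat_lit 8, nat_lit 0, nat_lit 4], (nat_lit 597067615), (nat_lit 0)) ::
  ([nat_lit 7, nat_lit 8, nat_lit 0, nat_lit 9, nat_lit 8, nat_lit 1, nat_lit 2, nat_lit 8], (nat_lit 597363314), (nat_lit 0)) ::
  ([nat_lit 7, nat_lit 6, nat_lit 8, nat_lit 0, nat_lit 9, nat_lit 8, nat_lit 0], (nat_lit 597606727), (nat_lit 0)) ::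
  ([nat_lit 7, nat_lit 8, nat_lit 9, nat_lit 6, nat_lit 1, nat_lit 5, nat_lit 10], (nat_lit 598489982), (nat_lit 0)) ::
  ([nat_lit 7, nat_lit 6, nat_lit 8, nat_lit 9, nat_lit 3, nat_lit 8, nat_lit 0, nat_lit 6, nat_lit 7], (nat_lit 599346610), (nat_lit 0)) ::
  ([nat_lit 7, nat_lit 6, nat_lit 5, nat_lit 8, nat_lit 1, nat_lit 9, nat_lit 8, nat_lit 1], (nat_lit 599726567), (nat_lit 0)) ::
  ([nat_lit 7, nat_lit 6, nat_lit 5, nat_lit 8, nat_lit 2, nat_lit 9, nat_lit 8, nat_lit 1], (nat_lit 600436651), (nat_lit 0)) ::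
  ([nat_lit 7, nat_lit 8, nat_lit 0, nat_lit 6, nat_lit 4, nat_lit 9, nat_lit 8, nat_lit 2], (nat_lit 601019441), (nat_lit 0)) ::
  ([nat_lit 7, nat_lit 8, nat_lit 3, nat_lit 6, nat_lit 9, nat_lit 10, nat_lit 9], (nat_lit 602003153), (nat_lit 0)) ::
  ([nat_lit 7, nat_lit 6, nat_lit 3, nat_lit 8, nat_lit 2, nat_lit 5], (nat_lit 602675595), (nat_lit 0)) ::
  ([nat_lit 7, nat_lit 8, nat_lit 6, nat_lit 1, nat_lit 9, nat_lit 3, nat_lit 8], (nat_lit 603025781), (nat_lit 0)) ::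
  ([nat_lit 7, nat_lit 8, nat_lit 2, nat_lit 5, nat_lit 9, nat_lit 6, nat_lit 8, nat_lit 10], (nat_lit 603041960), (nat_lit 0)) ::
  ([nat_lit 7, nat_lit 8, nat_lit 1, nat_lit 3, nat_lit 9, nat_lit 8, nat_lit 1, nat_lit 6], (nat_lit 603563547), (nat_lit 0)) ::
  ([nat_lit 7, nat_lit 8, nat_lit 3, nat_lit 9, nat_lit 8, nat_lit 1, nat_lit 6, nat_lit 3], (nat_lit 604475817), (nat_lit 0)) ::
  ([nat_lit 7, nat_lit 8, nat_lit 0, nat_lit 9, nat_lit 8, nat_lit 2, nat_lit 6, nat_lit 0], (nat_lit 605327022), (nat_lit 0)) ::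
  ([nat_lit 7, nat_lit 6, nat_lit 0, nat_lit 8, nat_lit 9, nat_lit 10], (nat_lit 605418489), (nat_lit 0)) ::
  ([nat_lit 7, nat_lit 8, nat_lit 2, nat_lit 3, nat_lit 8], (nat_lit 605554060), (nat_lit 0)) ::
  ([nat_lit 8, nat_lit 9, nat_lit 1, nat_lit 8, nat_lit 2, nat_lit 4], (nat_lit 605575065), (nat_lit 0)) ::
  ([nat_lit 7, nat_lit 6, nat_lit 2], (nat_lit 605629082), (nat_lit 0)) ::
  ([nat_lit 8, nat_lit 0, nat_lit 9, nat_lit 8, nat_lit 10, nat_lit 9], (nat_lit 605715219), (nat_lit 0)) ::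
  ([nat_lit 8, nat_lit 0, nat_lit 1, nat_lit 9, nat_lit 8, nat_lit 2, nat_lit 5], (nat_lit 606122255), (nat_lit 0)) ::
  ([nat_lit 7, nat_lit 8, nat_lit 6, nat_lit 1, nat_lit 3], (nat_lit 606298740), (nat_lit 0)) ::
  ([nat_lit 7, nat_lit 8, nat_lit 0, nat_lit 6, nat_lit 3, nat_lit 9, nat_lit 10], (nat_lit 607230187), (nat_lit 0)) ::
  ([nat_lit 8, nat_lit 1, nat_lit 6, nat_lit 9, nat_lit 7], (nat_lit 607363669), (nat_lit 0)) ::
  ([nat_lit 7, nat_lit 6, nat_lit 8, nat_lit 2, nat_lit 5, nat_lit 6], (nat_lit 607994374), (nat_lit 0)) ::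
  ([nat_lit 7, nat_lit 8, nat_lit 3, nat_lit 6, nat_lit 9, nat_lit 3, nat_lit 8, nat_lit 3], (nat_lit 609019183), (nat_lit 0)) ::
  ([nat_lit 7, nat_lit 8, nat_lit 0, nat_lit 1, nat_lit 9, nat_lit 8, nat_lit 3, nat_lit 6], (nat_lit 610407622), (nat_lit 0)) ::
  ([nat_lit 7, nat_lit 6, nat_lit 8, nat_lit 2, nat_lit 9, nat_lit 8, nat_lit 1, nat_lit 9], (nat_lit 610668528), (nat_lit 0)) ::
  ([nat_lit 7, nat_lit 8, nat_lit 9, nat_lit 1, nat_lit 8, nat_lit 2], (nat_lit 612593751), (nat_lit 0)) ::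
  ([nat_lit 7, nat_lit 6, nat_lit 8, nat_lit 0, nat_lit 8, nat_lit 9, nat_lit 8], (nat_lit 613593901), (nat_lit 0)) ::
  ([nat_lit 8, nat_lit 0, nat_lit 1, nat_lit 9, nat_lit 6, nat_lit 8, nat_lit 10], (nat_lit 614367303), (nat_lit 0)) ::
  ([nat_lit 7, nat_lit 8, nat_lit 6, nat_lit 5, nat_lit 9, nat_lit 10], (nat_lit 614649507), (nat_lit 0)) ::
  ([nat_lit 8, nat_lit 1, nat_lit 9, nat_lit 7, nat_lit 6, nat_lit 5, nat_lit 8], (nat_lit 614676089), (nat_lit 0)) ::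
  ([nat_lit 8, nat_lit 0, nat_lit 9, nat_lit 1, nat_lit 8, nat_lit 1, nat_lit 5], (nat_lit 615663411), (nat_lit 0)) ::
  ([nat_lit 8, nat_lit 0, nat_lit 2, nat_lit 9, nat_lit 8, nat_lit 0], (nat_lit 616002770), (nat_lit 0)) ::
  ([nat_lit 7, nat_lit 6, nat_lit 0, nat_lit 3, nat_lit 8, nat_lit 2], (nat_lit 617952795), (nat_lit 0)) ::
  ([nat_lit 7, nat_lit 6, nat_lit 8, nat_lit 9, nat_lit 1, nat_lit 8, nat_lit 3], (nat_lit 618485257), (nat_lit 0)) ::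
  ([nat_lit 7, nat_lit 6, nat_lit 4, nat_lit 8, nat_lit 9, nat_lit 1, nat_lit 8], (nat_lit 618859257), (nat_lit 0)) ::
  ([nat_lit 8, nat_lit 0, nat_lit 9, nat_lit 8, nat_lit 2], (nat_lit 618874813), (nat_lit 0)) ::
  ([nat_lit 7, nat_lit 8, nat_lit 3, nat_lit 6, nat_lit 9, nat_lit 3, nat_lit 8, nat_lit 10], (nat_lit 619477576), (nat_lit 0)) ::
  clD1050
noncomputable def clD950 : List (List ℕ × ℕ × ℕ) :=
  ([nat_lit 7, nat_lit 8, nat_lit 0, nat_lit 1, nat_lit 9, nat_lit 8, nat_lit 2, nat_lit 3], (nat_lit 555495820), (nat_lit 0)) ::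
  ([nat_lit 7, nat_lit 6, nat_lit 0, nat_lit 8, nat_lit 6, nat_lit 4], (nat_lit 556730837), (nat_lit 0)) ::
  ([nat_lit 8, nat_lit 1, nat_lit 9, nat_lit 7, nat_lit 8, nat_lit 6, nat_lit 2], (nat_lit 559337335), (nat_lit 0)) ::
  ([nat_lit 7, nat_lit 8, nat_lit 3, nat_lit 9, nat_lit 8, nat_lit 6, nat_lit 10], (nat_lit 560475790), (nat_lit 0)) ::
  ([nat_lit 7, nat_lit 8, nat_lit 9, nat_lit 6, nat_lit 1, nat_lit 8, nat_lit 10], (nat_lit 560874899), (nat_lit 0)) ::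
  ([nat_lit 7, nat_lit 8, nat_lit 0, nat_lit 9, nat_lit 8, nat_lit 2, nat_lit 5], (nat_lit 561055650), (nat_lit 0)) ::
  ([nat_lit 8, nat_lit 1, nat_lit 3, nat_lit 9, nat_lit 8, nat_lit 0, nat_lit 6], (nat_lit 561565048), (nat_lit 0)) ::
  ([nat_lit 7, nat_lit 8, nat_lit 9, nat_lit 3, nat_lit 6, nat_lit 8, nat_lit 3, nat_lit 5], (nat_lit 561831053), (nat_lit 0)) ::
  ([nat_lit 7, nat_lit 6, nat_lit 8, nat_lit 1, nat_lit 3, nat_lit 9], (nat_lit 562280092), (nat_lit 0)) ::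
  ([nat_lit 7, nat_lit 6, nat_lit 0, nat_lit 8, nat_lit 9, nat_lit 3, nat_lit 8, nat_lit 2], (nat_lit 562846674), (nat_lit 0)) ::
  ([nat_lit 8, nat_lit 9, nat_lit 1, nat_lit 8, nat_lit 0, nat_lit 10, nat_lit 9], (nat_lit 564955844), (nat_lit 0)) ::
  ([nat_lit 8, nat_lit 2, nat_lit 9, nat_lit 8, nat_lit 1, nat_lit 5], (nat_lit 565220892), (nat_lit 0)) ::
  ([nat_lit 7, nat_lit 8, nat_lit 9, nat_lit 6, nat_lit 1, nat_lit 8, nat_lit 3, nat_lit 5], (nat_lit 565777845), (nat_lit 0)) ::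
  ([nat_lit 7, nat_lit 6, nat_lit 0, nat_lit 8, nat_lit 6, nat_lit 9], (nat_lit 566680285), (nat_lit 0)) ::
  ([nat_lit 7, nat_lit 6, nat_lit 9, nat_lit 8], (nat_lit 567547649), (nat_lit 0)) ::
  ([nat_lit 7, nat_lit 6, nat_lit 8, nat_lit 0, nat_lit 9, nat_lit 10, nat_lit 3], (nat_lit 567615747), (nat_lit 0)) ::
  ([nat_lit 7, nat_lit 8, nat_lit 3, nat_lit 9, nat_lit 6, nat_lit 3, nat_lit 8], (nat_lit 567701704), (nat_lit 0)) ::
  ([nat_lit 8, nat_lit 0, nat_lit 9, nat_lit 8, nat_lit 1, nat_lit 2, nat_lit 6], (nat_lit 567866043), (nat_lit 0)) ::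
  ([nat_lit 7, nat_lit 6, nat_lit 4, nat_lit 8, nat_lit 3], (nat_lit 568479844), (nat_lit 0)) ::
  ([nat_lit 7, nat_lit 8, nat_lit 1, nat_lit 6], (nat_lit 569642288), (nat_lit 0)) ::
  ([nat_lit 7, nat_lit 8, nat_lit 6, nat_lit 5, nat_lit 0, nat_lit 9, nat_lit 8, nat_lit 2], (nat_lit 569652164), (nat_lit 0)) ::
  ([nat_lit 8, nat_lit 0, nat_lit 9, nat_lit 8, nat_lit 6, nat_lit 3, nat_lit 10], (nat_lit 571297885), (nat_lit 0)) ::
  ([nat_lit 7, nat_lit 8, nat_lit 3, nat_lit 9], (nat_lit 572099147), (nat_lit 0)) ::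
  ([nat_lit 7, nat_lit 8, nat_lit 2, nat_lit 9, nat_lit 3, nat_lit 10], (nat_lit 572374478), (nat_lit 0)) ::
  ([nat_lit 7, nat_lit 6, nat_lit 8, nat_lit 1, nat_lit 9, nat_lit 8, nat_lit 1, nat_lit 9], (nat_lit 572511190), (nat_lit 0)) ::
  ([nat_lit 7, nat_lit 8, nat_lit 2, nat_lit 9, nat_lit 3], (nat_lit 572781537), (nat_lit 0)) ::
  ([nat_lit 7, nat_lit 6, nat_lit 8, nat_lit 3, nat_lit 6], (nat_lit 572966667), (nat_lit 0)) ::
  ([nat_lit 7, nat_lit 8, nat_lit 3, nat_lit 10, nat_lit 9, nat_lit 8, nat_lit 2], (nat_lit 573212623), (nat_lit 0)) ::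
  ([nat_lit 7, nat_lit 8, nat_lit 0, nat_lit 6, nat_lit 5, nat_lit 9], (nat_lit 573732422), (nat_lit 0)) ::
  ([nat_lit 7, nat_lit 8, nat_lit 2, nat_lit 9, nat_lit 8, nat_lit 1, nat_lit 4], (nat_lit 575939732), (nat_lit 0)) ::
  ([nat_lit 7, nat_lit 6, nat_lit 8, nat_lit 0, nat_lit 2, nat_lit 9, nat_lit 8, nat_lit 2, nat_lit 10], (nat_lit 575953427), (nat_lit 0)) ::
  ([nat_lit 7, nat_lit 6, nat_lit 0, nat_lit 3, nat_lit 8, nat_lit 9], (nat_lit 580182779), (nat_lit 0)) ::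
  ([nat_lit 8, nat_lit 0, nat_lit 9, nat_lit 1, nat_lit 8, nat_lit 1, nat_lit 9], (nat_lit 580621255), (nat_lit 0)) ::
  ([nat_lit 7, nat_lit 8, nat_lit 0, nat_lit 9, nat_lit 8, nat_lit 0, nat_lit 6, nat_lit 7], (nat_lit 580740058), (nat_lit 0)) ::
  ([nat_lit 8, nat_lit 0, nat_lit 7, nat_lit 6, nat_lit 9, nat_lit 6], (nat_lit 581958109), (nat_lit 0)) ::
  ([nat_lit 8, nat_lit 0, nat_lit 9, nat_lit 1, nat_lit 8, nat_lit 0], (nat_lit 582586289), (nat_lit 0)) ::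
  ([nat_lit 7, nat_lit 8, nat_lit 0, nat_lit 9, nat_lit 8, nat_lit 2, nat_lit 6], (nat_lit 582657807), (nat_lit 0)) ::
  ([nat_lit 8, nat_lit 0, nat_lit 1, nat_lit 7], (nat_lit 582894558), (nat_lit 0)) ::
  ([nat_lit 7, nat_lit 8, nat_lit 9, nat_lit 6, nat_lit 1, nat_lit 8, nat_lit 3, nat_lit 9], (nat_lit 583137124), (nat_lit 0)) ::
  ([nat_lit 7, nat_lit 8, nat_lit 0, nat_lit 9], (nat_lit 583563597), (nat_lit 0)) ::
  ([nat_lit 7, nat_lit 6, nat_lit 8, nat_lit 9, nat_lit 3, nat_lit 6, nat_lit 8, nat_lit 2], (nat_lit 583982537), (nat_lit 0)) ::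
  ([nat_lit 7, nat_lit 8, nat_lit 2, nat_lit 6, nat_lit 9, nat_lit 7, nat_lit 8, nat_lit 2], (nat_lit 584096814), (nat_lit 0)) ::
  ([nat_lit 7, nat_lit 8, nat_lit 6, nat_lit 5, nat_lit 2, nat_lit 9, nat_lit 8, nat_lit 0], (nat_lit 584241741), (nat_lit 0)) ::
  ([nat_lit 8, nat_lit 0, nat_lit 7, nat_lit 6, nat_lit 9, nat_lit 6, nat_lit 10], (nat_lit 585008225), (nat_lit 0)) ::
  ([nat_lit 8, nat_lit 9, nat_lit 1, nat_lit 6, nat_lit 7, nat_lit 10], (nat_lit 585747159), (nat_lit 0)) ::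
  ([nat_lit 7, nat_lit 8, nat_lit 0, nat_lit 9, nat_lit 8, nat_lit 0, nat_lit 6, nat_lit 5], (nat_lit 586126002), (nat_lit 0)) ::
  ([nat_lit 7, nat_lit 6, nat_lit 2, nat_lit 8, nat_lit 9, nat_lit 3, nat_lit 8], (nat_lit 587064535), (nat_lit 0)) ::
  ([nat_lit 7, nat_lit 8, nat_lit 2, nat_lit 9, nat_lit 6, nat_lit 8, nat_lit 1], (nat_lit 587740525), (nat_lit 0)) ::
  ([nat_lit 7, nat_lit 6, nat_lit 1, nat_lit 8, nat_lit 1, nat_lit 5], (nat_lit 588129929), (nat_lit 0)) ::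
  ([nat_lit 7, nat_lit 8, nat_lit 1, nat_lit 4, nat_lit 6, nat_lit 4], (nat_lit 589382446), (nat_lit 0)) ::
  clD1000
noncomputable def clD900 : List (List ℕ × ℕ × ℕ) :=
  ([nat_lit 7, nat_lit 8, nat_lit 2, nat_lit 4, nat_lit 6, nat_lit 9], (nat_lit 524444186), (nat_lit 0)) ::
  ([nat_lit 7, nat_lit 8, nat_lit 6, nat_lit 5, nat_lit 2], (nat_lit 528068159), (nat_lit 0)) ::
  ([nat_lit 7, nat_lit 6, nat_lit 4, nat_lit 8, nat_lit 9, nat_lit 1, nat_lit 8, nat_lit 0], (nat_lit 528469112), (nat_lit 0)) ::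
  ([nat_lit 7, nat_lit 6, nat_lit 4, nat_lit 8, nat_lit 9, nat_lit 1, nat_lit 10], (nat_lit 529599211), (nat_lit 0)) ::
  ([nat_lit 7, nat_lit 8, nat_lit 3, nat_lit 10, nat_lit 9, nat_lit 6, nat_lit 8, nat_lit 3], (nat_lit 529664995), (nat_lit 0)) ::
  ([nat_lit 7, nat_lit 6, nat_lit 9, nat_lit 8, nat_lit 3, nat_lit 9], (nat_lit 529825905), (nat_lit 0)) ::
  ([nat_lit 7, nat_lit 8, nat_lit 0, nat_lit 9, nat_lit 1, nat_lit 8, nat_lit 0], (nat_lit 529891076), (nat_lit 0)) ::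
  ([nat_lit 8, nat_lit 0, nat_lit 1, nat_lit 9, nat_lit 8, nat_lit 10], (nat_lit 530904004), (nat_lit 0)) ::
  ([nat_lit 7, nat_lit 8, nat_lit 3, nat_lit 10, nat_lit 9], (nat_lit 532539330), (nat_lit 0)) ::
  ([nat_lit 7, nat_lit 6, nat_lit 0, nat_lit 3, nat_lit 8], (nat_lit 532663926), (nat_lit 0)) ::
  ([nat_lit 8, nat_lit 9, nat_lit 1, nat_lit 8, nat_lit 10, nat_lit 9, nat_lit 3], (nat_lit 533719573), (nat_lit 0)) ::
  ([nat_lit 8, nat_lit 9, nat_lit 3, nat_lit 8, nat_lit 10, nat_lit 3], (nat_lit 534229910), (nat_lit 0)) ::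
  ([nat_lit 7, nat_lit 8, nat_lit 3, nat_lit 9, nat_lit 8, nat_lit 1, nat_lit 3], (nat_lit 535149900), (nat_lit 0)) ::
  ([nat_lit 7, nat_lit 6, nat_lit 8, nat_lit 9, nat_lit 3, nat_lit 8, nat_lit 0, nat_lit 1], (nat_lit 535252360), (nat_lit 0)) ::
  ([nat_lit 8, nat_lit 9, nat_lit 10, nat_lit 0, nat_lit 8, nat_lit 2, nat_lit 9], (nat_lit 535283562), (nat_lit 0)) ::
  ([nat_lit 8, nat_lit 1, nat_lit 9, nat_lit 7, nat_lit 6, nat_lit 2, nat_lit 8, nat_lit 0], (nat_lit 535551020), (nat_lit 0)) ::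
  ([nat_lit 7, nat_lit 8, nat_lit 2, nat_lit 9, nat_lit 8, nat_lit 0, nat_lit 6, nat_lit 2], (nat_lit 536227325), (nat_lit 0)) ::
  ([nat_lit 8, nat_lit 9, nat_lit 1, nat_lit 8, nat_lit 10, nat_lit 9], (nat_lit 536658749), (nat_lit 0)) ::
  ([nat_lit 8, nat_lit 0, nat_lit 9, nat_lit 8, nat_lit 1], (nat_lit 536894051), (nat_lit 0)) ::
  ([nat_lit 7, nat_lit 6, nat_lit 8, nat_lit 9, nat_lit 6, nat_lit 1, nat_lit 10], (nat_lit 537288570), (nat_lit 0)) ::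
  ([nat_lit 8, nat_lit 1, nat_lit 6, nat_lit 9], (nat_lit 537892660), (nat_lit 0)) ::
  ([nat_lit 8, nat_lit 0, nat_lit 3, nat_lit 6], (nat_lit 537897815), (nat_lit 0)) ::
  ([nat_lit 7, nat_lit 6, nat_lit 5, nat_lit 8, nat_lit 9, nat_lit 10, nat_lit 3], (nat_lit 538043123), (nat_lit 0)) ::
  ([nat_lit 7, nat_lit 8, nat_lit 1, nat_lit 9, nat_lit 8, nat_lit 6, nat_lit 1], (nat_lit 538471957), (nat_lit 0)) ::
  ([nat_lit 7, nat_lit 6, nat_lit 0, nat_lit 8, nat_lit 9, nat_lit 10, nat_lit 3, nat_lit 8], (nat_lit 540191285), (nat_lit 0)) ::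
  ([nat_lit 7, nat_lit 6, nat_lit 8, nat_lit 0, nat_lit 6, nat_lit 4], (nat_lit 540331089), (nat_lit 0)) ::
  ([nat_lit 8, nat_lit 3, nat_lit 9, nat_lit 8, nat_lit 3, nat_lit 6, nat_lit 10], (nat_lit 541222323), (nat_lit 0)) ::
  ([nat_lit 7, nat_lit 6, nat_lit 8, nat_lit 2, nat_lit 9, nat_lit 8, nat_lit 1, nat_lit 6], (nat_lit 541317077), (nat_lit 0)) ::
  ([nat_lit 7, nat_lit 8, nat_lit 2, nat_lit 9, nat_lit 3, nat_lit 8, nat_lit 3, nat_lit 6], (nat_lit 542193331), (nat_lit 0)) ::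
  ([nat_lit 7, nat_lit 6, nat_lit 8, nat_lit 2, nat_lit 3, nat_lit 9], (nat_lit 542743372), (nat_lit 0)) ::
  ([nat_lit 7, nat_lit 6, nat_lit 8, nat_lit 9, nat_lit 3, nat_lit 6, nat_lit 8, nat_lit 10], (nat_lit 544278136), (nat_lit 0)) ::
  ([nat_lit 7, nat_lit 8, nat_lit 2, nat_lit 9, nat_lit 6, nat_lit 10], (nat_lit 544595013), (nat_lit 0)) ::
  ([nat_lit 7, nat_lit 8, nat_lit 0, nat_lit 1, nat_lit 9, nat_lit 10], (nat_lit 544813601), (nat_lit 0)) ::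
  ([nat_lit 7, nat_lit 8, nat_lit 6, nat_lit 0, nat_lit 5, nat_lit 9, nat_lit 8, nat_lit 3], (nat_lit 546119540), (nat_lit 0)) ::
  ([nat_lit 7, nat_lit 6, nat_lit 5, nat_lit 8, nat_lit 6], (nat_lit 546947352), (nat_lit 0)) ::
  ([nat_lit 8, nat_lit 0, nat_lit 1, nat_lit 9, nat_lit 8, nat_lit 0, nat_lit 7], (nat_lit 547778556), (nat_lit 0)) ::
  ([nat_lit 7, nat_lit 6, nat_lit 3, nat_lit 8, nat_lit 9], (nat_lit 548100825), (nat_lit 0)) ::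
  ([nat_lit 7, nat_lit 8, nat_lit 2, nat_lit 9, nat_lit 3, nat_lit 8, nat_lit 1], (nat_lit 548824549), (nat_lit 0)) ::
  ([nat_lit 7, nat_lit 6, nat_lit 8, nat_lit 9, nat_lit 10], (nat_lit 549088769), (nat_lit 0)) ::
  ([nat_lit 7, nat_lit 6, nat_lit 8, nat_lit 1, nat_lit 5, nat_lit 9, nat_lit 8], (nat_lit 550592373), (nat_lit 0)) ::
  ([nat_lit 7, nat_lit 6, nat_lit 3, nat_lit 8, nat_lit 0], (nat_lit 551281842), (nat_lit 0)) ::
  ([nat_lit 8, nat_lit 0, nat_lit 9, nat_lit 8, nat_lit 0, nat_lit 1, nat_lit 8], (nat_lit 552896727), (nat_lit 0)) ::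
  ([nat_lit 8, nat_lit 1, nat_lit 6, nat_lit 9, nat_lit 7, nat_lit 10], (nat_lit 553125151), (nat_lit 0)) ::
  ([nat_lit 7, nat_lit 8, nat_lit 6, nat_lit 0, nat_lit 9, nat_lit 8, nat_lit 0], (nat_lit 553149129), (nat_lit 0)) ::
  ([nat_lit 7, nat_lit 8, nat_lit 2, nat_lit 9, nat_lit 8, nat_lit 0, nat_lit 1, nat_lit 6], (nat_lit 553195954), (nat_lit 0)) ::
  ([nat_lit 7, nat_lit 6, nat_lit 8, nat_lit 2, nat_lit 9, nat_lit 8, nat_lit 1], (nat_lit 553244753), (nat_lit 0)) ::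
  ([nat_lit 7, nat_lit 8, nat_lit 2, nat_lit 9, nat_lit 8, nat_lit 6, nat_lit 10], (nat_lit 553989895), (nat_lit 0)) ::
  ([nat_lit 7, nat_lit 6, nat_lit 5, nat_lit 8, nat_lit 9], (nat_lit 555113402), (nat_lit 0)) ::
  ([nat_lit 8, nat_lit 9, nat_lit 1, nat_lit 6, nat_lit 7, nat_lit 8, nat_lit 0], (nat_lit 555304355), (nat_lit 0)) ::
  ([nat_lit 8, nat_lit 3, nat_lit 9, nat_lit 8, nat_lit 10, nat_lit 9], (nat_lit 555407472), (nat_lit 0)) ::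
  clD950
noncomputable def clD850 : List (List ℕ × ℕ × ℕ) :=
  ([nat_lit 8, nat_lit 1, nat_lit 9, nat_lit 8, nat_lit 0, nat_lit 10, nat_lit 3], (nat_lit 497521880), (nat_lit 0)) ::
  ([nat_lit 8, nat_lit 0, nat_lit 9, nat_lit 8, nat_lit 6, nat_lit 1], (nat_lit 498026941), (nat_lit 0)) ::
  ([nat_lit 7, nat_lit 6, nat_lit 1, nat_lit 8, nat_lit 1], (nat_lit 499571860), (nat_lit 0)) ::
  ([nat_lit 8, nat_lit 1, nat_lit 9, nat_lit 8, nat_lit 10, nat_lit 0, nat_lit 4], (nat_lit 499620877), (nat_lit 0)) ::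
  ([nat_lit 7, nat_lit 6, nat_lit 3, nat_lit 8, nat_lit 0, nat_lit 9], (nat_lit 501002841), (nat_lit 0)) ::
  ([nat_lit 8, nat_lit 2, nat_lit 3, nat_lit 9, nat_lit 8, nat_lit 10], (nat_lit 501252286), (nat_lit 0)) ::
  ([nat_lit 7, nat_lit 8, nat_lit 0, nat_lit 6, nat_lit 4, nat_lit 9, nat_lit 8], (nat_lit 501961376), (nat_lit 0)) ::
  ([nat_lit 7, nat_lit 8, nat_lit 9, nat_lit 6, nat_lit 1, nat_lit 8, nat_lit 3], (nat_lit 502481375), (nat_lit 0)) ::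
  ([nat_lit 7, nat_lit 6, nat_lit 4, nat_lit 8, nat_lit 1, nat_lit 9, nat_lit 10], (nat_lit 502557499), (nat_lit 0)) ::
  ([nat_lit 8, nat_lit 1, nat_lit 9, nat_lit 7, nat_lit 8, nat_lit 1, nat_lit 6, nat_lit 5], (nat_lit 502593226), (nat_lit 0)) ::
  ([nat_lit 7, nat_lit 8, nat_lit 2, nat_lit 9, nat_lit 8, nat_lit 3, nat_lit 6, nat_lit 7], (nat_lit 502685481), (nat_lit 0)) ::
  ([nat_lit 7, nat_lit 8, nat_lit 6, nat_lit 3, nat_lit 9], (nat_lit 503902015), (nat_lit 0)) ::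
  ([nat_lit 7, nat_lit 8, nat_lit 2, nat_lit 9, nat_lit 10], (nat_lit 504061795), (nat_lit 0)) ::
  ([nat_lit 7, nat_lit 6, nat_lit 8, nat_lit 9, nat_lit 3, nat_lit 8, nat_lit 10, nat_lit 0], (nat_lit 504382367), (nat_lit 0)) ::
  ([nat_lit 7, nat_lit 6, nat_lit 8, nat_lit 2, nat_lit 9, nat_lit 8, nat_lit 0, nat_lit 6, nat_lit 5], (nat_lit 504741746), (nat_lit 0)) ::
  ([nat_lit 8, nat_lit 0, nat_lit 9, nat_lit 1], (nat_lit 504778887), (nat_lit 0)) ::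
  ([nat_lit 8, nat_lit 9, nat_lit 10, nat_lit 0, nat_lit 8, nat_lit 1, nat_lit 9], (nat_lit 506970529), (nat_lit 0)) ::
  ([nat_lit 7, nat_lit 6, nat_lit 8, nat_lit 9, nat_lit 6, nat_lit 2, nat_lit 10], (nat_lit 507149179), (nat_lit 0)) ::
  ([nat_lit 8, nat_lit 9, nat_lit 10, nat_lit 0, nat_lit 8, nat_lit 2], (nat_lit 507300523), (nat_lit 0)) ::
  ([nat_lit 8, nat_lit 0, nat_lit 9, nat_lit 1, nat_lit 8, nat_lit 1, nat_lit 3], (nat_lit 507723475), (nat_lit 0)) ::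
  ([nat_lit 7, nat_lit 6, nat_lit 3, nat_lit 8, nat_lit 9, nat_lit 1], (nat_lit 507921405), (nat_lit 0)) ::
  ([nat_lit 8, nat_lit 0, nat_lit 9, nat_lit 10], (nat_lit 510020175), (nat_lit 0)) ::
  ([nat_lit 7, nat_lit 8, nat_lit 9, nat_lit 6, nat_lit 0, nat_lit 3, nat_lit 8], (nat_lit 511028201), (nat_lit 0)) ::
  ([nat_lit 8, nat_lit 0, nat_lit 2, nat_lit 9, nat_lit 8, nat_lit 2, nat_lit 4], (nat_lit 511161287), (nat_lit 0)) ::
  ([nat_lit 8, nat_lit 0, nat_lit 9, nat_lit 10, nat_lit 3, nat_lit 8], (nat_lit 511806346), (nat_lit 0)) ::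
  ([nat_lit 8, nat_lit 0, nat_lit 2, nat_lit 9, nat_lit 8, nat_lit 0, nat_lit 6], (nat_lit 512206029), (nat_lit 0)) ::
  ([nat_lit 8, nat_lit 1, nat_lit 9, nat_lit 7, nat_lit 6], (nat_lit 512504054), (nat_lit 0)) ::
  ([nat_lit 7, nat_lit 6, nat_lit 0, nat_lit 1, nat_lit 8, nat_lit 3, nat_lit 9, nat_lit 8, nat_lit 2], (nat_lit 512716122), (nat_lit 0)) ::
  ([nat_lit 7, nat_lit 8, nat_lit 2, nat_lit 9, nat_lit 3, nat_lit 8, nat_lit 1, nat_lit 2], (nat_lit 513086430), (nat_lit 0)) ::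
  ([nat_lit 7, nat_lit 8, nat_lit 0, nat_lit 6, nat_lit 8], (nat_lit 513187130), (nat_lit 0)) ::
  ([nat_lit 7, nat_lit 8, nat_lit 2, nat_lit 4, nat_lit 6, nat_lit 9, nat_lit 8, nat_lit 3], (nat_lit 514529903), (nat_lit 0)) ::
  ([nat_lit 8, nat_lit 9, nat_lit 1, nat_lit 8, nat_lit 2, nat_lit 6, nat_lit 3], (nat_lit 514722264), (nat_lit 0)) ::
  ([nat_lit 7, nat_lit 6, nat_lit 8, nat_lit 9, nat_lit 3, nat_lit 8, nat_lit 1, nat_lit 9], (nat_lit 515297286), (nat_lit 0)) ::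
  ([nat_lit 7, nat_lit 6, nat_lit 2, nat_lit 8, nat_lit 3, nat_lit 9, nat_lit 8], (nat_lit 515621960), (nat_lit 0)) ::
  ([nat_lit 7, nat_lit 6, nat_lit 8, nat_lit 2, nat_lit 5, nat_lit 9, nat_lit 10], (nat_lit 516071555), (nat_lit 0)) ::
  ([nat_lit 7, nat_lit 6, nat_lit 8, nat_lit 1, nat_lit 5, nat_lit 9], (nat_lit 517608472), (nat_lit 0)) ::
  ([nat_lit 7, nat_lit 6, nat_lit 5, nat_lit 8, nat_lit 3, nat_lit 9, nat_lit 8], (nat_lit 517996332), (nat_lit 0)) ::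
  ([nat_lit 8, nat_lit 1, nat_lit 6, nat_lit 7, nat_lit 9, nat_lit 8, nat_lit 1], (nat_lit 519086463), (nat_lit 0)) ::
  ([nat_lit 8, nat_lit 0, nat_lit 1, nat_lit 9, nat_lit 8, nat_lit 3, nat_lit 5], (nat_lit 519331789), (nat_lit 0)) ::
  ([nat_lit 8, nat_lit 0, nat_lit 1, nat_lit 9, nat_lit 6, nat_lit 10], (nat_lit 520329025), (nat_lit 0)) ::
  ([nat_lit 7, nat_lit 6, nat_lit 0, nat_lit 8, nat_lit 3, nat_lit 9, nat_lit 8, nat_lit 2], (nat_lit 520387862), (nat_lit 0)) ::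
  ([nat_lit 7, nat_lit 8, nat_lit 2, nat_lit 9, nat_lit 8, nat_lit 3, nat_lit 5], (nat_lit 520987023), (nat_lit 0)) ::
  ([nat_lit 7, nat_lit 6, nat_lit 8, nat_lit 9, nat_lit 6, nat_lit 3, nat_lit 8], (nat_lit 521251298), (nat_lit 0)) ::
  ([nat_lit 7, nat_lit 8, nat_lit 0, nat_lit 1, nat_lit 9, nat_lit 8, nat_lit 3], (nat_lit 521289396), (nat_lit 0)) ::
  ([nat_lit 8, nat_lit 0, nat_lit 9, nat_lit 8, nat_lit 0, nat_lit 6, nat_lit 5], (nat_lit 523026429), (nat_lit 0)) ::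
  ([nat_lit 7, nat_lit 8, nat_lit 9, nat_lit 6, nat_lit 1, nat_lit 8, nat_lit 10, nat_lit 9], (nat_lit 523133105), (nat_lit 0)) ::
  ([nat_lit 7, nat_lit 8, nat_lit 2, nat_lit 5, nat_lit 9, nat_lit 8, nat_lit 2, nat_lit 6], (nat_lit 523201743), (nat_lit 0)) ::
  ([nat_lit 8, nat_lit 0, nat_lit 1, nat_lit 9, nat_lit 8, nat_lit 0, nat_lit 3, nat_lit 10], (nat_lit 523262337), (nat_lit 0)) ::
  ([nat_lit 8, nat_lit 0, nat_lit 9, nat_lit 8, nat_lit 6, nat_lit 0, nat_lit 10], (nat_lit 523720072), (nat_lit 0)) ::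
  ([nat_lit 7, nat_lit 8, nat_lit 6, nat_lit 9, nat_lit 10], (nat_lit 524312298), (nat_lit 0)) ::
  clD900
noncomputable def clD800 : List (List ℕ × ℕ × ℕ) :=
  ([nat_lit 7, nat_lit 6, nat_lit 9, nat_lit 8, nat_lit 1, nat_lit 9, nat_lit 8, nat_lit 10], (nat_lit 460601379), (nat_lit 0)) ::
  ([nat_lit 8, nat_lit 1, nat_lit 6, nat_lit 9, nat_lit 8, nat_lit 0, nat_lit 10], (nat_lit 462186401), (nat_lit 0)) ::
  ([nat_lit 7, nat_lit 8, nat_lit 0, nat_lit 6], (nat_lit 462483991), (nat_lit 0)) ::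
  ([nat_lit 8, nat_lit 2, nat_lit 9, nat_lit 3, nat_lit 10], (nat_lit 464705251), (nat_lit 0)) ::
  ([nat_lit 7, nat_lit 8, nat_lit 2, nat_lit 9, nat_lit 8, nat_lit 6, nat_lit 10, nat_lit 3], (nat_lit 464992656), (nat_lit 0)) ::
  ([nat_lit 7, nat_lit 8, nat_lit 6, nat_lit 1, nat_lit 5, nat_lit 9, nat_lit 10], (nat_lit 465017709), (nat_lit 0)) ::
  ([nat_lit 8, nat_lit 1, nat_lit 9, nat_lit 8, nat_lit 1, nat_lit 6, nat_lit 7], (nat_lit 465251436), (nat_lit 0)) ::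
  ([nat_lit 7, nat_lit 8, nat_lit 9, nat_lit 10, nat_lit 3], (nat_lit 466168327), (nat_lit 0)) ::
  ([nat_lit 7, nat_lit 8, nat_lit 2, nat_lit 9, nat_lit 8, nat_lit 6, nat_lit 0, nat_lit 10], (nat_lit 467749811), (nat_lit 0)) ::
  ([nat_lit 8, nat_lit 3, nat_lit 9, nat_lit 8, nat_lit 1, nat_lit 10], (nat_lit 468288205), (nat_lit 0)) ::
  ([nat_lit 7, nat_lit 8, nat_lit 9, nat_lit 6, nat_lit 1, nat_lit 8, nat_lit 10, nat_lit 0], (nat_lit 468380664), (nat_lit 0)) ::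
  ([nat_lit 7, nat_lit 6, nat_lit 1, nat_lit 2], (nat_lit 469090188), (nat_lit 0)) ::
  ([nat_lit 7, nat_lit 8, nat_lit 9, nat_lit 6, nat_lit 1, nat_lit 5, nat_lit 8, nat_lit 10], (nat_lit 472026194), (nat_lit 0)) ::
  ([nat_lit 7, nat_lit 6, nat_lit 8, nat_lit 3, nat_lit 9, nat_lit 1, nat_lit 8, nat_lit 1], (nat_lit 472677262), (nat_lit 0)) ::
  ([nat_lit 7, nat_lit 8, nat_lit 1, nat_lit 3, nat_lit 6], (nat_lit 472869587), (nat_lit 0)) ::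
  ([nat_lit 8, nat_lit 9, nat_lit 3, nat_lit 8, nat_lit 10], (nat_lit 473454168), (nat_lit 0)) ::
  ([nat_lit 7, nat_lit 6, nat_lit 2, nat_lit 8, nat_lit 9, nat_lit 3, nat_lit 8, nat_lit 1, nat_lit 6], (nat_lit 473811526), (nat_lit 0)) ::
  ([nat_lit 7, nat_lit 8, nat_lit 9, nat_lit 10, nat_lit 0, nat_lit 8, nat_lit 6, nat_lit 3], (nat_lit 473904789), (nat_lit 0)) ::
  ([nat_lit 7, nat_lit 6, nat_lit 0, nat_lit 8, nat_lit 3, nat_lit 9, nat_lit 7], (nat_lit 474679732), (nat_lit 0)) ::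
  ([nat_lit 8, nat_lit 9, nat_lit 10, nat_lit 0], (nat_lit 474742652), (nat_lit 0)) ::
  ([nat_lit 8, nat_lit 2, nat_lit 5, nat_lit 9, nat_lit 8], (nat_lit 474852893), (nat_lit 0)) ::
  ([nat_lit 7, nat_lit 8, nat_lit 0, nat_lit 2, nat_lit 9], (nat_lit 474871920), (nat_lit 0)) ::
  ([nat_lit 7, nat_lit 6, nat_lit 8, nat_lit 1, nat_lit 9, nat_lit 8], (nat_lit 474916121), (nat_lit 0)) ::
  ([nat_lit 7, nat_lit 8, nat_lit 2, nat_lit 4, nat_lit 6, nat_lit 9, nat_lit 8, nat_lit 2], (nat_lit 475203429), (nat_lit 0)) ::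
  ([nat_lit 8, nat_lit 3, nat_lit 9, nat_lit 8, nat_lit 3, nat_lit 6], (nat_lit 475511211), (nat_lit 0)) ::
  ([nat_lit 7, nat_lit 8, nat_lit 2, nat_lit 5, nat_lit 9, nat_lit 8, nat_lit 3], (nat_lit 477002079), (nat_lit 0)) ::
  ([nat_lit 7, nat_lit 6, nat_lit 5, nat_lit 8, nat_lit 1, nat_lit 9, nat_lit 8, nat_lit 3], (nat_lit 478729865), (nat_lit 0)) ::
  ([nat_lit 7, nat_lit 8, nat_lit 6, nat_lit 1, nat_lit 9, nat_lit 3], (nat_lit 479367108), (nat_lit 0)) ::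
  ([nat_lit 7, nat_lit 8, nat_lit 6, nat_lit 1, nat_lit 5], (nat_lit 479756952), (nat_lit 0)) ::
  ([nat_lit 7, nat_lit 8, nat_lit 2, nat_lit 9, nat_lit 8, nat_lit 6, nat_lit 5, nat_lit 0], (nat_lit 480472512), (nat_lit 0)) ::
  ([nat_lit 8, nat_lit 1, nat_lit 9, nat_lit 7, nat_lit 6, nat_lit 8, nat_lit 1], (nat_lit 480709398), (nat_lit 0)) ::
  ([nat_lit 7, nat_lit 8, nat_lit 2, nat_lit 5, nat_lit 9, nat_lit 10], (nat_lit 480928796), (nat_lit 0)) ::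
  ([nat_lit 8, nat_lit 0, nat_lit 9, nat_lit 1, nat_lit 8, nat_lit 2], (nat_lit 481505396), (nat_lit 0)) ::
  ([nat_lit 7, nat_lit 8, nat_lit 0, nat_lit 6, nat_lit 5, nat_lit 7], (nat_lit 482025288), (nat_lit 0)) ::
  ([nat_lit 7, nat_lit 8, nat_lit 0, nat_lit 9, nat_lit 8, nat_lit 6, nat_lit 0, nat_lit 1], (nat_lit 482432151), (nat_lit 0)) ::
  ([nat_lit 8, nat_lit 0, nat_lit 1, nat_lit 9, nat_lit 6, nat_lit 8, nat_lit 3, nat_lit 10], (nat_lit 483004313), (nat_lit 0)) ::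
  ([nat_lit 7, nat_lit 8, nat_lit 1, nat_lit 9, nat_lit 6, nat_lit 0, nat_lit 8], (nat_lit 483078841), (nat_lit 0)) ::
  ([nat_lit 7, nat_lit 8, nat_lit 0, nat_lit 2], (nat_lit 483913767), (nat_lit 0)) ::
  ([nat_lit 7, nat_lit 6, nat_lit 1], (nat_lit 484531534), (nat_lit 0)) ::
  ([nat_lit 8, nat_lit 2, nat_lit 9, nat_lit 8, nat_lit 1, nat_lit 6, nat_lit 5], (nat_lit 484638054), (nat_lit 0)) ::
  ([nat_lit 7, nat_lit 6, nat_lit 8, nat_lit 2, nat_lit 5], (nat_lit 487264568), (nat_lit 0)) ::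
  ([nat_lit 8, nat_lit 0, nat_lit 9, nat_lit 8, nat_lit 10, nat_lit 0, nat_lit 9], (nat_lit 487486784), (nat_lit 0)) ::
  ([nat_lit 7, nat_lit 6, nat_lit 8, nat_lit 0, nat_lit 1, nat_lit 9], (nat_lit 488172764), (nat_lit 0)) ::
  ([nat_lit 7, nat_lit 8, nat_lit 3, nat_lit 10, nat_lit 9, nat_lit 6, nat_lit 8, nat_lit 2], (nat_lit 488441295), (nat_lit 0)) ::
  ([nat_lit 7, nat_lit 8, nat_lit 0, nat_lit 6, nat_lit 3, nat_lit 9, nat_lit 8, nat_lit 1], (nat_lit 488898821), (nat_lit 0)) ::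
  ([nat_lit 7, nat_lit 8, nat_lit 6, nat_lit 1, nat_lit 9, nat_lit 8], (nat_lit 489807949), (nat_lit 0)) ::
  ([nat_lit 7, nat_lit 8, nat_lit 6, nat_lit 5, nat_lit 0, nat_lit 9, nat_lit 8], (nat_lit 490466793), (nat_lit 0)) ::
  ([nat_lit 7, nat_lit 6, nat_lit 0, nat_lit 1, nat_lit 8, nat_lit 9], (nat_lit 493842588), (nat_lit 0)) ::
  ([nat_lit 7, nat_lit 6, nat_lit 8, nat_lit 9, nat_lit 1, nat_lit 8, nat_lit 2], (nat_lit 495490312), (nat_lit 0)) ::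
  ([nat_lit 7, nat_lit 6, nat_lit 5, nat_lit 8, nat_lit 2, nat_lit 5], (nat_lit 495612890), (nat_lit 0)) ::
  clD850
noncomputable def clD750 : List (List ℕ × ℕ × ℕ) :=
  ([nat_lit 7, nat_lit 8, nat_lit 2, nat_lit 5, nat_lit 9, nat_lit 6, nat_lit 8, nat_lit 2], (nat_lit 427476929), (nat_lit 0)) ::
  ([nat_lit 8, nat_lit 2, nat_lit 9, nat_lit 3], (nat_lit 427986189), (nat_lit 0)) ::
  ([nat_lit 7, nat_lit 8, nat_lit 6, nat_lit 0, nat_lit 9, nat_lit 8, nat_lit 0, nat_lit 2], (nat_lit 429196453), (nat_lit 0)) ::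
  ([nat_lit 7, nat_lit 8, nat_lit 0, nat_lit 9, nat_lit 8, nat_lit 2, nat_lit 6, nat_lit 4], (nat_lit 429798814), (nat_lit 0)) ::
  ([nat_lit 7, nat_lit 6, nat_lit 8, nat_lit 9, nat_lit 8, nat_lit 1, nat_lit 10], (nat_lit 429899106), (nat_lit 0)) ::
  ([nat_lit 7, nat_lit 6, nat_lit 8, nat_lit 9, nat_lit 1, nat_lit 8, nat_lit 0], (nat_lit 431122348), (nat_lit 0)) ::
  ([nat_lit 7, nat_lit 8, nat_lit 9, nat_lit 3, nat_lit 8, nat_lit 1, nat_lit 6], (nat_lit 431231548), (nat_lit 0)) ::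
  ([nat_lit 8, nat_lit 0, nat_lit 2], (nat_lit 434488828), (nat_lit 0)) ::
  ([nat_lit 7, nat_lit 6, nat_lit 8, nat_lit 9, nat_lit 1, nat_lit 8, nat_lit 0, nat_lit 1], (nat_lit 435110785), (nat_lit 0)) ::
  ([nat_lit 8, nat_lit 0, nat_lit 1, nat_lit 9, nat_lit 8, nat_lit 1, nat_lit 2], (nat_lit 435144615), (nat_lit 0)) ::
  ([nat_lit 8, nat_lit 1, nat_lit 6, nat_lit 7, nat_lit 9, nat_lit 8, nat_lit 0], (nat_lit 436876080), (nat_lit 0)) ::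
  ([nat_lit 8, nat_lit 9, nat_lit 3, nat_lit 8, nat_lit 1], (nat_lit 437594833), (nat_lit 0)) ::
  ([nat_lit 7, nat_lit 6, nat_lit 3, nat_lit 8, nat_lit 1], (nat_lit 437643603), (nat_lit 0)) ::
  ([nat_lit 7, nat_lit 6, nat_lit 8, nat_lit 9, nat_lit 1, nat_lit 8, nat_lit 0, nat_lit 7], (nat_lit 437646104), (nat_lit 0)) ::
  ([nat_lit 7, nat_lit 6, nat_lit 1, nat_lit 8, nat_lit 0, nat_lit 1], (nat_lit 437826742), (nat_lit 0)) ::
  ([nat_lit 7, nat_lit 8, nat_lit 0, nat_lit 1, nat_lit 9], (nat_lit 437886105), (nat_lit 0)) ::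
  ([nat_lit 7, nat_lit 6, nat_lit 4, nat_lit 8, nat_lit 0, nat_lit 1], (nat_lit 438515441), (nat_lit 0)) ::
  ([nat_lit 7, nat_lit 6, nat_lit 8, nat_lit 2, nat_lit 3, nat_lit 9, nat_lit 10], (nat_lit 438640756), (nat_lit 0)) ::
  ([nat_lit 7, nat_lit 8, nat_lit 2, nat_lit 9, nat_lit 3, nat_lit 8, nat_lit 1, nat_lit 3], (nat_lit 439325470), (nat_lit 0)) ::
  ([nat_lit 7, nat_lit 6, nat_lit 5, nat_lit 8, nat_lit 2, nat_lit 9, nat_lit 8, nat_lit 3], (nat_lit 439894974), (nat_lit 0)) ::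
  ([nat_lit 7, nat_lit 6, nat_lit 8, nat_lit 2, nat_lit 9, nat_lit 8, nat_lit 1, nat_lit 2], (nat_lit 440301689), (nat_lit 0)) ::
  ([nat_lit 7, nat_lit 6, nat_lit 8, nat_lit 2, nat_lit 9, nat_lit 3, nat_lit 8, nat_lit 1], (nat_lit 440439450), (nat_lit 0)) ::
  ([nat_lit 7, nat_lit 8, nat_lit 3, nat_lit 6, nat_lit 5], (nat_lit 440585733), (nat_lit 0)) ::
  ([nat_lit 7, nat_lit 8, nat_lit 6, nat_lit 4, nat_lit 1, nat_lit 9, nat_lit 8, nat_lit 3], (nat_lit 440977642), (nat_lit 0)) ::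
  ([nat_lit 7, nat_lit 6, nat_lit 8, nat_lit 2, nat_lit 9, nat_lit 6, nat_lit 8], (nat_lit 442991462), (nat_lit 0)) ::
  ([nat_lit 7, nat_lit 6, nat_lit 8, nat_lit 3, nat_lit 6, nat_lit 9], (nat_lit 443427558), (nat_lit 0)) ::
  ([nat_lit 7, nat_lit 6, nat_lit 3, nat_lit 8, nat_lit 9, nat_lit 1, nat_lit 8], (nat_lit 443450498), (nat_lit 0)) ::
  ([nat_lit 7, nat_lit 6, nat_lit 4, nat_lit 8, nat_lit 3, nat_lit 9, nat_lit 8, nat_lit 1], (nat_lit 445193845), (nat_lit 0)) ::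
  ([nat_lit 7, nat_lit 8, nat_lit 6, nat_lit 3, nat_lit 9, nat_lit 6], (nat_lit 446548518), (nat_lit 0)) ::
  ([nat_lit 8, nat_lit 1, nat_lit 9, nat_lit 8, nat_lit 1, nat_lit 4], (nat_lit 447258359), (nat_lit 0)) ::
  ([nat_lit 8, nat_lit 9, nat_lit 1, nat_lit 8, nat_lit 10, nat_lit 3], (nat_lit 447494736), (nat_lit 0)) ::
  ([nat_lit 7, nat_lit 8, nat_lit 9, nat_lit 6, nat_lit 1, nat_lit 5], (nat_lit 447682627), (nat_lit 0)) ::
  ([nat_lit 7, nat_lit 6, nat_lit 5, nat_lit 8, nat_lit 2, nat_lit 9, nat_lit 8, nat_lit 10], (nat_lit 447827034), (nat_lit 0)) ::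
  ([nat_lit 7, nat_lit 6, nat_lit 8, nat_lit 0, nat_lit 2, nat_lit 9, nat_lit 8, nat_lit 0], (nat_lit 449048968), (nat_lit 0)) ::
  ([nat_lit 7, nat_lit 6, nat_lit 2, nat_lit 8, nat_lit 9, nat_lit 3, nat_lit 8, nat_lit 1], (nat_lit 450307738), (nat_lit 0)) ::
  ([nat_lit 7, nat_lit 6, nat_lit 8, nat_lit 9, nat_lit 8, nat_lit 1], (nat_lit 450893020), (nat_lit 0)) ::
  ([nat_lit 7, nat_lit 8, nat_lit 0, nat_lit 6, nat_lit 5, nat_lit 9, nat_lit 8], (nat_lit 450970940), (nat_lit 0)) ::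
  ([nat_lit 7, nat_lit 6, nat_lit 4, nat_lit 8, nat_lit 0, nat_lit 9, nat_lit 8, nat_lit 1, nat_lit 4], (nat_lit 451068396), (nat_lit 0)) ::
  ([nat_lit 7, nat_lit 8, nat_lit 2, nat_lit 3, nat_lit 9], (nat_lit 452069264), (nat_lit 0)) ::
  ([nat_lit 7, nat_lit 8, nat_lit 2, nat_lit 5], (nat_lit 454625413), (nat_lit 0)) ::
  ([nat_lit 7, nat_lit 8, nat_lit 2, nat_lit 4, nat_lit 6, nat_lit 9, nat_lit 8, nat_lit 0], (nat_lit 455862836), (nat_lit 0)) ::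
  ([nat_lit 8, nat_lit 1, nat_lit 9, nat_lit 7, nat_lit 8], (nat_lit 456032682), (nat_lit 0)) ::
  ([nat_lit 8, nat_lit 3, nat_lit 9, nat_lit 8, nat_lit 2, nat_lit 3], (nat_lit 456067227), (nat_lit 0)) ::
  ([nat_lit 7, nat_lit 8, nat_lit 3, nat_lit 6, nat_lit 10, nat_lit 9], (nat_lit 456493345), (nat_lit 0)) ::
  ([nat_lit 7, nat_lit 8, nat_lit 0, nat_lit 2, nat_lit 9, nat_lit 6], (nat_lit 457638431), (nat_lit 0)) ::
  ([nat_lit 7, nat_lit 6, nat_lit 8, nat_lit 9, nat_lit 8, nat_lit 2, nat_lit 10], (nat_lit 457733937), (nat_lit 0)) ::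
  ([nat_lit 8, nat_lit 0, nat_lit 9, nat_lit 8, nat_lit 2, nat_lit 10], (nat_lit 459124325), (nat_lit 0)) ::
  ([nat_lit 7, nat_lit 6, nat_lit 8, nat_lit 9, nat_lit 6, nat_lit 1, nat_lit 8, nat_lit 10], (nat_lit 459229971), (nat_lit 0)) ::
  ([nat_lit 8, nat_lit 9, nat_lit 10, nat_lit 0, nat_lit 8, nat_lit 1, nat_lit 6], (nat_lit 459660488), (nat_lit 0)) ::
  ([nat_lit 7, nat_lit 6, nat_lit 8, nat_lit 1, nat_lit 5], (nat_lit 460209568), (nat_lit 0)) ::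
  clD800
noncomputable def clD700 : List (List ℕ × ℕ × ℕ) :=
  ([nat_lit 8, nat_lit 1, nat_lit 9, nat_lit 8, nat_lit 10, nat_lit 0, nat_lit 7], (nat_lit 403124462), (nat_lit 0)) ::
  ([nat_lit 7, nat_lit 6, nat_lit 1, nat_lit 4, nat_lit 1], (nat_lit 403313051), (nat_lit 0)) ::
  ([nat_lit 8, nat_lit 1, nat_lit 3, nat_lit 9, nat_lit 8, nat_lit 1], (nat_lit 404001423), (nat_lit 0)) ::
  ([nat_lit 7, nat_lit 8, nat_lit 3, nat_lit 6, nat_lit 2], (nat_lit 404272652), (nat_lit 0)) ::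
  ([nat_lit 7, nat_lit 6, nat_lit 8, nat_lit 9, nat_lit 3, nat_lit 8, nat_lit 9], (nat_lit 404991731), (nat_lit 0)) ::
  ([nat_lit 7, nat_lit 8, nat_lit 0, nat_lit 2, nat_lit 9, nat_lit 6, nat_lit 8], (nat_lit 405065572), (nat_lit 0)) ::
  ([nat_lit 7, nat_lit 6, nat_lit 8, nat_lit 9, nat_lit 10, nat_lit 0], (nat_lit 405168965), (nat_lit 0)) ::
  ([nat_lit 7, nat_lit 8, nat_lit 2, nat_lit 5, nat_lit 9, nat_lit 6, nat_lit 8], (nat_lit 405348555), (nat_lit 0)) ::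
  ([nat_lit 7, nat_lit 6, nat_lit 2, nat_lit 8, nat_lit 3, nat_lit 9, nat_lit 8, nat_lit 1], (nat_lit 405650608), (nat_lit 0)) ::
  ([nat_lit 7, nat_lit 8, nat_lit 0, nat_lit 9, nat_lit 8, nat_lit 6, nat_lit 3], (nat_lit 405677394), (nat_lit 0)) ::
  ([nat_lit 8, nat_lit 1, nat_lit 9, nat_lit 8, nat_lit 3, nat_lit 5], (nat_lit 405895098), (nat_lit 0)) ::
  ([nat_lit 7, nat_lit 8, nat_lit 2, nat_lit 9, nat_lit 8, nat_lit 0, nat_lit 6], (nat_lit 406065246), (nat_lit 0)) ::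
  ([nat_lit 7, nat_lit 8, nat_lit 2, nat_lit 9, nat_lit 3, nat_lit 6], (nat_lit 406382166), (nat_lit 0)) ::
  ([nat_lit 7, nat_lit 8, nat_lit 3, nat_lit 9, nat_lit 8, nat_lit 1, nat_lit 5], (nat_lit 406526581), (nat_lit 0)) ::
  ([nat_lit 7, nat_lit 8, nat_lit 9, nat_lit 3, nat_lit 6, nat_lit 8], (nat_lit 407339110), (nat_lit 0)) ::
  ([nat_lit 7, nat_lit 6, nat_lit 8, nat_lit 0, nat_lit 9, nat_lit 8, nat_lit 6], (nat_lit 407475728), (nat_lit 0)) ::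
  ([nat_lit 8, nat_lit 1, nat_lit 9, nat_lit 8, nat_lit 1], (nat_lit 407764126), (nat_lit 0)) ::
  ([nat_lit 7, nat_lit 8, nat_lit 1, nat_lit 9, nat_lit 6, nat_lit 4, nat_lit 8], (nat_lit 407986353), (nat_lit 0)) ::
  ([nat_lit 8, nat_lit 0, nat_lit 9, nat_lit 8, nat_lit 1, nat_lit 6, nat_lit 4, nat_lit 10], (nat_lit 408993122), (nat_lit 0)) ::
  ([nat_lit 8, nat_lit 1, nat_lit 6, nat_lit 9, nat_lit 8, nat_lit 0, nat_lit 6], (nat_lit 412102939), (nat_lit 0)) ::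
  ([nat_lit 8, nat_lit 1, nat_lit 9, nat_lit 8, nat_lit 10, nat_lit 3, nat_lit 9], (nat_lit 412513397), (nat_lit 0)) ::
  ([nat_lit 8, nat_lit 0, nat_lit 1, nat_lit 9, nat_lit 8, nat_lit 0, nat_lit 3], (nat_lit 412896317), (nat_lit 0)) ::
  ([nat_lit 7, nat_lit 8, nat_lit 6, nat_lit 9, nat_lit 6, nat_lit 2, nat_lit 8, nat_lit 10], (nat_lit 412962445), (nat_lit 0)) ::
  ([nat_lit 7, nat_lit 8, nat_lit 2, nat_lit 9, nat_lit 3, nat_lit 6, nat_lit 8, nat_lit 0], (nat_lit 413139312), (nat_lit 0)) ::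
  ([nat_lit 8, nat_lit 9, nat_lit 1, nat_lit 8, nat_lit 2, nat_lit 6, nat_lit 10], (nat_lit 413646532), (nat_lit 0)) ::
  ([nat_lit 7, nat_lit 6, nat_lit 5, nat_lit 8, nat_lit 9, nat_lit 3, nat_lit 8, nat_lit 2], (nat_lit 414101234), (nat_lit 0)) ::
  ([nat_lit 7, nat_lit 8, nat_lit 2, nat_lit 6, nat_lit 9, nat_lit 8], (nat_lit 414826932), (nat_lit 0)) ::
  ([nat_lit 8, nat_lit 9, nat_lit 3, nat_lit 8, nat_lit 0, nat_lit 6, nat_lit 7], (nat_lit 415626061), (nat_lit 0)) ::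
  ([nat_lit 7, nat_lit 8, nat_lit 0, nat_lit 6, nat_lit 3, nat_lit 9, nat_lit 8, nat_lit 1, nat_lit 6], (nat_lit 416172873), (nat_lit 0)) ::
  ([nat_lit 7, nat_lit 8, nat_lit 0, nat_lit 2, nat_lit 9, nat_lit 10], (nat_lit 416487904), (nat_lit 0)) ::
  ([nat_lit 7, nat_lit 6, nat_lit 0, nat_lit 3, nat_lit 8, nat_lit 0, nat_lit 9], (nat_lit 416708609), (nat_lit 0)) ::
  ([nat_lit 7, nat_lit 8, nat_lit 1, nat_lit 9, nat_lit 8, nat_lit 6, nat_lit 2], (nat_lit 418161251), (nat_lit 0)) ::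
  ([nat_lit 7, nat_lit 8, nat_lit 0, nat_lit 6, nat_lit 5, nat_lit 9, nat_lit 8, nat_lit 2], (nat_lit 418814465), (nat_lit 0)) ::
  ([nat_lit 7, nat_lit 8, nat_lit 2, nat_lit 5, nat_lit 6, nat_lit 9, nat_lit 8, nat_lit 2], (nat_lit 418929337), (nat_lit 0)) ::
  ([nat_lit 8, nat_lit 9, nat_lit 3, nat_lit 8, nat_lit 10, nat_lit 0, nat_lit 7], (nat_lit 419003878), (nat_lit 0)) ::
  ([nat_lit 7, nat_lit 6, nat_lit 0, nat_lit 1, nat_lit 8, nat_lit 3, nat_lit 9, nat_lit 8, nat_lit 3], (nat_lit 419950365), (nat_lit 0)) ::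
  ([nat_lit 7, nat_lit 6, nat_lit 3, nat_lit 8, nat_lit 2, nat_lit 9], (nat_lit 420972583), (nat_lit 0)) ::
  ([nat_lit 7, nat_lit 8, nat_lit 6, nat_lit 9, nat_lit 6, nat_lit 10, nat_lit 3, nat_lit 8], (nat_lit 421317956), (nat_lit 0)) ::
  ([nat_lit 8, nat_lit 1, nat_lit 9, nat_lit 7, nat_lit 6, nat_lit 5, nat_lit 8, nat_lit 3], (nat_lit 422082219), (nat_lit 0)) ::
  ([nat_lit 7, nat_lit 6, nat_lit 8, nat_lit 0, nat_lit 9, nat_lit 6, nat_lit 8, nat_lit 1], (nat_lit 422383717), (nat_lit 0)) ::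
  ([nat_lit 7, nat_lit 8, nat_lit 6, nat_lit 1, nat_lit 9, nat_lit 8, nat_lit 0, nat_lit 3], (nat_lit 423038675), (nat_lit 0)) ::
  ([nat_lit 7, nat_lit 8, nat_lit 1, nat_lit 9, nat_lit 6, nat_lit 2, nat_lit 8], (nat_lit 423670190), (nat_lit 0)) ::
  ([nat_lit 8, nat_lit 9, nat_lit 10, nat_lit 3, nat_lit 8], (nat_lit 423708737), (nat_lit 0)) ::
  ([nat_lit 7, nat_lit 6, nat_lit 8, nat_lit 9, nat_lit 3], (nat_lit 423982292), (nat_lit 0)) ::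
  ([nat_lit 7, nat_lit 8, nat_lit 1, nat_lit 6, nat_lit 5, nat_lit 9], (nat_lit 424057214), (nat_lit 0)) ::
  ([nat_lit 7, nat_lit 6, nat_lit 4, nat_lit 8, nat_lit 9, nat_lit 1, nat_lit 8, nat_lit 10], (nat_lit 425561087), (nat_lit 0)) ::
  ([nat_lit 7, nat_lit 8, nat_lit 1, nat_lit 2], (nat_lit 425607632), (nat_lit 0)) ::
  ([nat_lit 7, nat_lit 6, nat_lit 8, nat_lit 0, nat_lit 9, nat_lit 6, nat_lit 8, nat_lit 3], (nat_lit 425942451), (nat_lit 0)) ::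
  ([nat_lit 8, nat_lit 9, nat_lit 10, nat_lit 3, nat_lit 8, nat_lit 1, nat_lit 9], (nat_lit 426869666), (nat_lit 0)) ::
  ([nat_lit 7, nat_lit 6, nat_lit 8, nat_lit 9, nat_lit 3, nat_lit 8, nat_lit 0, nat_lit 6], (nat_lit 427470243), (nat_lit 0)) ::
  clD750
noncomputable def clD650 : List (List ℕ × ℕ × ℕ) :=
  ([nat_lit 8, nat_lit 2, nat_lit 3, nat_lit 9, nat_lit 10], (nat_lit 369789549), (nat_lit 0)) ::
  ([nat_lit 7, nat_lit 8, nat_lit 0, nat_lit 6, nat_lit 9, nat_lit 10], (nat_lit 370342036), (nat_lit 0)) ::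
  ([nat_lit 7, nat_lit 6, nat_lit 8, nat_lit 1, nat_lit 5, nat_lit 9, nat_lit 8, nat_lit 3], (nat_lit 370658953), (nat_lit 0)) ::
  ([nat_lit 7, nat_lit 6], (nat_lit 370903194), (nat_lit 0)) ::
  ([nat_lit 7, nat_lit 8, nat_lit 2, nat_lit 3, nat_lit 6, nat_lit 9, nat_lit 8], (nat_lit 371154297), (nat_lit 0)) ::
  ([nat_lit 7, nat_lit 8, nat_lit 2, nat_lit 9, nat_lit 8, nat_lit 6, nat_lit 1, nat_lit 3], (nat_lit 372090955), (nat_lit 0)) ::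
  ([nat_lit 7, nat_lit 6, nat_lit 8, nat_lit 2, nat_lit 9, nat_lit 6, nat_lit 10], (nat_lit 372415915), (nat_lit 0)) ::
  ([nat_lit 8, nat_lit 0, nat_lit 1, nat_lit 9, nat_lit 6, nat_lit 8, nat_lit 0], (nat_lit 373691564), (nat_lit 0)) ::
  ([nat_lit 7, nat_lit 8, nat_lit 2, nat_lit 9, nat_lit 8, nat_lit 3, nat_lit 6, nat_lit 8], (nat_lit 373810955), (nat_lit 0)) ::
  ([nat_lit 7, nat_lit 6, nat_lit 1, nat_lit 8, nat_lit 1, nat_lit 4], (nat_lit 374264655), (nat_lit 0)) ::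
  ([nat_lit 8, nat_lit 0, nat_lit 7, nat_lit 6, nat_lit 3, nat_lit 9, nat_lit 10], (nat_lit 375595893), (nat_lit 0)) ::
  ([nat_lit 8, nat_lit 1, nat_lit 6], (nat_lit 376280875), (nat_lit 0)) ::
  ([nat_lit 7, nat_lit 8, nat_lit 9, nat_lit 3, nat_lit 6, nat_lit 8, nat_lit 2], (nat_lit 377680075), (nat_lit 0)) ::
  ([nat_lit 7, nat_lit 8, nat_lit 0, nat_lit 9, nat_lit 8, nat_lit 1, nat_lit 6, nat_lit 9], (nat_lit 377856758), (nat_lit 0)) ::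
  ([nat_lit 7, nat_lit 6, nat_lit 8, nat_lit 9, nat_lit 8, nat_lit 10], (nat_lit 377895900), (nat_lit 0)) ::
  ([nat_lit 8, nat_lit 0, nat_lit 9, nat_lit 8, nat_lit 0, nat_lit 10], (nat_lit 378124950), (nat_lit 0)) ::
  ([nat_lit 7, nat_lit 6, nat_lit 8, nat_lit 9, nat_lit 6, nat_lit 2, nat_lit 8, nat_lit 10], (nat_lit 378356715), (nat_lit 0)) ::
  ([nat_lit 7, nat_lit 8, nat_lit 2, nat_lit 9, nat_lit 8, nat_lit 0, nat_lit 10, nat_lit 9], (nat_lit 378357601), (nat_lit 0)) ::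
  ([nat_lit 7, nat_lit 6, nat_lit 8, nat_lit 3, nat_lit 9, nat_lit 8], (nat_lit 378681321), (nat_lit 0)) ::
  ([nat_lit 7, nat_lit 6, nat_lit 0, nat_lit 8, nat_lit 3], (nat_lit 379451839), (nat_lit 0)) ::
  ([nat_lit 7, nat_lit 6, nat_lit 8, nat_lit 3, nat_lit 10], (nat_lit 380575570), (nat_lit 0)) ::
  ([nat_lit 8, nat_lit 1, nat_lit 3, nat_lit 9, nat_lit 8, nat_lit 0, nat_lit 10], (nat_lit 380811644), (nat_lit 0)) ::
  ([nat_lit 8, nat_lit 2, nat_lit 5, nat_lit 9, nat_lit 8, nat_lit 0], (nat_lit 381127579), (nat_lit 0)) ::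
  ([nat_lit 7, nat_lit 8, nat_lit 0, nat_lit 6, nat_lit 3, nat_lit 9, nat_lit 8, nat_lit 0], (nat_lit 381497742), (nat_lit 0)) ::
  ([nat_lit 7, nat_lit 8, nat_lit 1, nat_lit 4, nat_lit 6], (nat_lit 381609019), (nat_lit 0)) ::
  ([nat_lit 7, nat_lit 6, nat_lit 1, nat_lit 8, nat_lit 0, nat_lit 9, nat_lit 8, nat_lit 0], (nat_lit 382008773), (nat_lit 0)) ::
  ([nat_lit 7, nat_lit 8, nat_lit 9, nat_lit 3, nat_lit 6, nat_lit 8, nat_lit 3], (nat_lit 382075047), (nat_lit 0)) ::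
  ([nat_lit 7, nat_lit 6, nat_lit 4, nat_lit 8, nat_lit 0, nat_lit 9, nat_lit 8, nat_lit 10], (nat_lit 382103680), (nat_lit 0)) ::
  ([nat_lit 7, nat_lit 8, nat_lit 9, nat_lit 6, nat_lit 1, nat_lit 5, nat_lit 8, nat_lit 0], (nat_lit 383311534), (nat_lit 0)) ::
  ([nat_lit 7, nat_lit 8, nat_lit 3, nat_lit 6, nat_lit 9, nat_lit 8, nat_lit 1, nat_lit 5], (nat_lit 384060299), (nat_lit 0)) ::
  ([nat_lit 7, nat_lit 8, nat_lit 2, nat_lit 3, nat_lit 6, nat_lit 9, nat_lit 8, nat_lit 2], (nat_lit 384538104), (nat_lit 0)) ::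
  ([nat_lit 7, nat_lit 8, nat_lit 0, nat_lit 9, nat_lit 1, nat_lit 8, nat_lit 1, nat_lit 5], (nat_lit 385066367), (nat_lit 0)) ::
  ([nat_lit 7, nat_lit 8, nat_lit 9, nat_lit 6, nat_lit 1, nat_lit 8, nat_lit 0, nat_lit 10], (nat_lit 385298929), (nat_lit 0)) ::
  ([nat_lit 7, nat_lit 8, nat_lit 2, nat_lit 6, nat_lit 9, nat_lit 7, nat_lit 8], (nat_lit 386045109), (nat_lit 0)) ::
  ([nat_lit 7, nat_lit 6, nat_lit 8, nat_lit 9, nat_lit 1, nat_lit 8], (nat_lit 386254705), (nat_lit 0)) ::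
  ([nat_lit 8, nat_lit 0, nat_lit 9, nat_lit 8, nat_lit 1, nat_lit 6, nat_lit 10, nat_lit 9], (nat_lit 386855737), (nat_lit 0)) ::
  ([nat_lit 7, nat_lit 6, nat_lit 8, nat_lit 2], (nat_lit 387322275), (nat_lit 0)) ::
  ([nat_lit 7, nat_lit 6, nat_lit 8, nat_lit 9, nat_lit 3, nat_lit 6, nat_lit 8, nat_lit 3], (nat_lit 389949029), (nat_lit 0)) ::
  ([nat_lit 8, nat_lit 0, nat_lit 9, nat_lit 8, nat_lit 2, nat_lit 6, nat_lit 1], (nat_lit 390265802), (nat_lit 0)) ::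
  ([nat_lit 8, nat_lit 1, nat_lit 9, nat_lit 7, nat_lit 8, nat_lit 3], (nat_lit 391155883), (nat_lit 0)) ::
  ([nat_lit 7, nat_lit 8, nat_lit 6, nat_lit 1, nat_lit 9, nat_lit 8, nat_lit 1], (nat_lit 393809194), (nat_lit 0)) ::
  ([nat_lit 7, nat_lit 8, nat_lit 1, nat_lit 9, nat_lit 6, nat_lit 1], (nat_lit 394216768), (nat_lit 0)) ::
  ([nat_lit 7, nat_lit 6, nat_lit 0, nat_lit 8, nat_lit 9, nat_lit 6], (nat_lit 395901076), (nat_lit 0)) ::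
  ([nat_lit 7, nat_lit 8, nat_lit 3, nat_lit 9, nat_lit 6, nat_lit 8], (nat_lit 396045732), (nat_lit 0)) ::
  ([nat_lit 7, nat_lit 8, nat_lit 3, nat_lit 6, nat_lit 9, nat_lit 8, nat_lit 10], (nat_lit 400614013), (nat_lit 0)) ::
  ([nat_lit 7, nat_lit 8, nat_lit 9, nat_lit 3, nat_lit 6, nat_lit 8, nat_lit 10], (nat_lit 401180752), (nat_lit 0)) ::
  ([nat_lit 7, nat_lit 8, nat_lit 0, nat_lit 6, nat_lit 9, nat_lit 8], (nat_lit 401565695), (nat_lit 0)) ::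
  ([nat_lit 8, nat_lit 9, nat_lit 1, nat_lit 8, nat_lit 10], (nat_lit 401782339), (nat_lit 0)) ::
  ([nat_lit 7, nat_lit 8, nat_lit 2, nat_lit 9, nat_lit 6, nat_lit 8, nat_lit 3, nat_lit 9], (nat_lit 402671282), (nat_lit 0)) ::
  ([nat_lit 7, nat_lit 8, nat_lit 6, nat_lit 0, nat_lit 9, nat_lit 8, nat_lit 2, nat_lit 5], (nat_lit 402849472), (nat_lit 0)) ::
  clD700
noncomputable def clD600 : List (List ℕ × ℕ × ℕ) :=
  ([nat_lit 7, nat_lit 6, nat_lit 8, nat_lit 9, nat_lit 6, nat_lit 1, nat_lit 8, nat_lit 3], (nat_lit 348445883), (nat_lit 0)) ::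
  ([nat_lit 7, nat_lit 8, nat_lit 2, nat_lit 9, nat_lit 8, nat_lit 3, nat_lit 5, nat_lit 6], (nat_lit 348747196), (nat_lit 0)) ::
  ([nat_lit 8, nat_lit 9, nat_lit 3, nat_lit 8, nat_lit 1, nat_lit 6], (nat_lit 348903166), (nat_lit 0)) ::
  ([nat_lit 7, nat_lit 8, nat_lit 6, nat_lit 9, nat_lit 6, nat_lit 10], (nat_lit 349056084), (nat_lit 0)) ::
  ([nat_lit 7, nat_lit 8, nat_lit 3, nat_lit 9, nat_lit 6, nat_lit 8, nat_lit 2, nat_lit 4], (nat_lit 349954525), (nat_lit 0)) ::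
  ([nat_lit 7, nat_lit 8, nat_lit 6, nat_lit 9, nat_lit 6, nat_lit 3, nat_lit 8], (nat_lit 350001038), (nat_lit 0)) ::
  ([nat_lit 7, nat_lit 8, nat_lit 2, nat_lit 9, nat_lit 3, nat_lit 8, nat_lit 6], (nat_lit 350756446), (nat_lit 0)) ::
  ([nat_lit 7, nat_lit 6, nat_lit 0, nat_lit 8, nat_lit 0], (nat_lit 350822577), (nat_lit 0)) ::
  ([nat_lit 7, nat_lit 8, nat_lit 2, nat_lit 4], (nat_lit 350850560), (nat_lit 0)) ::
  ([nat_lit 7, nat_lit 8, nat_lit 0, nat_lit 6, nat_lit 3], (nat_lit 350892697), (nat_lit 0)) ::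
  ([nat_lit 7, nat_lit 6, nat_lit 9, nat_lit 8, nat_lit 1, nat_lit 9, nat_lit 10], (nat_lit 351464690), (nat_lit 0)) ::
  ([nat_lit 7, nat_lit 8, nat_lit 2, nat_lit 5, nat_lit 9, nat_lit 6, nat_lit 8, nat_lit 1], (nat_lit 351635181), (nat_lit 0)) ::
  ([nat_lit 7, nat_lit 8, nat_lit 2, nat_lit 9, nat_lit 8, nat_lit 0, nat_lit 6, nat_lit 9], (nat_lit 352363317), (nat_lit 0)) ::
  ([nat_lit 8, nat_lit 2, nat_lit 9, nat_lit 8, nat_lit 3], (nat_lit 352469892), (nat_lit 0)) ::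
  ([nat_lit 8, nat_lit 0, nat_lit 1, nat_lit 9, nat_lit 8, nat_lit 0, nat_lit 2, nat_lit 10], (nat_lit 352509915), (nat_lit 0)) ::
  ([nat_lit 7, nat_lit 8, nat_lit 2, nat_lit 3, nat_lit 9, nat_lit 8, nat_lit 3], (nat_lit 352814115), (nat_lit 0)) ::
  ([nat_lit 7, nat_lit 8, nat_lit 2, nat_lit 9, nat_lit 8, nat_lit 6, nat_lit 0], (nat_lit 353653264), (nat_lit 0)) ::
  ([nat_lit 8, nat_lit 1, nat_lit 9, nat_lit 7, nat_lit 6, nat_lit 5], (nat_lit 354169153), (nat_lit 0)) ::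
  ([nat_lit 7, nat_lit 6, nat_lit 0, nat_lit 3, nat_lit 8, nat_lit 1], (nat_lit 354715258), (nat_lit 0)) ::
  ([nat_lit 7, nat_lit 8, nat_lit 1, nat_lit 3], (nat_lit 355661393), (nat_lit 0)) ::
  ([nat_lit 7, nat_lit 6, nat_lit 8, nat_lit 2, nat_lit 9, nat_lit 8, nat_lit 2], (nat_lit 356176781), (nat_lit 0)) ::
  ([nat_lit 8, nat_lit 1, nat_lit 6, nat_lit 9, nat_lit 7, nat_lit 8, nat_lit 1], (nat_lit 357063612), (nat_lit 0)) ::
  ([nat_lit 7, nat_lit 6, nat_lit 8, nat_lit 0, nat_lit 9, nat_lit 8, nat_lit 1], (nat_lit 357851482), (nat_lit 0)) ::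
  ([nat_lit 7, nat_lit 6, nat_lit 3, nat_lit 8, nat_lit 2, nat_lit 9, nat_lit 10], (nat_lit 358201757), (nat_lit 0)) ::
  ([nat_lit 8, nat_lit 1, nat_lit 6, nat_lit 9, nat_lit 8, nat_lit 0, nat_lit 7], (nat_lit 358413611), (nat_lit 0)) ::
  ([nat_lit 7, nat_lit 6, nat_lit 4, nat_lit 8, nat_lit 1, nat_lit 9], (nat_lit 358867094), (nat_lit 0)) ::
  ([nat_lit 7, nat_lit 8, nat_lit 9, nat_lit 6, nat_lit 0, nat_lit 8], (nat_lit 359148158), (nat_lit 0)) ::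
  ([nat_lit 8, nat_lit 0, nat_lit 9, nat_lit 8, nat_lit 6, nat_lit 10, nat_lit 9], (nat_lit 359287252), (nat_lit 0)) ::
  ([nat_lit 7, nat_lit 8, nat_lit 9, nat_lit 10, nat_lit 3, nat_lit 8, nat_lit 2], (nat_lit 359769134), (nat_lit 0)) ::
  ([nat_lit 8, nat_lit 1, nat_lit 6, nat_lit 9, nat_lit 7, nat_lit 8, nat_lit 6], (nat_lit 361242772), (nat_lit 0)) ::
  ([nat_lit 7, nat_lit 6, nat_lit 0, nat_lit 8, nat_lit 6, nat_lit 2], (nat_lit 361418725), (nat_lit 0)) ::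
  ([nat_lit 8, nat_lit 9, nat_lit 10, nat_lit 0, nat_lit 8, nat_lit 0], (nat_lit 362330261), (nat_lit 0)) ::
  ([nat_lit 7, nat_lit 8, nat_lit 9, nat_lit 3, nat_lit 8, nat_lit 2], (nat_lit 362703223), (nat_lit 0)) ::
  ([nat_lit 7, nat_lit 8, nat_lit 3, nat_lit 6, nat_lit 9, nat_lit 6, nat_lit 8, nat_lit 0], (nat_lit 362795628), (nat_lit 43516)) ::
  ([nat_lit 7, nat_lit 8, nat_lit 1, nat_lit 4], (nat_lit 363218980), (nat_lit 0)) ::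
  ([nat_lit 7, nat_lit 6, nat_lit 2, nat_lit 8, nat_lit 9, nat_lit 3, nat_lit 8, nat_lit 2], (nat_lit 363570844), (nat_lit 0)) ::
  ([nat_lit 7, nat_lit 6, nat_lit 5, nat_lit 8, nat_lit 9, nat_lit 1, nat_lit 8, nat_lit 2], (nat_lit 363781958), (nat_lit 0)) ::
  ([nat_lit 7, nat_lit 8, nat_lit 6, nat_lit 1, nat_lit 9], (nat_lit 363878081), (nat_lit 0)) ::
  ([nat_lit 7, nat_lit 8, nat_lit 3, nat_lit 9, nat_lit 8, nat_lit 2, nat_lit 10], (nat_lit 364093155), (nat_lit 0)) ::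
  ([nat_lit 8, nat_lit 0, nat_lit 1, nat_lit 9, nat_lit 8, nat_lit 0, nat_lit 4], (nat_lit 364135302), (nat_lit 0)) ::
  ([nat_lit 7, nat_lit 8, nat_lit 0, nat_lit 9, nat_lit 10], (nat_lit 364180439), (nat_lit 0)) ::
  ([nat_lit 7, nat_lit 6, nat_lit 8, nat_lit 0, nat_lit 9, nat_lit 6, nat_lit 8, nat_lit 10], (nat_lit 364946917), (nat_lit 0)) ::
  ([nat_lit 8, nat_lit 1, nat_lit 9, nat_lit 8, nat_lit 1, nat_lit 10, nat_lit 9], (nat_lit 365696153), (nat_lit 0)) ::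
  ([nat_lit 7, nat_lit 6, nat_lit 5, nat_lit 8, nat_lit 2], (nat_lit 365890135), (nat_lit 0)) ::
  ([nat_lit 7, nat_lit 8, nat_lit 6, nat_lit 9, nat_lit 6, nat_lit 2, nat_lit 10], (nat_lit 366286889), (nat_lit 0)) ::
  ([nat_lit 8, nat_lit 0, nat_lit 7, nat_lit 6], (nat_lit 366470129), (nat_lit 0)) ::
  ([nat_lit 7, nat_lit 6, nat_lit 8, nat_lit 2, nat_lit 9, nat_lit 8, nat_lit 0, nat_lit 3], (nat_lit 366925888), (nat_lit 0)) ::
  ([nat_lit 7, nat_lit 6, nat_lit 5, nat_lit 8, nat_lit 3, nat_lit 9, nat_lit 10], (nat_lit 367652426), (nat_lit 0)) ::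
  ([nat_lit 7, nat_lit 6, nat_lit 8, nat_lit 9, nat_lit 1, nat_lit 8, nat_lit 0, nat_lit 4], (nat_lit 369286853), (nat_lit 0)) ::
  ([nat_lit 7, nat_lit 6, nat_lit 9, nat_lit 1], (nat_lit 369704538), (nat_lit 0)) ::
  clD650
noncomputable def clD550 : List (List ℕ × ℕ × ℕ) :=
  ([nat_lit 7, nat_lit 8, nat_lit 1, nat_lit 3, nat_lit 9, nat_lit 8, nat_lit 2], (nat_lit 321643569), (nat_lit 0)) ::
  ([nat_lit 7, nat_lit 8, nat_lit 3, nat_lit 10, nat_lit 9, nat_lit 8, nat_lit 1], (nat_lit 321800622), (nat_lit 0)) ::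
  ([nat_lit 7, nat_lit 8, nat_lit 6, nat_lit 9], (nat_lit 322433933), (nat_lit 0)) ::
  ([nat_lit 7, nat_lit 8, nat_lit 3, nat_lit 9, nat_lit 8, nat_lit 6, nat_lit 1], (nat_lit 323593901), (nat_lit 0)) ::
  ([nat_lit 8, nat_lit 9, nat_lit 10, nat_lit 3, nat_lit 8, nat_lit 1, nat_lit 4], (nat_lit 324043607), (nat_lit 0)) ::
  ([nat_lit 8, nat_lit 9, nat_lit 3, nat_lit 8, nat_lit 1, nat_lit 2, nat_lit 6], (nat_lit 325132725), (nat_lit 0)) ::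
  ([nat_lit 7, nat_lit 8, nat_lit 6, nat_lit 4, nat_lit 1, nat_lit 9, nat_lit 10], (nat_lit 325150173), (nat_lit 0)) ::
  ([nat_lit 8, nat_lit 3, nat_lit 9, nat_lit 8, nat_lit 2, nat_lit 10, nat_lit 9], (nat_lit 325381239), (nat_lit 0)) ::
  ([nat_lit 7, nat_lit 8, nat_lit 2, nat_lit 9, nat_lit 8, nat_lit 0, nat_lit 6, nat_lit 7], (nat_lit 325502665), (nat_lit 0)) ::
  ([nat_lit 7, nat_lit 8, nat_lit 2, nat_lit 6, nat_lit 4, nat_lit 9, nat_lit 8, nat_lit 10], (nat_lit 325631219), (nat_lit 0)) ::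
  ([nat_lit 8, nat_lit 9, nat_lit 1], (nat_lit 325859923), (nat_lit 0)) ::
  ([nat_lit 7, nat_lit 6, nat_lit 0, nat_lit 8, nat_lit 3, nat_lit 5], (nat_lit 326039149), (nat_lit 0)) ::
  ([nat_lit 7, nat_lit 6, nat_lit 8, nat_lit 3, nat_lit 9, nat_lit 1, nat_lit 10], (nat_lit 326670173), (nat_lit 0)) ::
  ([nat_lit 7, nat_lit 8, nat_lit 9, nat_lit 6, nat_lit 1, nat_lit 5, nat_lit 8], (nat_lit 326736792), (nat_lit 0)) ::
  ([nat_lit 8, nat_lit 9, nat_lit 1, nat_lit 8, nat_lit 10, nat_lit 3, nat_lit 9], (nat_lit 326851084), (nat_lit 0)) ::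
  ([nat_lit 7, nat_lit 6, nat_lit 8, nat_lit 9, nat_lit 1, nat_lit 5, nat_lit 10], (nat_lit 329104628), (nat_lit 0)) ::
  ([nat_lit 8, nat_lit 1, nat_lit 3, nat_lit 9], (nat_lit 329601717), (nat_lit 0)) ::
  ([nat_lit 8, nat_lit 0, nat_lit 9, nat_lit 8, nat_lit 10, nat_lit 3], (nat_lit 330563313), (nat_lit 0)) ::
  ([nat_lit 8, nat_lit 0, nat_lit 9, nat_lit 8, nat_lit 6, nat_lit 1, nat_lit 2, nat_lit 10], (nat_lit 330781389), (nat_lit 0)) ::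
  ([nat_lit 7, nat_lit 8, nat_lit 6, nat_lit 0, nat_lit 5, nat_lit 9], (nat_lit 330807389), (nat_lit 0)) ::
  ([nat_lit 8, nat_lit 3, nat_lit 9, nat_lit 8, nat_lit 1, nat_lit 2, nat_lit 10], (nat_lit 331599489), (nat_lit 0)) ::
  ([nat_lit 7, nat_lit 8, nat_lit 1, nat_lit 6, nat_lit 5], (nat_lit 332958040), (nat_lit 0)) ::
  ([nat_lit 7, nat_lit 8, nat_lit 9, nat_lit 10, nat_lit 3, nat_lit 8, nat_lit 1], (nat_lit 334061022), (nat_lit 0)) ::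
  ([nat_lit 7, nat_lit 8, nat_lit 2, nat_lit 3, nat_lit 9, nat_lit 8], (nat_lit 334457460), (nat_lit 0)) ::
  ([nat_lit 7, nat_lit 6, nat_lit 5, nat_lit 8, nat_lit 9, nat_lit 10], (nat_lit 334809039), (nat_lit 0)) ::
  ([nat_lit 7, nat_lit 8, nat_lit 6, nat_lit 0, nat_lit 9, nat_lit 8], (nat_lit 334821423), (nat_lit 0)) ::
  ([nat_lit 8, nat_lit 1, nat_lit 9, nat_lit 3, nat_lit 8, nat_lit 3], (nat_lit 335286798), (nat_lit 0)) ::
  ([nat_lit 7, nat_lit 6, nat_lit 8, nat_lit 0, nat_lit 9, nat_lit 6, nat_lit 8, nat_lit 0], (nat_lit 335614653), (nat_lit 0)) ::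
  ([nat_lit 8, nat_lit 9, nat_lit 3, nat_lit 8, nat_lit 1, nat_lit 10], (nat_lit 335621990), (nat_lit 0)) ::
  ([nat_lit 7, nat_lit 6, nat_lit 2, nat_lit 8, nat_lit 9, nat_lit 3], (nat_lit 336597410), (nat_lit 0)) ::
  ([nat_lit 7, nat_lit 8, nat_lit 2, nat_lit 5, nat_lit 9, nat_lit 6, nat_lit 8, nat_lit 0], (nat_lit 337062638), (nat_lit 0)) ::
  ([nat_lit 7, nat_lit 6, nat_lit 0, nat_lit 8, nat_lit 6, nat_lit 0], (nat_lit 337888178), (nat_lit 0)) ::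
  ([nat_lit 8, nat_lit 0, nat_lit 9, nat_lit 8, nat_lit 0, nat_lit 6, nat_lit 3], (nat_lit 338210580), (nat_lit 0)) ::
  ([nat_lit 8, nat_lit 1, nat_lit 9, nat_lit 8, nat_lit 1, nat_lit 4, nat_lit 10], (nat_lit 338870346), (nat_lit 0)) ::
  ([nat_lit 8, nat_lit 0, nat_lit 2, nat_lit 9, nat_lit 8], (nat_lit 340853736), (nat_lit 0)) ::
  ([nat_lit 7, nat_lit 8, nat_lit 9, nat_lit 6, nat_lit 1, nat_lit 5, nat_lit 8, nat_lit 3], (nat_lit 340954267), (nat_lit 0)) ::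
  ([nat_lit 7, nat_lit 8, nat_lit 1, nat_lit 3, nat_lit 9, nat_lit 8, nat_lit 0], (nat_lit 344155881), (nat_lit 0)) ::
  ([nat_lit 8, nat_lit 3, nat_lit 9, nat_lit 8, nat_lit 1, nat_lit 3, nat_lit 10], (nat_lit 344254822), (nat_lit 0)) ::
  ([nat_lit 8, nat_lit 3, nat_lit 9, nat_lit 6, nat_lit 8, nat_lit 2], (nat_lit 344423586), (nat_lit 0)) ::
  ([nat_lit 8, nat_lit 1, nat_lit 2], (nat_lit 344518306), (nat_lit 0)) ::
  ([nat_lit 7, nat_lit 8, nat_lit 9, nat_lit 10, nat_lit 0, nat_lit 8, nat_lit 1], (nat_lit 344597138), (nat_lit 0)) ::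
  ([nat_lit 8, nat_lit 3, nat_lit 9, nat_lit 8], (nat_lit 345586201), (nat_lit 0)) ::
  ([nat_lit 7, nat_lit 6, nat_lit 8, nat_lit 9, nat_lit 3, nat_lit 6, nat_lit 8, nat_lit 2, nat_lit 3], (nat_lit 345680066), (nat_lit 0)) ::
  ([nat_lit 7, nat_lit 6, nat_lit 3, nat_lit 8, nat_lit 0, nat_lit 10], (nat_lit 345865390), (nat_lit 0)) ::
  ([nat_lit 7, nat_lit 6, nat_lit 8, nat_lit 0, nat_lit 2], (nat_lit 346233909), (nat_lit 0)) ::
  ([nat_lit 7, nat_lit 6, nat_lit 0, nat_lit 1, nat_lit 8, nat_lit 3, nat_lit 9], (nat_lit 346818287), (nat_lit 0)) ::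
  ([nat_lit 8, nat_lit 1, nat_lit 9, nat_lit 8, nat_lit 10, nat_lit 0, nat_lit 7, nat_lit 6], (nat_lit 347530192), (nat_lit 0)) ::
  ([nat_lit 7, nat_lit 8, nat_lit 0, nat_lit 1, nat_lit 9, nat_lit 8, nat_lit 1, nat_lit 4], (nat_lit 347737899), (nat_lit 0)) ::
  ([nat_lit 7, nat_lit 6, nat_lit 8, nat_lit 9, nat_lit 1, nat_lit 8, nat_lit 1, nat_lit 3], (nat_lit 347831845), (nat_lit 0)) ::
  ([nat_lit 7, nat_lit 6, nat_lit 3, nat_lit 4, nat_lit 8, nat_lit 3], (nat_lit 348052127), (nat_lit 0)) ::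
  clD600
noncomputable def clD500 : List (List ℕ × ℕ × ℕ) :=
  ([nat_lit 7, nat_lit 8, nat_lit 6, nat_lit 0, nat_lit 9, nat_lit 8, nat_lit 10, nat_lit 0], (nat_lit 293221509), (nat_lit 0)) ::
  ([nat_lit 8, nat_lit 3, nat_lit 9, nat_lit 8, nat_lit 1], (nat_lit 293497734), (nat_lit 0)) ::
  ([nat_lit 7, nat_lit 8, nat_lit 2, nat_lit 6, nat_lit 9, nat_lit 7, nat_lit 10], (nat_lit 294327661), (nat_lit 0)) ::
  ([nat_lit 7, nat_lit 6, nat_lit 4, nat_lit 8, nat_lit 2], (nat_lit 294570875), (nat_lit 0)) ::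
  ([nat_lit 7, nat_lit 6, nat_lit 4, nat_lit 8, nat_lit 3, nat_lit 9], (nat_lit 296195941), (nat_lit 0)) ::
  ([nat_lit 7, nat_lit 8, nat_lit 0, nat_lit 6, nat_lit 9, nat_lit 8, nat_lit 0], (nat_lit 297239093), (nat_lit 0)) ::
  ([nat_lit 8, nat_lit 1, nat_lit 6, nat_lit 7, nat_lit 9, nat_lit 8, nat_lit 6], (nat_lit 297389218), (nat_lit 0)) ::
  ([nat_lit 7, nat_lit 6, nat_lit 8, nat_lit 3, nat_lit 9, nat_lit 6, nat_lit 8], (nat_lit 297535004), (nat_lit 0)) ::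
  ([nat_lit 7, nat_lit 6, nat_lit 4, nat_lit 8, nat_lit 9, nat_lit 10, nat_lit 3], (nat_lit 297793149), (nat_lit 0)) ::
  ([nat_lit 8, nat_lit 9, nat_lit 3, nat_lit 8, nat_lit 1, nat_lit 2], (nat_lit 299064059), (nat_lit 0)) ::
  ([nat_lit 7, nat_lit 8, nat_lit 6, nat_lit 4, nat_lit 1], (nat_lit 299104913), (nat_lit 0)) ::
  ([nat_lit 7, nat_lit 8, nat_lit 9, nat_lit 3, nat_lit 8, nat_lit 0], (nat_lit 300805019), (nat_lit 0)) ::
  ([nat_lit 7, nat_lit 8, nat_lit 2, nat_lit 3, nat_lit 6, nat_lit 9], (nat_lit 301276466), (nat_lit 0)) ::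
  ([nat_lit 7, nat_lit 8, nat_lit 2, nat_lit 9, nat_lit 8, nat_lit 6, nat_lit 0, nat_lit 3], (nat_lit 301598564), (nat_lit 0)) ::
  ([nat_lit 7, nat_lit 6, nat_lit 8, nat_lit 2, nat_lit 9, nat_lit 3, nat_lit 10], (nat_lit 302497443), (nat_lit 0)) ::
  ([nat_lit 8, nat_lit 9, nat_lit 1, nat_lit 8, nat_lit 2, nat_lit 10, nat_lit 9], (nat_lit 303964975), (nat_lit 0)) ::
  ([nat_lit 7, nat_lit 8, nat_lit 3, nat_lit 10, nat_lit 9, nat_lit 6, nat_lit 8], (nat_lit 304318011), (nat_lit 0)) ::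
  ([nat_lit 7, nat_lit 8, nat_lit 2, nat_lit 9, nat_lit 8, nat_lit 6, nat_lit 5, nat_lit 10], (nat_lit 304471545), (nat_lit 0)) ::
  ([nat_lit 7, nat_lit 8, nat_lit 9, nat_lit 6, nat_lit 0], (nat_lit 305008014), (nat_lit 0)) ::
  ([nat_lit 7, nat_lit 6, nat_lit 8, nat_lit 3, nat_lit 9, nat_lit 6], (nat_lit 305017147), (nat_lit 0)) ::
  ([nat_lit 7, nat_lit 6, nat_lit 1, nat_lit 8, nat_lit 1, nat_lit 5, nat_lit 9, nat_lit 8], (nat_lit 305584738), (nat_lit 0)) ::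
  ([nat_lit 8, nat_lit 3, nat_lit 9, nat_lit 8, nat_lit 3], (nat_lit 305761699), (nat_lit 0)) ::
  ([nat_lit 8, nat_lit 2], (nat_lit 306093034), (nat_lit 0)) ::
  ([nat_lit 8, nat_lit 9, nat_lit 1, nat_lit 6, nat_lit 7], (nat_lit 306418373), (nat_lit 0)) ::
  ([nat_lit 8, nat_lit 1, nat_lit 9, nat_lit 7, nat_lit 8, nat_lit 6, nat_lit 10], (nat_lit 306568493), (nat_lit 0)) ::
  ([nat_lit 8, nat_lit 1, nat_lit 6, nat_lit 9, nat_lit 7, nat_lit 8, nat_lit 2], (nat_lit 309033318), (nat_lit 0)) ::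
  ([nat_lit 8, nat_lit 1, nat_lit 9, nat_lit 7, nat_lit 6, nat_lit 8], (nat_lit 309816255), (nat_lit 0)) ::
  ([nat_lit 7, nat_lit 6, nat_lit 3, nat_lit 8, nat_lit 1, nat_lit 9, nat_lit 8, nat_lit 3], (nat_lit 311598266), (nat_lit 0)) ::
  ([nat_lit 7, nat_lit 8, nat_lit 2, nat_lit 6, nat_lit 9, nat_lit 8, nat_lit 10, nat_lit 9], (nat_lit 311644476), (nat_lit 0)) ::
  ([nat_lit 7, nat_lit 8, nat_lit 2, nat_lit 9, nat_lit 6, nat_lit 8, nat_lit 1, nat_lit 9], (nat_lit 311774706), (nat_lit 0)) ::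
  ([nat_lit 8, nat_lit 9, nat_lit 1, nat_lit 8, nat_lit 0], (nat_lit 312235833), (nat_lit 0)) ::
  ([nat_lit 7, nat_lit 6, nat_lit 8, nat_lit 2, nat_lit 9, nat_lit 3], (nat_lit 312764528), (nat_lit 0)) ::
  ([nat_lit 7, nat_lit 8, nat_lit 9, nat_lit 3, nat_lit 6, nat_lit 8, nat_lit 2, nat_lit 4], (nat_lit 313029462), (nat_lit 0)) ::
  ([nat_lit 7, nat_lit 8, nat_lit 2, nat_lit 6, nat_lit 9, nat_lit 8, nat_lit 1, nat_lit 5], (nat_lit 313073498), (nat_lit 0)) ::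
  ([nat_lit 7, nat_lit 8, nat_lit 9, nat_lit 10, nat_lit 3, nat_lit 8], (nat_lit 313605658), (nat_lit 0)) ::
  ([nat_lit 8, nat_lit 0, nat_lit 9, nat_lit 8, nat_lit 2, nat_lit 6, nat_lit 10], (nat_lit 314198301), (nat_lit 0)) ::
  ([nat_lit 7, nat_lit 6, nat_lit 3, nat_lit 8, nat_lit 0, nat_lit 9, nat_lit 8, nat_lit 2], (nat_lit 315446551), (nat_lit 0)) ::
  ([nat_lit 7, nat_lit 8, nat_lit 6, nat_lit 9, nat_lit 6, nat_lit 2, nat_lit 8], (nat_lit 316283500), (nat_lit 0)) ::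
  ([nat_lit 8, nat_lit 0, nat_lit 9, nat_lit 8, nat_lit 1, nat_lit 6, nat_lit 10], (nat_lit 316589804), (nat_lit 0)) ::
  ([nat_lit 8, nat_lit 9, nat_lit 3, nat_lit 8, nat_lit 1, nat_lit 6, nat_lit 10], (nat_lit 317195129), (nat_lit 0)) ::
  ([nat_lit 7, nat_lit 6, nat_lit 0, nat_lit 8, nat_lit 6, nat_lit 9, nat_lit 10], (nat_lit 318157727), (nat_lit 0)) ::
  ([nat_lit 8, nat_lit 1, nat_lit 9, nat_lit 3, nat_lit 8, nat_lit 1], (nat_lit 319106712), (nat_lit 0)) ::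
  ([nat_lit 8, nat_lit 3, nat_lit 9, nat_lit 8, nat_lit 3, nat_lit 10], (nat_lit 319217480), (nat_lit 0)) ::
  ([nat_lit 7, nat_lit 8, nat_lit 3, nat_lit 9, nat_lit 8, nat_lit 1, nat_lit 6, nat_lit 4], (nat_lit 319776054), (nat_lit 0)) ::
  ([nat_lit 7, nat_lit 6, nat_lit 0, nat_lit 1, nat_lit 8, nat_lit 9, nat_lit 10], (nat_lit 320112979), (nat_lit 0)) ::
  ([nat_lit 8, nat_lit 3, nat_lit 9, nat_lit 8, nat_lit 1, nat_lit 5], (nat_lit 320310930), (nat_lit 0)) ::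
  ([nat_lit 7, nat_lit 8, nat_lit 1, nat_lit 9, nat_lit 6, nat_lit 1, nat_lit 8], (nat_lit 320392850), (nat_lit 0)) ::
  ([nat_lit 7, nat_lit 8, nat_lit 6, nat_lit 0, nat_lit 5, nat_lit 9, nat_lit 8, nat_lit 10], (nat_lit 320437253), (nat_lit 0)) ::
  ([nat_lit 8, nat_lit 9, nat_lit 10, nat_lit 0, nat_lit 7], (nat_lit 320791824), (nat_lit 0)) ::
  ([nat_lit 7, nat_lit 8, nat_lit 0, nat_lit 6, nat_lit 9, nat_lit 8, nat_lit 6], (nat_lit 321030902), (nat_lit 0)) ::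
  clD550
noncomputable def clD450 : List (List ℕ × ℕ × ℕ) :=
  ([nat_lit 7, nat_lit 8, nat_lit 1, nat_lit 9, nat_lit 6, nat_lit 2, nat_lit 10], (nat_lit 267092169), (nat_lit 0)) ::
  ([nat_lit 7, nat_lit 6, nat_lit 4, nat_lit 8, nat_lit 9, nat_lit 1], (nat_lit 267270817), (nat_lit 0)) ::
  ([nat_lit 8, nat_lit 2, nat_lit 9], (nat_lit 267587458), (nat_lit 0)) ::
  ([nat_lit 7, nat_lit 8, nat_lit 0, nat_lit 9, nat_lit 8, nat_lit 0], (nat_lit 268179884), (nat_lit 0)) ::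
  ([nat_lit 7, nat_lit 8, nat_lit 1, nat_lit 4, nat_lit 6, nat_lit 0], (nat_lit 268251439), (nat_lit 0)) ::
  ([nat_lit 7, nat_lit 6, nat_lit 8, nat_lit 1, nat_lit 9, nat_lit 8, nat_lit 0], (nat_lit 268569898), (nat_lit 0)) ::
  ([nat_lit 8, nat_lit 2, nat_lit 9, nat_lit 8, nat_lit 1, nat_lit 6, nat_lit 4], (nat_lit 268953737), (nat_lit 0)) ::
  ([nat_lit 7, nat_lit 6, nat_lit 4, nat_lit 8, nat_lit 0, nat_lit 9, nat_lit 8], (nat_lit 269266461), (nat_lit 0)) ::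
  ([nat_lit 8, nat_lit 0, nat_lit 9, nat_lit 8, nat_lit 6, nat_lit 1, nat_lit 2], (nat_lit 269338264), (nat_lit 0)) ::
  ([nat_lit 7, nat_lit 6, nat_lit 2, nat_lit 8, nat_lit 9, nat_lit 3, nat_lit 8, nat_lit 1, nat_lit 2], (nat_lit 271148272), (nat_lit 0)) ::
  ([nat_lit 7, nat_lit 6, nat_lit 8, nat_lit 0, nat_lit 9, nat_lit 8, nat_lit 1, nat_lit 3], (nat_lit 271678348), (nat_lit 0)) ::
  ([nat_lit 7, nat_lit 8, nat_lit 3, nat_lit 9, nat_lit 8, nat_lit 2, nat_lit 3], (nat_lit 272214547), (nat_lit 0)) ::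
  ([nat_lit 7, nat_lit 8, nat_lit 0, nat_lit 9, nat_lit 1, nat_lit 8, nat_lit 3, nat_lit 6], (nat_lit 272497924), (nat_lit 0)) ::
  ([nat_lit 7, nat_lit 8, nat_lit 3, nat_lit 6, nat_lit 9, nat_lit 6, nat_lit 10], (nat_lit 272574376), (nat_lit 0)) ::
  ([nat_lit 7, nat_lit 8, nat_lit 9, nat_lit 6, nat_lit 3], (nat_lit 272960246), (nat_lit 0)) ::
  ([nat_lit 7, nat_lit 8, nat_lit 2, nat_lit 9, nat_lit 8, nat_lit 1, nat_lit 5], (nat_lit 273009741), (nat_lit 0)) ::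
  ([nat_lit 7, nat_lit 8, nat_lit 6, nat_lit 1], (nat_lit 273730911), (nat_lit 0)) ::
  ([nat_lit 7, nat_lit 8, nat_lit 1, nat_lit 9, nat_lit 8, nat_lit 3], (nat_lit 274570145), (nat_lit 0)) ::
  ([nat_lit 8, nat_lit 1, nat_lit 3, nat_lit 9, nat_lit 8, nat_lit 3, nat_lit 6], (nat_lit 275195281), (nat_lit 0)) ::
  ([nat_lit 8, nat_lit 2, nat_lit 9, nat_lit 8, nat_lit 1, nat_lit 6], (nat_lit 275402558), (nat_lit 0)) ::
  ([nat_lit 8, nat_lit 0, nat_lit 7, nat_lit 6, nat_lit 3], (nat_lit 275463187), (nat_lit 0)) ::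
  ([nat_lit 7, nat_lit 8, nat_lit 3, nat_lit 9, nat_lit 6, nat_lit 3, nat_lit 8, nat_lit 2], (nat_lit 275799683), (nat_lit 0)) ::
  ([nat_lit 7, nat_lit 6, nat_lit 8, nat_lit 0, nat_lit 9, nat_lit 6, nat_lit 10], (nat_lit 275855415), (nat_lit 0)) ::
  ([nat_lit 7, nat_lit 6, nat_lit 4, nat_lit 8, nat_lit 9, nat_lit 10], (nat_lit 276117941), (nat_lit 0)) ::
  ([nat_lit 7, nat_lit 8, nat_lit 0, nat_lit 9, nat_lit 8, nat_lit 10, nat_lit 9, nat_lit 1], (nat_lit 276217419), (nat_lit 0)) ::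
  ([nat_lit 7, nat_lit 8, nat_lit 6, nat_lit 0, nat_lit 5, nat_lit 9, nat_lit 8, nat_lit 1], (nat_lit 278104210), (nat_lit 0)) ::
  ([nat_lit 7, nat_lit 6, nat_lit 5, nat_lit 8, nat_lit 1, nat_lit 9, nat_lit 8, nat_lit 3, nat_lit 9], (nat_lit 278334990), (nat_lit 0)) ::
  ([nat_lit 8, nat_lit 2, nat_lit 9, nat_lit 3, nat_lit 8, nat_lit 1, nat_lit 10], (nat_lit 278957173), (nat_lit 0)) ::
  ([nat_lit 8, nat_lit 1, nat_lit 9, nat_lit 8, nat_lit 0, nat_lit 3], (nat_lit 279299781), (nat_lit 0)) ::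
  ([nat_lit 7, nat_lit 8, nat_lit 1, nat_lit 4, nat_lit 6, nat_lit 9], (nat_lit 279498328), (nat_lit 0)) ::
  ([nat_lit 7, nat_lit 8, nat_lit 2, nat_lit 9, nat_lit 8, nat_lit 6, nat_lit 1, nat_lit 5], (nat_lit 279609038), (nat_lit 0)) ::
  ([nat_lit 7, nat_lit 8, nat_lit 9, nat_lit 3, nat_lit 6], (nat_lit 280402797), (nat_lit 0)) ::
  ([nat_lit 7, nat_lit 6, nat_lit 9, nat_lit 8, nat_lit 1, nat_lit 9], (nat_lit 280993492), (nat_lit 0)) ::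
  ([nat_lit 8, nat_lit 0, nat_lit 7, nat_lit 6, nat_lit 9, nat_lit 8, nat_lit 3], (nat_lit 281530120), (nat_lit 0)) ::
  ([nat_lit 8, nat_lit 0, nat_lit 7], (nat_lit 282135540), (nat_lit 0)) ::
  ([nat_lit 7, nat_lit 8, nat_lit 2, nat_lit 6, nat_lit 4, nat_lit 9], (nat_lit 282252291), (nat_lit 0)) ::
  ([nat_lit 7, nat_lit 8, nat_lit 6, nat_lit 0, nat_lit 9], (nat_lit 282310923), (nat_lit 0)) ::
  ([nat_lit 7, nat_lit 6, nat_lit 1, nat_lit 8, nat_lit 3, nat_lit 9, nat_lit 8, nat_lit 2], (nat_lit 283419007), (nat_lit 0)) ::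
  ([nat_lit 7, nat_lit 6, nat_lit 8, nat_lit 3, nat_lit 10, nat_lit 9], (nat_lit 283636273), (nat_lit 0)) ::
  ([nat_lit 8, nat_lit 9, nat_lit 1, nat_lit 8, nat_lit 2, nat_lit 10], (nat_lit 283691349), (nat_lit 0)) ::
  ([nat_lit 7, nat_lit 8, nat_lit 1, nat_lit 9, nat_lit 8, nat_lit 0], (nat_lit 284607144), (nat_lit 0)) ::
  ([nat_lit 7, nat_lit 8, nat_lit 6, nat_lit 0, nat_lit 5, nat_lit 9, nat_lit 8], (nat_lit 284726573), (nat_lit 0)) ::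
  ([nat_lit 8, nat_lit 9, nat_lit 1, nat_lit 6, nat_lit 7, nat_lit 8, nat_lit 10], (nat_lit 285792045), (nat_lit 0)) ::
  ([nat_lit 7, nat_lit 6, nat_lit 3, nat_lit 4], (nat_lit 287607224), (nat_lit 0)) ::
  ([nat_lit 7, nat_lit 6, nat_lit 9, nat_lit 8, nat_lit 2], (nat_lit 287800000), (nat_lit 0)) ::
  ([nat_lit 8, nat_lit 0, nat_lit 1, nat_lit 9, nat_lit 6, nat_lit 8], (nat_lit 289998508), (nat_lit 0)) ::
  ([nat_lit 7, nat_lit 8, nat_lit 9, nat_lit 10, nat_lit 3, nat_lit 6, nat_lit 5], (nat_lit 290200697), (nat_lit 0)) ::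
  ([nat_lit 7, nat_lit 8, nat_lit 0, nat_lit 6, nat_lit 9, nat_lit 8, nat_lit 3, nat_lit 9], (nat_lit 290381464), (nat_lit 0)) ::
  ([nat_lit 7, nat_lit 6, nat_lit 3, nat_lit 8, nat_lit 3, nat_lit 5], (nat_lit 292243040), (nat_lit 0)) ::
  ([nat_lit 8, nat_lit 0, nat_lit 9, nat_lit 8, nat_lit 1, nat_lit 4, nat_lit 10, nat_lit 9], (nat_lit 292911640), (nat_lit 0)) ::
  clD500
noncomputable def clD400 : List (List ℕ × ℕ × ℕ) :=
  ([nat_lit 7, nat_lit 6, nat_lit 5, nat_lit 8, nat_lit 1, nat_lit 9, nat_lit 8, nat_lit 10, nat_lit 3], (nat_lit 238776925), (nat_lit 0)) ::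
  ([nat_lit 8, nat_lit 0, nat_lit 9, nat_lit 8, nat_lit 0, nat_lit 6, nat_lit 9], (nat_lit 239026763), (nat_lit 0)) ::
  ([nat_lit 7, nat_lit 8, nat_lit 6, nat_lit 4, nat_lit 1, nat_lit 9], (nat_lit 239951628), (nat_lit 0)) ::
  ([nat_lit 8, nat_lit 0, nat_lit 7, nat_lit 6, nat_lit 4], (nat_lit 240284862), (nat_lit 0)) ::
  ([nat_lit 7, nat_lit 8, nat_lit 0, nat_lit 9, nat_lit 8, nat_lit 0, nat_lit 10], (nat_lit 241463273), (nat_lit 0)) ::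
  ([nat_lit 7, nat_lit 8, nat_lit 6, nat_lit 9, nat_lit 3, nat_lit 8], (nat_lit 242501824), (nat_lit 0)) ::
  ([nat_lit 8, nat_lit 1, nat_lit 9, nat_lit 3, nat_lit 8, nat_lit 2], (nat_lit 243512086), (nat_lit 0)) ::
  ([nat_lit 8, nat_lit 1, nat_lit 3, nat_lit 9, nat_lit 8, nat_lit 0, nat_lit 1], (nat_lit 243887502), (nat_lit 0)) ::
  ([nat_lit 7, nat_lit 6, nat_lit 8, nat_lit 0, nat_lit 2, nat_lit 9, nat_lit 10], (nat_lit 244285235), (nat_lit 0)) ::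
  ([nat_lit 7, nat_lit 8, nat_lit 1, nat_lit 3, nat_lit 8], (nat_lit 245007101), (nat_lit 0)) ::
  ([nat_lit 7, nat_lit 6, nat_lit 5, nat_lit 8, nat_lit 3, nat_lit 9, nat_lit 8, nat_lit 1], (nat_lit 245374574), (nat_lit 0)) ::
  ([nat_lit 7, nat_lit 8, nat_lit 0, nat_lit 2, nat_lit 9, nat_lit 8], (nat_lit 245490390), (nat_lit 0)) ::
  ([nat_lit 7, nat_lit 6, nat_lit 8, nat_lit 2, nat_lit 9, nat_lit 8, nat_lit 3, nat_lit 5], (nat_lit 246654611), (nat_lit 0)) ::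
  ([nat_lit 7, nat_lit 8, nat_lit 1, nat_lit 9, nat_lit 6, nat_lit 2], (nat_lit 246767642), (nat_lit 0)) ::
  ([nat_lit 7, nat_lit 8, nat_lit 0, nat_lit 6, nat_lit 7, nat_lit 9, nat_lit 10], (nat_lit 247458013), (nat_lit 0)) ::
  ([nat_lit 7, nat_lit 6, nat_lit 0, nat_lit 1, nat_lit 8, nat_lit 9, nat_lit 3], (nat_lit 248166625), (nat_lit 0)) ::
  ([nat_lit 7, nat_lit 6, nat_lit 4, nat_lit 8, nat_lit 9, nat_lit 1, nat_lit 8, nat_lit 3], (nat_lit 248724848), (nat_lit 0)) ::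
  ([nat_lit 8, nat_lit 0, nat_lit 1, nat_lit 9, nat_lit 8, nat_lit 2, nat_lit 10], (nat_lit 250204186), (nat_lit 0)) ::
  ([nat_lit 7, nat_lit 6, nat_lit 2, nat_lit 6], (nat_lit 250388732), (nat_lit 0)) ::
  ([nat_lit 8, nat_lit 0, nat_lit 9, nat_lit 8, nat_lit 0, nat_lit 1], (nat_lit 252183086), (nat_lit 0)) ::
  ([nat_lit 8, nat_lit 2, nat_lit 5], (nat_lit 252256919), (nat_lit 0)) ::
  ([nat_lit 8, nat_lit 0, nat_lit 9, nat_lit 8, nat_lit 1, nat_lit 4], (nat_lit 252548842), (nat_lit 0)) ::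
  ([nat_lit 7, nat_lit 8, nat_lit 3, nat_lit 10, nat_lit 9, nat_lit 6, nat_lit 8, nat_lit 1], (nat_lit 252607961), (nat_lit 0)) ::
  ([nat_lit 7, nat_lit 6, nat_lit 8, nat_lit 1, nat_lit 9, nat_lit 8, nat_lit 0, nat_lit 4], (nat_lit 253075050), (nat_lit 0)) ::
  ([nat_lit 8, nat_lit 3, nat_lit 9, nat_lit 8, nat_lit 1, nat_lit 2], (nat_lit 254115214), (nat_lit 0)) ::
  ([nat_lit 7, nat_lit 8, nat_lit 1, nat_lit 9, nat_lit 6], (nat_lit 254280177), (nat_lit 0)) ::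
  ([nat_lit 7, nat_lit 8, nat_lit 6, nat_lit 0, nat_lit 9, nat_lit 8, nat_lit 2, nat_lit 4], (nat_lit 254796317), (nat_lit 0)) ::
  ([nat_lit 7, nat_lit 8, nat_lit 3, nat_lit 10, nat_lit 9, nat_lit 6], (nat_lit 255596341), (nat_lit 0)) ::
  ([nat_lit 8, nat_lit 1, nat_lit 3, nat_lit 9, nat_lit 8, nat_lit 3, nat_lit 10], (nat_lit 255747519), (nat_lit 0)) ::
  ([nat_lit 7, nat_lit 6, nat_lit 8, nat_lit 0, nat_lit 1, nat_lit 5], (nat_lit 256042444), (nat_lit 0)) ::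
  ([nat_lit 7, nat_lit 6, nat_lit 8, nat_lit 9, nat_lit 6, nat_lit 3, nat_lit 8, nat_lit 1], (nat_lit 256593149), (nat_lit 0)) ::
  ([nat_lit 7, nat_lit 8, nat_lit 1, nat_lit 9, nat_lit 6, nat_lit 1, nat_lit 8, nat_lit 0], (nat_lit 257196069), (nat_lit 0)) ::
  ([nat_lit 8, nat_lit 2, nat_lit 5, nat_lit 9, nat_lit 8, nat_lit 10], (nat_lit 257480977), (nat_lit 0)) ::
  ([nat_lit 7, nat_lit 8, nat_lit 6, nat_lit 5, nat_lit 0, nat_lit 9], (nat_lit 257769197), (nat_lit 0)) ::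
  ([nat_lit 7, nat_lit 8, nat_lit 3, nat_lit 6, nat_lit 9, nat_lit 6, nat_lit 8], (nat_lit 259695300), (nat_lit 0)) ::
  ([nat_lit 7, nat_lit 6, nat_lit 8], (nat_lit 259911078), (nat_lit 0)) ::
  ([nat_lit 7, nat_lit 6, nat_lit 8, nat_lit 1, nat_lit 9, nat_lit 7, nat_lit 8, nat_lit 0], (nat_lit 260529004), (nat_lit 0)) ::
  ([nat_lit 7, nat_lit 6, nat_lit 8, nat_lit 9, nat_lit 6, nat_lit 3, nat_lit 8, nat_lit 2], (nat_lit 260930900), (nat_lit 0)) ::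
  ([nat_lit 8, nat_lit 1, nat_lit 3, nat_lit 9, nat_lit 8, nat_lit 2, nat_lit 5], (nat_lit 261229474), (nat_lit 0)) ::
  ([nat_lit 8, nat_lit 2, nat_lit 9, nat_lit 8, nat_lit 10], (nat_lit 261972465), (nat_lit 0)) ::
  ([nat_lit 8, nat_lit 9, nat_lit 10, nat_lit 3, nat_lit 8, nat_lit 2, nat_lit 9], (nat_lit 262457468), (nat_lit 0)) ::
  ([nat_lit 7, nat_lit 8, nat_lit 3, nat_lit 10], (nat_lit 262633782), (nat_lit 0)) ::
  ([nat_lit 8, nat_lit 0, nat_lit 9, nat_lit 8, nat_lit 6], (nat_lit 262640328), (nat_lit 0)) ::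
  ([nat_lit 8, nat_lit 0, nat_lit 2, nat_lit 9, nat_lit 8, nat_lit 10], (nat_lit 263046025), (nat_lit 0)) ::
  ([nat_lit 8, nat_lit 0, nat_lit 9, nat_lit 1, nat_lit 8, nat_lit 0, nat_lit 1], (nat_lit 264177915), (nat_lit 0)) ::
  ([nat_lit 7, nat_lit 6, nat_lit 8, nat_lit 0, nat_lit 3], (nat_lit 264203399), (nat_lit 0)) ::
  ([nat_lit 7, nat_lit 8, nat_lit 2, nat_lit 6, nat_lit 4], (nat_lit 264606933), (nat_lit 0)) ::
  ([nat_lit 7, nat_lit 6, nat_lit 8, nat_lit 2, nat_lit 9, nat_lit 8, nat_lit 1, nat_lit 5], (nat_lit 264667702), (nat_lit 0)) ::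
  ([nat_lit 7, nat_lit 6, nat_lit 0, nat_lit 8, nat_lit 0, nat_lit 4], (nat_lit 265741229), (nat_lit 0)) ::
  ([nat_lit 7, nat_lit 8, nat_lit 2, nat_lit 6, nat_lit 4, nat_lit 9, nat_lit 8, nat_lit 2], (nat_lit 266910304), (nat_lit 0)) ::
  clD450
noncomputable def clD350 : List (List ℕ × ℕ × ℕ) :=
  ([nat_lit 7, nat_lit 6, nat_lit 4, nat_lit 8, nat_lit 1], (nat_lit 208758665), (nat_lit 0)) ::
  ([nat_lit 8, nat_lit 1, nat_lit 9, nat_lit 8, nat_lit 10, nat_lit 0, nat_lit 6], (nat_lit 208960231), (nat_lit 0)) ::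
  ([nat_lit 7, nat_lit 8, nat_lit 0, nat_lit 1, nat_lit 9, nat_lit 8, nat_lit 1, nat_lit 10], (nat_lit 209080313), (nat_lit 0)) ::
  ([nat_lit 8, nat_lit 3, nat_lit 9, nat_lit 8, nat_lit 10, nat_lit 3, nat_lit 9], (nat_lit 209086758), (nat_lit 0)) ::
  ([nat_lit 7, nat_lit 6, nat_lit 9, nat_lit 8, nat_lit 1, nat_lit 9, nat_lit 8, nat_lit 3], (nat_lit 210179082), (nat_lit 0)) ::
  ([nat_lit 7, nat_lit 8, nat_lit 3, nat_lit 9, nat_lit 8, nat_lit 6], (nat_lit 211302690), (nat_lit 0)) ::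
  ([nat_lit 7, nat_lit 8, nat_lit 1, nat_lit 9, nat_lit 6, nat_lit 0], (nat_lit 211542860), (nat_lit 0)) ::
  ([nat_lit 7, nat_lit 8, nat_lit 3, nat_lit 10, nat_lit 9, nat_lit 8], (nat_lit 211709087), (nat_lit 0)) ::
  ([nat_lit 8, nat_lit 1, nat_lit 6, nat_lit 9, nat_lit 8, nat_lit 1], (nat_lit 212703038), (nat_lit 0)) ::
  ([nat_lit 7, nat_lit 6, nat_lit 5, nat_lit 8, nat_lit 9, nat_lit 3, nat_lit 10], (nat_lit 212764350), (nat_lit 0)) ::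
  ([nat_lit 8, nat_lit 1, nat_lit 9, nat_lit 7, nat_lit 8, nat_lit 0], (nat_lit 212917365), (nat_lit 0)) ::
  ([nat_lit 7, nat_lit 8, nat_lit 3, nat_lit 6, nat_lit 9, nat_lit 8, nat_lit 1], (nat_lit 213094650), (nat_lit 0)) ::
  ([nat_lit 8, nat_lit 9, nat_lit 10, nat_lit 3, nat_lit 8, nat_lit 2], (nat_lit 214791140), (nat_lit 0)) ::
  ([nat_lit 8, nat_lit 2, nat_lit 3, nat_lit 9, nat_lit 8, nat_lit 0], (nat_lit 215052862), (nat_lit 0)) ::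
  ([nat_lit 7, nat_lit 6, nat_lit 5, nat_lit 8, nat_lit 1, nat_lit 9, nat_lit 8, nat_lit 2], (nat_lit 218250561), (nat_lit 0)) ::
  ([nat_lit 7, nat_lit 8, nat_lit 9, nat_lit 3, nat_lit 8, nat_lit 0, nat_lit 6, nat_lit 7], (nat_lit 218953561), (nat_lit 0)) ::
  ([nat_lit 7, nat_lit 6, nat_lit 5, nat_lit 8, nat_lit 1, nat_lit 9, nat_lit 10], (nat_lit 219661504), (nat_lit 0)) ::
  ([nat_lit 7, nat_lit 6, nat_lit 0, nat_lit 1, nat_lit 8, nat_lit 2], (nat_lit 220081139), (nat_lit 0)) ::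
  ([nat_lit 7, nat_lit 6, nat_lit 8, nat_lit 9, nat_lit 3, nat_lit 8, nat_lit 0, nat_lit 6, nat_lit 4], (nat_lit 220404422), (nat_lit 0)) ::
  ([nat_lit 7, nat_lit 6, nat_lit 8, nat_lit 9, nat_lit 3, nat_lit 10], (nat_lit 220966837), (nat_lit 0)) ::
  ([nat_lit 7, nat_lit 8, nat_lit 9, nat_lit 3, nat_lit 8, nat_lit 0, nat_lit 6], (nat_lit 221488083), (nat_lit 0)) ::
  ([nat_lit 8, nat_lit 0, nat_lit 1, nat_lit 9, nat_lit 8, nat_lit 1, nat_lit 9], (nat_lit 224439733), (nat_lit 0)) ::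
  ([nat_lit 7, nat_lit 6, nat_lit 3, nat_lit 8, nat_lit 9, nat_lit 1, nat_lit 8, nat_lit 0], (nat_lit 224508795), (nat_lit 0)) ::
  ([nat_lit 8, nat_lit 0, nat_lit 9, nat_lit 1, nat_lit 8, nat_lit 0, nat_lit 7], (nat_lit 224714121), (nat_lit 0)) ::
  ([nat_lit 7, nat_lit 8, nat_lit 9, nat_lit 1], (nat_lit 225010621), (nat_lit 0)) ::
  ([nat_lit 7, nat_lit 8, nat_lit 3, nat_lit 9, nat_lit 6, nat_lit 10], (nat_lit 225203809), (nat_lit 0)) ::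
  ([nat_lit 8, nat_lit 0, nat_lit 9, nat_lit 8, nat_lit 1, nat_lit 10, nat_lit 9], (nat_lit 225225379), (nat_lit 0)) ::
  ([nat_lit 7, nat_lit 8, nat_lit 2, nat_lit 5, nat_lit 9, nat_lit 8, nat_lit 2], (nat_lit 225225907), (nat_lit 0)) ::
  ([nat_lit 7, nat_lit 6, nat_lit 8, nat_lit 0, nat_lit 8], (nat_lit 226531037), (nat_lit 0)) ::
  ([nat_lit 7, nat_lit 8, nat_lit 0, nat_lit 6, nat_lit 3, nat_lit 9, nat_lit 8, nat_lit 2], (nat_lit 227229771), (nat_lit 0)) ::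
  ([nat_lit 8, nat_lit 0, nat_lit 9, nat_lit 8, nat_lit 6, nat_lit 2, nat_lit 10], (nat_lit 227432176), (nat_lit 0)) ::
  ([nat_lit 7, nat_lit 6, nat_lit 2, nat_lit 8, nat_lit 0, nat_lit 9], (nat_lit 227542101), (nat_lit 0)) ::
  ([nat_lit 7, nat_lit 6, nat_lit 4, nat_lit 8, nat_lit 1, nat_lit 9, nat_lit 3], (nat_lit 227711740), (nat_lit 0)) ::
  ([nat_lit 7, nat_lit 6, nat_lit 8, nat_lit 1, nat_lit 9, nat_lit 7, nat_lit 10], (nat_lit 228296237), (nat_lit 0)) ::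
  ([nat_lit 7, nat_lit 8, nat_lit 9, nat_lit 1, nat_lit 6, nat_lit 8], (nat_lit 230183897), (nat_lit 0)) ::
  ([nat_lit 8, nat_lit 0, nat_lit 1, nat_lit 9, nat_lit 8, nat_lit 1, nat_lit 3], (nat_lit 230511052), (nat_lit 0)) ::
  ([nat_lit 8, nat_lit 1, nat_lit 9, nat_lit 7, nat_lit 8, nat_lit 6, nat_lit 0], (nat_lit 230853283), (nat_lit 0)) ::
  ([nat_lit 7, nat_lit 8, nat_lit 6, nat_lit 0, nat_lit 9, nat_lit 10, nat_lit 3, nat_lit 8], (nat_lit 232306384), (nat_lit 0)) ::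
  ([nat_lit 7, nat_lit 8, nat_lit 9, nat_lit 3, nat_lit 8, nat_lit 10], (nat_lit 232950595), (nat_lit 0)) ::
  ([nat_lit 7, nat_lit 6, nat_lit 9, nat_lit 8, nat_lit 1, nat_lit 9, nat_lit 8], (nat_lit 233897734), (nat_lit 0)) ::
  ([nat_lit 8, nat_lit 9, nat_lit 3, nat_lit 8, nat_lit 1, nat_lit 10, nat_lit 9], (nat_lit 234499299), (nat_lit 0)) ::
  ([nat_lit 7, nat_lit 6, nat_lit 4, nat_lit 8, nat_lit 0, nat_lit 9, nat_lit 10], (nat_lit 234959070), (nat_lit 0)) ::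
  ([nat_lit 8, nat_lit 1, nat_lit 6, nat_lit 9, nat_lit 8], (nat_lit 235482438), (nat_lit 0)) ::
  ([nat_lit 7, nat_lit 8, nat_lit 9], (nat_lit 235852247), (nat_lit 0)) ::
  ([nat_lit 8, nat_lit 1, nat_lit 6, nat_lit 7, nat_lit 9, nat_lit 10], (nat_lit 236304720), (nat_lit 0)) ::
  ([nat_lit 8, nat_lit 0, nat_lit 9, nat_lit 8, nat_lit 0, nat_lit 6], (nat_lit 236535105), (nat_lit 0)) ::
  ([nat_lit 7, nat_lit 8, nat_lit 3, nat_lit 9, nat_lit 8, nat_lit 1, nat_lit 2], (nat_lit 237193245), (nat_lit 0)) ::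
  ([nat_lit 7, nat_lit 8, nat_lit 6, nat_lit 9, nat_lit 10, nat_lit 3, nat_lit 8], (nat_lit 237386030), (nat_lit 0)) ::
  ([nat_lit 7, nat_lit 8, nat_lit 2, nat_lit 6, nat_lit 0, nat_lit 7], (nat_lit 237656677), (nat_lit 0)) ::
  ([nat_lit 7, nat_lit 6, nat_lit 9, nat_lit 8, nat_lit 3], (nat_lit 237925626), (nat_lit 0)) ::
  clD400
noncomputable def clD300 : List (List ℕ × ℕ × ℕ) :=
  ([nat_lit 7, nat_lit 8, nat_lit 0, nat_lit 9, nat_lit 1, nat_lit 8, nat_lit 1], (nat_lit 178264897), (nat_lit 0)) ::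
  ([nat_lit 7, nat_lit 8, nat_lit 6, nat_lit 9, nat_lit 3, nat_lit 8, nat_lit 0, nat_lit 6], (nat_lit 178819980), (nat_lit 0)) ::
  ([nat_lit 7, nat_lit 6, nat_lit 8, nat_lit 3], (nat_lit 178862473), (nat_lit 0)) ::
  ([nat_lit 7, nat_lit 6, nat_lit 2, nat_lit 8, nat_lit 3, nat_lit 9, nat_lit 8, nat_lit 2], (nat_lit 179469509), (nat_lit 0)) ::
  ([nat_lit 8, nat_lit 0, nat_lit 1, nat_lit 9], (nat_lit 179876145), (nat_lit 0)) ::
  ([nat_lit 7, nat_lit 8, nat_lit 2, nat_lit 9, nat_lit 8, nat_lit 0, nat_lit 8], (nat_lit 180509336), (nat_lit 0)) ::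
  ([nat_lit 7, nat_lit 6, nat_lit 4, nat_lit 8, nat_lit 0, nat_lit 9, nat_lit 10, nat_lit 3], (nat_lit 180910525), (nat_lit 0)) ::
  ([nat_lit 8, nat_lit 2, nat_lit 9, nat_lit 3, nat_lit 8, nat_lit 10, nat_lit 9], (nat_lit 181425935), (nat_lit 0)) ::
  ([nat_lit 8, nat_lit 2, nat_lit 9, nat_lit 3, nat_lit 8, nat_lit 0], (nat_lit 181723023), (nat_lit 0)) ::
  ([nat_lit 8, nat_lit 1, nat_lit 9, nat_lit 7, nat_lit 6, nat_lit 8, nat_lit 3], (nat_lit 181926116), (nat_lit 0)) ::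
  ([nat_lit 7, nat_lit 6, nat_lit 8, nat_lit 9, nat_lit 6, nat_lit 2, nat_lit 8, nat_lit 1], (nat_lit 182602161), (nat_lit 0)) ::
  ([nat_lit 7, nat_lit 8, nat_lit 3, nat_lit 10, nat_lit 9, nat_lit 6, nat_lit 8, nat_lit 0], (nat_lit 182801767), (nat_lit 0)) ::
  ([nat_lit 7, nat_lit 6, nat_lit 2, nat_lit 8, nat_lit 9, nat_lit 1], (nat_lit 183044152), (nat_lit 0)) ::
  ([nat_lit 7, nat_lit 8, nat_lit 9, nat_lit 3], (nat_lit 186315831), (nat_lit 0)) ::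
  ([nat_lit 8, nat_lit 1, nat_lit 6, nat_lit 7, nat_lit 9, nat_lit 8, nat_lit 6, nat_lit 0], (nat_lit 186677216), (nat_lit 0)) ::
  ([nat_lit 7, nat_lit 6, nat_lit 4, nat_lit 8, nat_lit 9, nat_lit 3], (nat_lit 187766354), (nat_lit 0)) ::
  ([nat_lit 7, nat_lit 8, nat_lit 2, nat_lit 6, nat_lit 9, nat_lit 8, nat_lit 10], (nat_lit 188987699), (nat_lit 0)) ::
  ([nat_lit 8, nat_lit 1, nat_lit 9, nat_lit 8, nat_lit 10, nat_lit 0, nat_lit 8], (nat_lit 189848329), (nat_lit 0)) ::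
  ([nat_lit 7, nat_lit 8, nat_lit 0, nat_lit 9, nat_lit 1, nat_lit 8, nat_lit 2], (nat_lit 190330148), (nat_lit 0)) ::
  ([nat_lit 7, nat_lit 8, nat_lit 3, nat_lit 6, nat_lit 10], (nat_lit 190678938), (nat_lit 0)) ::
  ([nat_lit 8, nat_lit 9, nat_lit 1, nat_lit 6, nat_lit 8, nat_lit 0, nat_lit 7], (nat_lit 191655197), (nat_lit 0)) ::
  ([nat_lit 7, nat_lit 8, nat_lit 2, nat_lit 9, nat_lit 8, nat_lit 10, nat_lit 9, nat_lit 6], (nat_lit 192082386), (nat_lit 0)) ::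
  ([nat_lit 7, nat_lit 6, nat_lit 1, nat_lit 8, nat_lit 1, nat_lit 9], (nat_lit 192197333), (nat_lit 0)) ::
  ([nat_lit 7, nat_lit 8, nat_lit 1, nat_lit 9, nat_lit 6, nat_lit 1, nat_lit 10], (nat_lit 192544410), (nat_lit 0)) ::
  ([nat_lit 7, nat_lit 8, nat_lit 0, nat_lit 1, nat_lit 9, nat_lit 8, nat_lit 1], (nat_lit 193158575), (nat_lit 0)) ::
  ([nat_lit 8, nat_lit 9, nat_lit 10, nat_lit 3, nat_lit 8, nat_lit 1, nat_lit 6], (nat_lit 193699943), (nat_lit 0)) ::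
  ([nat_lit 7, nat_lit 6, nat_lit 8, nat_lit 0, nat_lit 9, nat_lit 6], (nat_lit 194135720), (nat_lit 0)) ::
  ([nat_lit 8, nat_lit 1], (nat_lit 194272365), (nat_lit 0)) ::
  ([nat_lit 7, nat_lit 8, nat_lit 3, nat_lit 9, nat_lit 8, nat_lit 6, nat_lit 0], (nat_lit 194737712), (nat_lit 0)) ::
  ([nat_lit 7, nat_lit 8, nat_lit 6, nat_lit 1, nat_lit 3, nat_lit 8], (nat_lit 195525251), (nat_lit 0)) ::
  ([nat_lit 7, nat_lit 8, nat_lit 6, nat_lit 4, nat_lit 2], (nat_lit 198080616), (nat_lit 0)) ::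
  ([nat_lit 8, nat_lit 0, nat_lit 2, nat_lit 9, nat_lit 8, nat_lit 3, nat_lit 6], (nat_lit 200168426), (nat_lit 0)) ::
  ([nat_lit 7, nat_lit 8, nat_lit 1, nat_lit 9, nat_lit 8, nat_lit 6], (nat_lit 200494362), (nat_lit 0)) ::
  ([nat_lit 7, nat_lit 8, nat_lit 6, nat_lit 1, nat_lit 3, nat_lit 8, nat_lit 9], (nat_lit 201460485), (nat_lit 0)) ::
  ([nat_lit 7, nat_lit 6, nat_lit 8, nat_lit 1, nat_lit 9, nat_lit 6, nat_lit 8, nat_lit 3], (nat_lit 202056609), (nat_lit 0)) ::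
  ([nat_lit 8, nat_lit 9, nat_lit 10, nat_lit 3, nat_lit 8, nat_lit 1], (nat_lit 202343887), (nat_lit 0)) ::
  ([nat_lit 7, nat_lit 6, nat_lit 4, nat_lit 8, nat_lit 0], (nat_lit 202353630), (nat_lit 0)) ::
  ([nat_lit 7, nat_lit 8, nat_lit 3, nat_lit 9, nat_lit 6, nat_lit 8, nat_lit 1], (nat_lit 202874754), (nat_lit 0)) ::
  ([nat_lit 7, nat_lit 8, nat_lit 6, nat_lit 1, nat_lit 9, nat_lit 3, nat_lit 8, nat_lit 2], (nat_lit 202951623), (nat_lit 0)) ::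
  ([nat_lit 7, nat_lit 6, nat_lit 8, nat_lit 0, nat_lit 9, nat_lit 6, nat_lit 8, nat_lit 2], (nat_lit 203156404), (nat_lit 0)) ::
  ([nat_lit 7, nat_lit 8, nat_lit 6, nat_lit 3, nat_lit 9, nat_lit 8], (nat_lit 203306617), (nat_lit 0)) ::
  ([nat_lit 7, nat_lit 8, nat_lit 2, nat_lit 9, nat_lit 6], (nat_lit 203842982), (nat_lit 0)) ::
  ([nat_lit 7, nat_lit 8, nat_lit 2, nat_lit 9, nat_lit 6, nat_lit 8], (nat_lit 204034358), (nat_lit 0)) ::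
  ([nat_lit 7, nat_lit 8, nat_lit 1, nat_lit 4, nat_lit 6, nat_lit 9, nat_lit 8], (nat_lit 204709257), (nat_lit 0)) ::
  ([nat_lit 8, nat_lit 1, nat_lit 9, nat_lit 7, nat_lit 6, nat_lit 8, nat_lit 10], (nat_lit 205276283), (nat_lit 0)) ::
  ([nat_lit 7, nat_lit 8], (nat_lit 205636629), (nat_lit 0)) ::
  ([nat_lit 7, nat_lit 8, nat_lit 2, nat_lit 9, nat_lit 8, nat_lit 6, nat_lit 0, nat_lit 3, nat_lit 6], (nat_lit 206028933), (nat_lit 0)) ::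
  ([nat_lit 8, nat_lit 3, nat_lit 9, nat_lit 8, nat_lit 2, nat_lit 10], (nat_lit 207032679), (nat_lit 0)) ::
  ([nat_lit 7, nat_lit 6, nat_lit 4, nat_lit 8, nat_lit 0, nat_lit 9, nat_lit 8, nat_lit 2], (nat_lit 207858613), (nat_lit 0)) ::
  ([nat_lit 7, nat_lit 6, nat_lit 8, nat_lit 0, nat_lit 9, nat_lit 10, nat_lit 3, nat_lit 8], (nat_lit 208077621), (nat_lit 0)) ::
  clD350
noncomputable def clD250 : List (List ℕ × ℕ × ℕ) :=
  ([nat_lit 7, nat_lit 6, nat_lit 9, nat_lit 8, nat_lit 1, nat_lit 9, nat_lit 8, nat_lit 1], (nat_lit 149058458), (nat_lit 0)) ::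
  ([nat_lit 7, nat_lit 8, nat_lit 2, nat_lit 9, nat_lit 3, nat_lit 8, nat_lit 1, nat_lit 6], (nat_lit 150078181), (nat_lit 0)) ::
  ([nat_lit 8, nat_lit 1, nat_lit 6, nat_lit 9, nat_lit 10], (nat_lit 151386910), (nat_lit 0)) ::
  ([nat_lit 8, nat_lit 0, nat_lit 2, nat_lit 9, nat_lit 8, nat_lit 3], (nat_lit 152868560), (nat_lit 0)) ::
  ([nat_lit 8, nat_lit 1, nat_lit 9, nat_lit 7, nat_lit 6, nat_lit 5, nat_lit 8, nat_lit 1], (nat_lit 152903772), (nat_lit 0)) ::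
  ([nat_lit 8, nat_lit 1, nat_lit 9, nat_lit 8, nat_lit 0, nat_lit 10, nat_lit 3, nat_lit 9], (nat_lit 153452776), (nat_lit 0)) ::
  ([nat_lit 8, nat_lit 1, nat_lit 9, nat_lit 7, nat_lit 8, nat_lit 6, nat_lit 3], (nat_lit 153492345), (nat_lit 0)) ::
  ([nat_lit 7, nat_lit 8, nat_lit 3, nat_lit 6], (nat_lit 154349358), (nat_lit 0)) ::
  ([nat_lit 7, nat_lit 6, nat_lit 8, nat_lit 9, nat_lit 6, nat_lit 1, nat_lit 8], (nat_lit 155625116), (nat_lit 0)) ::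
  ([nat_lit 8, nat_lit 1, nat_lit 3, nat_lit 9, nat_lit 8], (nat_lit 155822994), (nat_lit 0)) ::
  ([nat_lit 8, nat_lit 0, nat_lit 1, nat_lit 9, nat_lit 6, nat_lit 8, nat_lit 1, nat_lit 3], (nat_lit 156851417), (nat_lit 0)) ::
  ([nat_lit 7, nat_lit 6, nat_lit 1, nat_lit 8, nat_lit 9, nat_lit 10], (nat_lit 157807498), (nat_lit 0)) ::
  ([nat_lit 7, nat_lit 6, nat_lit 8, nat_lit 1, nat_lit 9, nat_lit 3], (nat_lit 158098117), (nat_lit 0)) ::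
  ([nat_lit 7, nat_lit 6, nat_lit 8, nat_lit 0, nat_lit 9, nat_lit 8, nat_lit 0, nat_lit 7], (nat_lit 158168839), (nat_lit 0)) ::
  ([nat_lit 7, nat_lit 8, nat_lit 6, nat_lit 0, nat_lit 6], (nat_lit 158231025), (nat_lit 0)) ::
  ([nat_lit 8, nat_lit 0, nat_lit 2, nat_lit 9, nat_lit 8, nat_lit 2, nat_lit 5], (nat_lit 159333654), (nat_lit 0)) ::
  ([nat_lit 7, nat_lit 6, nat_lit 2, nat_lit 8], (nat_lit 159797776), (nat_lit 0)) ::
  ([nat_lit 7, nat_lit 6, nat_lit 3, nat_lit 8, nat_lit 9, nat_lit 1, nat_lit 8, nat_lit 10], (nat_lit 159896248), (nat_lit 0)) ::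
  ([nat_lit 7, nat_lit 8, nat_lit 3, nat_lit 9, nat_lit 8, nat_lit 3], (nat_lit 159940528), (nat_lit 0)) ::
  ([nat_lit 7, nat_lit 8, nat_lit 6, nat_lit 5, nat_lit 2, nat_lit 9], (nat_lit 159981561), (nat_lit 0)) ::
  ([nat_lit 7, nat_lit 8, nat_lit 2, nat_lit 9, nat_lit 3, nat_lit 8, nat_lit 0], (nat_lit 160026218), (nat_lit 0)) ::
  ([nat_lit 7, nat_lit 8, nat_lit 2, nat_lit 9, nat_lit 3, nat_lit 6, nat_lit 8, nat_lit 2], (nat_lit 160425626), (nat_lit 0)) ::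
  ([nat_lit 8, nat_lit 2, nat_lit 9, nat_lit 10, nat_lit 3], (nat_lit 160770346), (nat_lit 0)) ::
  ([nat_lit 7, nat_lit 8, nat_lit 0, nat_lit 9, nat_lit 8, nat_lit 0, nat_lit 1], (nat_lit 161390977), (nat_lit 0)) ::
  ([nat_lit 7, nat_lit 6, nat_lit 3, nat_lit 8, nat_lit 0, nat_lit 2], (nat_lit 162084713), (nat_lit 0)) ::
  ([nat_lit 8, nat_lit 0, nat_lit 9, nat_lit 8, nat_lit 6, nat_lit 0], (nat_lit 162415306), (nat_lit 0)) ::
  ([nat_lit 7, nat_lit 6, nat_lit 3, nat_lit 8, nat_lit 3, nat_lit 9, nat_lit 10], (nat_lit 162521944), (nat_lit 0)) ::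
  ([nat_lit 7, nat_lit 6, nat_lit 8, nat_lit 1, nat_lit 9, nat_lit 3, nat_lit 8], (nat_lit 163314878), (nat_lit 0)) ::
  ([nat_lit 7, nat_lit 8, nat_lit 9, nat_lit 10, nat_lit 3, nat_lit 6, nat_lit 8], (nat_lit 163613631), (nat_lit 0)) ::
  ([nat_lit 7, nat_lit 6, nat_lit 0, nat_lit 8, nat_lit 1, nat_lit 9], (nat_lit 164812537), (nat_lit 0)) ::
  ([nat_lit 7, nat_lit 8, nat_lit 2, nat_lit 9, nat_lit 10, nat_lit 3, nat_lit 8], (nat_lit 165173939), (nat_lit 0)) ::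
  ([nat_lit 8, nat_lit 1, nat_lit 9, nat_lit 8, nat_lit 3, nat_lit 6, nat_lit 7], (nat_lit 166254966), (nat_lit 0)) ::
  ([nat_lit 7, nat_lit 6, nat_lit 8, nat_lit 2, nat_lit 9, nat_lit 10], (nat_lit 166471569), (nat_lit 0)) ::
  ([nat_lit 7, nat_lit 6, nat_lit 4, nat_lit 8, nat_lit 3, nat_lit 9, nat_lit 8, nat_lit 2], (nat_lit 168058719), (nat_lit 0)) ::
  ([nat_lit 7, nat_lit 6, nat_lit 3, nat_lit 8, nat_lit 3], (nat_lit 168642954), (nat_lit 0)) ::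
  ([nat_lit 7, nat_lit 8, nat_lit 2, nat_lit 6, nat_lit 4, nat_lit 9, nat_lit 10], (nat_lit 169142818), (nat_lit 0)) ::
  ([nat_lit 7, nat_lit 8, nat_lit 9, nat_lit 6, nat_lit 1, nat_lit 8, nat_lit 0], (nat_lit 169336678), (nat_lit 0)) ::
  ([nat_lit 8, nat_lit 0, nat_lit 2, nat_lit 9, nat_lit 8, nat_lit 10, nat_lit 3], (nat_lit 169505740), (nat_lit 0)) ::
  ([nat_lit 8, nat_lit 0, nat_lit 9, nat_lit 8, nat_lit 0, nat_lit 6, nat_lit 5, nat_lit 7], (nat_lit 169634017), (nat_lit 0)) ::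
  ([nat_lit 7, nat_lit 6, nat_lit 2, nat_lit 8, nat_lit 9, nat_lit 10], (nat_lit 169638889), (nat_lit 0)) ::
  ([nat_lit 8, nat_lit 3, nat_lit 9, nat_lit 6, nat_lit 8], (nat_lit 172048108), (nat_lit 0)) ::
  ([nat_lit 7, nat_lit 8, nat_lit 6, nat_lit 9, nat_lit 3], (nat_lit 172141836), (nat_lit 0)) ::
  ([nat_lit 8, nat_lit 1, nat_lit 6, nat_lit 9, nat_lit 8, nat_lit 10, nat_lit 0], (nat_lit 172498464), (nat_lit 0)) ::
  ([nat_lit 7, nat_lit 8, nat_lit 3, nat_lit 9, nat_lit 8, nat_lit 1, nat_lit 4, nat_lit 6], (nat_lit 172970643), (nat_lit 0)) ::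
  ([nat_lit 7, nat_lit 6, nat_lit 8, nat_lit 1, nat_lit 9, nat_lit 7, nat_lit 8], (nat_lit 174299146), (nat_lit 0)) ::
  ([nat_lit 7, nat_lit 8, nat_lit 9, nat_lit 6, nat_lit 0, nat_lit 8, nat_lit 10, nat_lit 3], (nat_lit 175411546), (nat_lit 0)) ::
  ([nat_lit 7, nat_lit 8, nat_lit 9, nat_lit 6, nat_lit 1, nat_lit 8, nat_lit 0, nat_lit 8], (nat_lit 175691732), (nat_lit 0)) ::
  ([nat_lit 7, nat_lit 6, nat_lit 9, nat_lit 8, nat_lit 3, nat_lit 9, nat_lit 10], (nat_lit 175907776), (nat_lit 0)) ::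
  ([nat_lit 7, nat_lit 6, nat_lit 0, nat_lit 8, nat_lit 0, nat_lit 9, nat_lit 7], (nat_lit 177250246), (nat_lit 0)) ::
  ([nat_lit 7, nat_lit 8, nat_lit 9, nat_lit 6, nat_lit 1, nat_lit 8, nat_lit 3, nat_lit 6], (nat_lit 177529647), (nat_lit 0)) ::
  clD300
noncomputable def clD200 : List (List ℕ × ℕ × ℕ) :=
  ([nat_lit 8, nat_lit 2, nat_lit 9, nat_lit 8, nat_lit 0, nat_lit 3], (nat_lit 120980188), (nat_lit 0)) ::
  ([nat_lit 7, nat_lit 6, nat_lit 3, nat_lit 8, nat_lit 0, nat_lit 9, nat_lit 8], (nat_lit 121109247), (nat_lit 0)) ::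
  ([nat_lit 7, nat_lit 6, nat_lit 9], (nat_lit 122052844), (nat_lit 0)) ::
  ([nat_lit 7, nat_lit 8, nat_lit 6, nat_lit 5, nat_lit 9, nat_lit 1, nat_lit 10], (nat_lit 122692714), (nat_lit 0)) ::
  ([nat_lit 8, nat_lit 1, nat_lit 3, nat_lit 9, nat_lit 8, nat_lit 3], (nat_lit 122913802), (nat_lit 0)) ::
  ([nat_lit 8, nat_lit 0, nat_lit 9, nat_lit 8, nat_lit 6, nat_lit 1, nat_lit 10], (nat_lit 124481034), (nat_lit 0)) ::
  ([nat_lit 7, nat_lit 8, nat_lit 3, nat_lit 9, nat_lit 8], (nat_lit 124614231), (nat_lit 0)) ::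
  ([nat_lit 8, nat_lit 3, nat_lit 9, nat_lit 8, nat_lit 2], (nat_lit 125739057), (nat_lit 0)) ::
  ([nat_lit 7, nat_lit 8, nat_lit 9, nat_lit 6, nat_lit 1, nat_lit 10], (nat_lit 126369911), (nat_lit 0)) ::
  ([nat_lit 7, nat_lit 8, nat_lit 3, nat_lit 6, nat_lit 9, nat_lit 6, nat_lit 8, nat_lit 1], (nat_lit 127247497), (nat_lit 0)) ::
  ([nat_lit 7, nat_lit 8, nat_lit 0, nat_lit 9, nat_lit 8, nat_lit 0, nat_lit 2], (nat_lit 127892660), (nat_lit 0)) ::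
  ([nat_lit 7, nat_lit 6, nat_lit 5, nat_lit 8, nat_lit 3, nat_lit 9, nat_lit 8, nat_lit 3], (nat_lit 127926056), (nat_lit 0)) ::
  ([nat_lit 7, nat_lit 6, nat_lit 3, nat_lit 8, nat_lit 3, nat_lit 9], (nat_lit 128622699), (nat_lit 0)) ::
  ([nat_lit 7, nat_lit 6, nat_lit 8, nat_lit 2, nat_lit 3], (nat_lit 128627430), (nat_lit 0)) ::
  ([nat_lit 7, nat_lit 8, nat_lit 1, nat_lit 3, nat_lit 6, nat_lit 8], (nat_lit 130355107), (nat_lit 0)) ::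
  ([nat_lit 7, nat_lit 6, nat_lit 8, nat_lit 0, nat_lit 2, nat_lit 9], (nat_lit 130360726), (nat_lit 0)) ::
  ([nat_lit 7, nat_lit 8, nat_lit 9, nat_lit 1, nat_lit 8, nat_lit 3, nat_lit 6], (nat_lit 130493555), (nat_lit 0)) ::
  ([nat_lit 8, nat_lit 9, nat_lit 10, nat_lit 0, nat_lit 8, nat_lit 1, nat_lit 4], (nat_lit 130601682), (nat_lit 0)) ::
  ([nat_lit 8, nat_lit 1, nat_lit 9, nat_lit 7, nat_lit 8, nat_lit 1, nat_lit 10], (nat_lit 130950511), (nat_lit 0)) ::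
  ([nat_lit 7, nat_lit 6, nat_lit 5, nat_lit 8, nat_lit 1, nat_lit 3], (nat_lit 131562753), (nat_lit 0)) ::
  ([nat_lit 8, nat_lit 3, nat_lit 9, nat_lit 6, nat_lit 8, nat_lit 0], (nat_lit 131662070), (nat_lit 0)) ::
  ([nat_lit 8, nat_lit 0, nat_lit 1, nat_lit 9, nat_lit 8, nat_lit 2, nat_lit 5, nat_lit 10], (nat_lit 131810734), (nat_lit 0)) ::
  ([nat_lit 8, nat_lit 2, nat_lit 5, nat_lit 9], (nat_lit 131881175), (nat_lit 0)) ::
  ([nat_lit 7, nat_lit 8, nat_lit 1, nat_lit 9, nat_lit 6, nat_lit 0, nat_lit 8, nat_lit 3], (nat_lit 132682465), (nat_lit 0)) ::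
  ([nat_lit 7, nat_lit 8, nat_lit 9, nat_lit 3, nat_lit 8, nat_lit 6], (nat_lit 133137871), (nat_lit 0)) ::
  ([nat_lit 7, nat_lit 6, nat_lit 8, nat_lit 9, nat_lit 10, nat_lit 3], (nat_lit 133409564), (nat_lit 0)) ::
  ([nat_lit 7, nat_lit 8, nat_lit 2, nat_lit 5, nat_lit 9], (nat_lit 133762233), (nat_lit 0)) ::
  ([nat_lit 8, nat_lit 0, nat_lit 1, nat_lit 9, nat_lit 6], (nat_lit 135970552), (nat_lit 0)) ::
  ([nat_lit 7, nat_lit 6, nat_lit 8, nat_lit 9, nat_lit 3, nat_lit 6, nat_lit 10], (nat_lit 136085178), (nat_lit 0)) ::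
  ([nat_lit 8, nat_lit 3, nat_lit 9, nat_lit 6, nat_lit 8, nat_lit 10], (nat_lit 136500899), (nat_lit 0)) ::
  ([nat_lit 7, nat_lit 6, nat_lit 8, nat_lit 0, nat_lit 6, nat_lit 3], (nat_lit 136665345), (nat_lit 0)) ::
  ([nat_lit 7, nat_lit 6, nat_lit 5, nat_lit 8, nat_lit 9, nat_lit 1, nat_lit 8], (nat_lit 136918424), (nat_lit 0)) ::
  ([nat_lit 8, nat_lit 1, nat_lit 9, nat_lit 7, nat_lit 8, nat_lit 0, nat_lit 8], (nat_lit 137028524), (nat_lit 0)) ::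
  ([nat_lit 7, nat_lit 8, nat_lit 3, nat_lit 6, nat_lit 9, nat_lit 8, nat_lit 2], (nat_lit 138472813), (nat_lit 0)) ::
  ([nat_lit 8, nat_lit 1, nat_lit 9, nat_lit 7, nat_lit 10], (nat_lit 138686057), (nat_lit 0)) ::
  ([nat_lit 8, nat_lit 0, nat_lit 1, nat_lit 9, nat_lit 8, nat_lit 0], (nat_lit 138880776), (nat_lit 0)) ::
  ([nat_lit 7, nat_lit 8, nat_lit 2, nat_lit 9, nat_lit 8, nat_lit 0, nat_lit 1], (nat_lit 139005925), (nat_lit 0)) ::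
  ([nat_lit 7, nat_lit 6, nat_lit 0, nat_lit 8, nat_lit 0, nat_lit 9, nat_lit 8, nat_lit 0], (nat_lit 139627275), (nat_lit 0)) ::
  ([nat_lit 7, nat_lit 8, nat_lit 0, nat_lit 6, nat_lit 4, nat_lit 9], (nat_lit 140811515), (nat_lit 0)) ::
  ([nat_lit 7, nat_lit 8, nat_lit 6, nat_lit 4, nat_lit 1, nat_lit 9, nat_lit 8, nat_lit 1], (nat_lit 143267456), (nat_lit 0)) ::
  ([nat_lit 8, nat_lit 1, nat_lit 9, nat_lit 7, nat_lit 6, nat_lit 10], (nat_lit 144387492), (nat_lit 0)) ::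
  ([nat_lit 7, nat_lit 6, nat_lit 5, nat_lit 8, nat_lit 1, nat_lit 9, nat_lit 8, nat_lit 2, nat_lit 10], (nat_lit 146671364), (nat_lit 0)) ::
  ([nat_lit 7, nat_lit 8, nat_lit 1, nat_lit 9, nat_lit 8, nat_lit 3, nat_lit 6], (nat_lit 146875883), (nat_lit 0)) ::
  ([nat_lit 7, nat_lit 6, nat_lit 8, nat_lit 1, nat_lit 9, nat_lit 8, nat_lit 1], (nat_lit 147076666), (nat_lit 0)) ::
  ([nat_lit 8, nat_lit 0, nat_lit 2, nat_lit 9, nat_lit 8, nat_lit 0, nat_lit 10], (nat_lit 147188787), (nat_lit 0)) ::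
  ([nat_lit 7, nat_lit 6, nat_lit 0, nat_lit 8, nat_lit 1], (nat_lit 147308207), (nat_lit 0)) ::
  ([nat_lit 7, nat_lit 6, nat_lit 3, nat_lit 8, nat_lit 0, nat_lit 6], (nat_lit 147955124), (nat_lit 0)) ::
  ([nat_lit 7, nat_lit 6, nat_lit 1, nat_lit 8, nat_lit 0, nat_lit 8], (nat_lit 148609509), (nat_lit 0)) ::
  ([nat_lit 7, nat_lit 6, nat_lit 0, nat_lit 8, nat_lit 3, nat_lit 9, nat_lit 10], (nat_lit 148835151), (nat_lit 0)) ::
  ([nat_lit 8, nat_lit 1, nat_lit 9, nat_lit 8, nat_lit 10], (nat_lit 148866396), (nat_lit 0)) ::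
  clD250
noncomputable def clD150 : List (List ℕ × ℕ × ℕ) :=
  ([nat_lit 8, nat_lit 1, nat_lit 9, nat_lit 8, nat_lit 1, nat_lit 10], (nat_lit 92807648), (nat_lit 0)) ::
  ([nat_lit 7, nat_lit 6, nat_lit 2, nat_lit 8, nat_lit 9, nat_lit 3, nat_lit 8, nat_lit 2, nat_lit 6], (nat_lit 93429326), (nat_lit 0)) ::
  ([nat_lit 7, nat_lit 6, nat_lit 8, nat_lit 2, nat_lit 3, nat_lit 9, nat_lit 8, nat_lit 2], (nat_lit 94016750), (nat_lit 0)) ::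
  ([nat_lit 7, nat_lit 6, nat_lit 8, nat_lit 9, nat_lit 6, nat_lit 10, nat_lit 0], (nat_lit 94073458), (nat_lit 0)) ::
  ([nat_lit 7, nat_lit 6, nat_lit 2, nat_lit 8, nat_lit 0], (nat_lit 94107459), (nat_lit 0)) ::
  ([nat_lit 7, nat_lit 8, nat_lit 0, nat_lit 6, nat_lit 9, nat_lit 8, nat_lit 0, nat_lit 6], (nat_lit 94877347), (nat_lit 0)) ::
  ([nat_lit 7, nat_lit 6, nat_lit 5, nat_lit 8, nat_lit 9, nat_lit 1], (nat_lit 96403997), (nat_lit 0)) ::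
  ([nat_lit 8, nat_lit 3, nat_lit 10], (nat_lit 98446096), (nat_lit 0)) ::
  ([nat_lit 7, nat_lit 6, nat_lit 8, nat_lit 0, nat_lit 2, nat_lit 9, nat_lit 8], (nat_lit 98461511), (nat_lit 0)) ::
  ([nat_lit 7, nat_lit 6, nat_lit 5, nat_lit 8, nat_lit 6, nat_lit 0], (nat_lit 99678978), (nat_lit 0)) ::
  ([nat_lit 7, nat_lit 8, nat_lit 9, nat_lit 6, nat_lit 0, nat_lit 3, nat_lit 10], (nat_lit 100849319), (nat_lit 0)) ::
  ([nat_lit 7, nat_lit 8, nat_lit 0, nat_lit 9, nat_lit 1, nat_lit 8, nat_lit 6], (nat_lit 100887110), (nat_lit 0)) ::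
  ([nat_lit 8, nat_lit 0, nat_lit 9, nat_lit 8, nat_lit 6, nat_lit 0, nat_lit 6], (nat_lit 101377848), (nat_lit 0)) ::
  ([nat_lit 8, nat_lit 9, nat_lit 1, nat_lit 8, nat_lit 2], (nat_lit 101436923), (nat_lit 0)) ::
  ([nat_lit 7, nat_lit 8, nat_lit 2, nat_lit 6, nat_lit 9, nat_lit 3], (nat_lit 101481448), (nat_lit 0)) ::
  ([nat_lit 7, nat_lit 6, nat_lit 0, nat_lit 8, nat_lit 9, nat_lit 6, nat_lit 10], (nat_lit 101574300), (nat_lit 0)) ::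
  ([nat_lit 7, nat_lit 6, nat_lit 0, nat_lit 3, nat_lit 8, nat_lit 0], (nat_lit 102033863), (nat_lit 0)) ::
  ([nat_lit 8, nat_lit 3, nat_lit 9, nat_lit 8, nat_lit 10, nat_lit 3], (nat_lit 102643734), (nat_lit 0)) ::
  ([nat_lit 7, nat_lit 8, nat_lit 1, nat_lit 3, nat_lit 9, nat_lit 8, nat_lit 3], (nat_lit 102683952), (nat_lit 0)) ::
  ([nat_lit 7, nat_lit 6, nat_lit 5, nat_lit 8, nat_lit 9, nat_lit 10, nat_lit 3, nat_lit 8], (nat_lit 103310871), (nat_lit 0)) ::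
  ([nat_lit 8, nat_lit 0, nat_lit 7, nat_lit 6, nat_lit 3, nat_lit 9], (nat_lit 103553670), (nat_lit 0)) ::
  ([nat_lit 7, nat_lit 8, nat_lit 2, nat_lit 5, nat_lit 6, nat_lit 9, nat_lit 8, nat_lit 3], (nat_lit 104652787), (nat_lit 15180)) ::
  ([nat_lit 7, nat_lit 8, nat_lit 3, nat_lit 6, nat_lit 9, nat_lit 8, nat_lit 0, nat_lit 7], (nat_lit 104759679), (nat_lit 0)) ::
  ([nat_lit 8, nat_lit 0, nat_lit 7, nat_lit 6, nat_lit 9, nat_lit 8, nat_lit 0, nat_lit 6], (nat_lit 104886585), (nat_lit 0)) ::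
  ([nat_lit 8, nat_lit 2, nat_lit 9, nat_lit 8], (nat_lit 105521181), (nat_lit 0)) ::
  ([nat_lit 7, nat_lit 8, nat_lit 3, nat_lit 6, nat_lit 9, nat_lit 8, nat_lit 2, nat_lit 6], (nat_lit 105536789), (nat_lit 0)) ::
  ([nat_lit 8, nat_lit 9, nat_lit 3, nat_lit 8, nat_lit 0, nat_lit 6], (nat_lit 106146057), (nat_lit 0)) ::
  ([nat_lit 7, nat_lit 6, nat_lit 8, nat_lit 2, nat_lit 3, nat_lit 9, nat_lit 8, nat_lit 1], (nat_lit 106176514), (nat_lit 0)) ::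
  ([nat_lit 8, nat_lit 9], (nat_lit 106663390), (nat_lit 0)) ::
  ([nat_lit 7, nat_lit 8, nat_lit 6, nat_lit 1, nat_lit 5, nat_lit 9, nat_lit 8], (nat_lit 107009377), (nat_lit 0)) ::
  ([nat_lit 8, nat_lit 0, nat_lit 9, nat_lit 1, nat_lit 8, nat_lit 1], (nat_lit 108388801), (nat_lit 0)) ::
  ([nat_lit 7, nat_lit 6, nat_lit 4, nat_lit 8, nat_lit 9, nat_lit 1, nat_lit 8, nat_lit 3, nat_lit 9], (nat_lit 108439965), (nat_lit 0)) ::
  ([nat_lit 7, nat_lit 8, nat_lit 2, nat_lit 9, nat_lit 8, nat_lit 0, nat_lit 6, nat_lit 5], (nat_lit 109240938), (nat_lit 0)) ::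
  ([nat_lit 8, nat_lit 2, nat_lit 9, nat_lit 8, nat_lit 0, nat_lit 7], (nat_lit 109312146), (nat_lit 0)) ::
  ([nat_lit 8, nat_lit 0, nat_lit 9, nat_lit 8, nat_lit 10], (nat_lit 109425721), (nat_lit 0)) ::
  ([nat_lit 7, nat_lit 8, nat_lit 2, nat_lit 9, nat_lit 3, nat_lit 8, nat_lit 3], (nat_lit 109501078), (nat_lit 0)) ::
  ([nat_lit 7, nat_lit 8, nat_lit 0, nat_lit 6, nat_lit 9], (nat_lit 109548082), (nat_lit 0)) ::
  ([nat_lit 8, nat_lit 0, nat_lit 9, nat_lit 8, nat_lit 2, nat_lit 5], (nat_lit 111195098), (nat_lit 0)) ::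
  ([nat_lit 7, nat_lit 6, nat_lit 8, nat_lit 9, nat_lit 3, nat_lit 8, nat_lit 1], (nat_lit 111516793), (nat_lit 0)) ::
  ([nat_lit 7, nat_lit 8, nat_lit 1, nat_lit 3, nat_lit 9, nat_lit 8], (nat_lit 111604679), (nat_lit 0)) ::
  ([nat_lit 7, nat_lit 6, nat_lit 3, nat_lit 8, nat_lit 9, nat_lit 1, nat_lit 10], (nat_lit 113575934), (nat_lit 0)) ::
  ([nat_lit 7, nat_lit 8, nat_lit 0, nat_lit 6, nat_lit 9, nat_lit 8, nat_lit 6, nat_lit 3], (nat_lit 114040581), (nat_lit 0)) ::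
  ([nat_lit 8, nat_lit 0, nat_lit 3], (nat_lit 114467008), (nat_lit 0)) ::
  ([nat_lit 7, nat_lit 6, nat_lit 8, nat_lit 0, nat_lit 6, nat_lit 9], (nat_lit 116247581), (nat_lit 0)) ::
  ([nat_lit 8, nat_lit 9, nat_lit 10, nat_lit 3, nat_lit 8, nat_lit 2, nat_lit 4], (nat_lit 117602067), (nat_lit 0)) ::
  ([nat_lit 8, nat_lit 1, nat_lit 9, nat_lit 7, nat_lit 6, nat_lit 8, nat_lit 2], (nat_lit 118300218), (nat_lit 0)) ::
  ([nat_lit 7, nat_lit 6, nat_lit 1, nat_lit 8, nat_lit 3, nat_lit 9, nat_lit 8], (nat_lit 118440067), (nat_lit 0)) ::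
  ([nat_lit 7, nat_lit 6, nat_lit 3, nat_lit 8, nat_lit 2, nat_lit 9, nat_lit 8, nat_lit 1], (nat_lit 118901549), (nat_lit 0)) ::
  ([nat_lit 8, nat_lit 1, nat_lit 9, nat_lit 8, nat_lit 0, nat_lit 1], (nat_lit 119231218), (nat_lit 0)) ::
  ([nat_lit 7, nat_lit 6, nat_lit 8, nat_lit 2, nat_lit 9, nat_lit 8, nat_lit 1, nat_lit 3], (nat_lit 119336609), (nat_lit 0)) ::
  clD200
noncomputable def clD100 : List (List ℕ × ℕ × ℕ) :=
  ([nat_lit 7, nat_lit 8, nat_lit 2, nat_lit 4, nat_lit 6, nat_lit 9, nat_lit 8, nat_lit 0, nat_lit 8], (nat_lit 60482330), (nat_lit 0)) ::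
  ([nat_lit 7, nat_lit 8, nat_lit 3, nat_lit 9, nat_lit 8, nat_lit 1, nat_lit 2, nat_lit 10], (nat_lit 61075230), (nat_lit 0)) ::
  ([nat_lit 7, nat_lit 8, nat_lit 9, nat_lit 6, nat_lit 0, nat_lit 3], (nat_lit 61599987), (nat_lit 0)) ::
  ([nat_lit 7, nat_lit 8, nat_lit 6, nat_lit 0, nat_lit 5], (nat_lit 63665813), (nat_lit 0)) ::
  ([nat_lit 8, nat_lit 2, nat_lit 9, nat_lit 8, nat_lit 1, nat_lit 4], (nat_lit 63786236), (nat_lit 0)) ::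
  ([nat_lit 7, nat_lit 6, nat_lit 1, nat_lit 4, nat_lit 8, nat_lit 2], (nat_lit 64162866), (nat_lit 0)) ::
  ([nat_lit 7, nat_lit 8, nat_lit 0, nat_lit 9, nat_lit 8, nat_lit 1, nat_lit 4], (nat_lit 64377547), (nat_lit 0)) ::
  ([nat_lit 8, nat_lit 1, nat_lit 9, nat_lit 3, nat_lit 8, nat_lit 0, nat_lit 6], (nat_lit 64756552), (nat_lit 0)) ::
  ([nat_lit 7, nat_lit 8, nat_lit 2, nat_lit 9, nat_lit 8, nat_lit 10], (nat_lit 65174884), (nat_lit 0)) ::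
  ([nat_lit 7, nat_lit 8, nat_lit 2, nat_lit 9], (nat_lit 65508227), (nat_lit 0)) ::
  ([nat_lit 7, nat_lit 8, nat_lit 2, nat_lit 5, nat_lit 6, nat_lit 9, nat_lit 8], (nat_lit 66655914), (nat_lit 0)) ::
  ([nat_lit 7, nat_lit 8, nat_lit 0, nat_lit 9, nat_lit 8, nat_lit 0, nat_lit 6], (nat_lit 67153395), (nat_lit 0)) ::
  ([nat_lit 7, nat_lit 6, nat_lit 8, nat_lit 3, nat_lit 9, nat_lit 1], (nat_lit 68122680), (nat_lit 0)) ::
  ([nat_lit 7, nat_lit 8, nat_lit 6, nat_lit 9, nat_lit 10, nat_lit 3], (nat_lit 68533184), (nat_lit 0)) ::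
  ([nat_lit 7, nat_lit 8, nat_lit 0, nat_lit 9, nat_lit 8, nat_lit 6, nat_lit 3, nat_lit 5], (nat_lit 68986557), (nat_lit 0)) ::
  ([nat_lit 8, nat_lit 1, nat_lit 9, nat_lit 8, nat_lit 1, nat_lit 6], (nat_lit 70071781), (nat_lit 0)) ::
  ([nat_lit 7, nat_lit 6, nat_lit 0, nat_lit 8, nat_lit 0, nat_lit 9, nat_lit 8, nat_lit 1], (nat_lit 70136884), (nat_lit 0)) ::
  ([nat_lit 7, nat_lit 6, nat_lit 8, nat_lit 1, nat_lit 9, nat_lit 8, nat_lit 1, nat_lit 4], (nat_lit 70366251), (nat_lit 0)) ::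
  ([nat_lit 7, nat_lit 6, nat_lit 8, nat_lit 9, nat_lit 1, nat_lit 8, nat_lit 0, nat_lit 6], (nat_lit 70693491), (nat_lit 0)) ::
  ([nat_lit 7, nat_lit 6, nat_lit 8, nat_lit 0, nat_lit 9, nat_lit 8, nat_lit 2, nat_lit 5], (nat_lit 70847458), (nat_lit 0)) ::
  ([nat_lit 7, nat_lit 6, nat_lit 0, nat_lit 8, nat_lit 9, nat_lit 3], (nat_lit 72221568), (nat_lit 0)) ::
  ([nat_lit 7, nat_lit 8, nat_lit 3, nat_lit 6, nat_lit 9, nat_lit 10], (nat_lit 73036206), (nat_lit 0)) ::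
  ([nat_lit 7, nat_lit 8, nat_lit 2, nat_lit 6, nat_lit 9, nat_lit 8, nat_lit 0, nat_lit 1], (nat_lit 74441776), (nat_lit 0)) ::
  ([nat_lit 8, nat_lit 9, nat_lit 3, nat_lit 8, nat_lit 2], (nat_lit 74575348), (nat_lit 0)) ::
  ([nat_lit 7, nat_lit 8, nat_lit 2, nat_lit 5, nat_lit 9, nat_lit 6, nat_lit 10], (nat_lit 74863865), (nat_lit 0)) ::
  ([nat_lit 7, nat_lit 6, nat_lit 8, nat_lit 9, nat_lit 6, nat_lit 0, nat_lit 8], (nat_lit 75955496), (nat_lit 0)) ::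
  ([nat_lit 7, nat_lit 6, nat_lit 0, nat_lit 8, nat_lit 0, nat_lit 9, nat_lit 10], (nat_lit 76208206), (nat_lit 0)) ::
  ([nat_lit 7, nat_lit 8, nat_lit 0, nat_lit 9, nat_lit 1], (nat_lit 76311243), (nat_lit 0)) ::
  ([nat_lit 8, nat_lit 9, nat_lit 1, nat_lit 6, nat_lit 8, nat_lit 10, nat_lit 9], (nat_lit 76775759), (nat_lit 0)) ::
  ([nat_lit 8, nat_lit 0, nat_lit 9, nat_lit 8, nat_lit 6, nat_lit 1, nat_lit 3], (nat_lit 78751422), (nat_lit 0)) ::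
  ([nat_lit 7, nat_lit 6, nat_lit 5, nat_lit 8, nat_lit 9, nat_lit 1, nat_lit 8, nat_lit 10], (nat_lit 78948133), (nat_lit 0)) ::
  ([nat_lit 7, nat_lit 8, nat_lit 2, nat_lit 5, nat_lit 9, nat_lit 8, nat_lit 3, nat_lit 6], (nat_lit 79723198), (nat_lit 0)) ::
  ([nat_lit 7, nat_lit 6, nat_lit 1, nat_lit 8, nat_lit 1, nat_lit 9, nat_lit 8, nat_lit 2], (nat_lit 80285186), (nat_lit 0)) ::
  ([nat_lit 7, nat_lit 6, nat_lit 0, nat_lit 8, nat_lit 9, nat_lit 10, nat_lit 3], (nat_lit 80707740), (nat_lit 0)) ::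
  ([nat_lit 7, nat_lit 6, nat_lit 4, nat_lit 8, nat_lit 1, nat_lit 5], (nat_lit 81156386), (nat_lit 0)) ::
  ([nat_lit 7, nat_lit 8, nat_lit 2, nat_lit 6, nat_lit 5], (nat_lit 81351773), (nat_lit 0)) ::
  ([nat_lit 8, nat_lit 9, nat_lit 1, nat_lit 8, nat_lit 0, nat_lit 10], (nat_lit 81416039), (nat_lit 0)) ::
  ([nat_lit 7, nat_lit 6, nat_lit 3, nat_lit 8, nat_lit 2, nat_lit 9, nat_lit 8, nat_lit 0], (nat_lit 82969430), (nat_lit 0)) ::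
  ([nat_lit 7, nat_lit 8, nat_lit 1, nat_lit 6, nat_lit 0], (nat_lit 83550080), (nat_lit 0)) ::
  ([nat_lit 7, nat_lit 8, nat_lit 2, nat_lit 3, nat_lit 6, nat_lit 8], (nat_lit 86025113), (nat_lit 0)) ::
  ([nat_lit 7, nat_lit 8, nat_lit 9, nat_lit 3, nat_lit 8, nat_lit 6, nat_lit 10], (nat_lit 86040230), (nat_lit 0)) ::
  ([nat_lit 7, nat_lit 6, nat_lit 5, nat_lit 8, nat_lit 2, nat_lit 4], (nat_lit 86067141), (nat_lit 0)) ::
  ([nat_lit 8, nat_lit 0, nat_lit 9, nat_lit 8, nat_lit 0, nat_lit 2, nat_lit 10], (nat_lit 87365439), (nat_lit 0)) ::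
  ([nat_lit 8, nat_lit 3, nat_lit 9, nat_lit 8, nat_lit 3, nat_lit 10, nat_lit 9], (nat_lit 87507791), (nat_lit 0)) ::
  ([nat_lit 7, nat_lit 8, nat_lit 2, nat_lit 6, nat_lit 9, nat_lit 8, nat_lit 0], (nat_lit 88590391), (nat_lit 0)) ::
  ([nat_lit 7, nat_lit 6, nat_lit 8, nat_lit 9, nat_lit 8, nat_lit 0, nat_lit 8], (nat_lit 91200521), (nat_lit 0)) ::
  ([nat_lit 8, nat_lit 0, nat_lit 1, nat_lit 9, nat_lit 8, nat_lit 3, nat_lit 5, nat_lit 10], (nat_lit 91471423), (nat_lit 0)) ::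
  ([nat_lit 7, nat_lit 6, nat_lit 8, nat_lit 2, nat_lit 9, nat_lit 8, nat_lit 0, nat_lit 8], (nat_lit 91597913), (nat_lit 0)) ::
  ([nat_lit 7, nat_lit 6, nat_lit 1, nat_lit 8, nat_lit 0, nat_lit 9, nat_lit 8, nat_lit 3], (nat_lit 91603394), (nat_lit 0)) ::
  ([nat_lit 8, nat_lit 0, nat_lit 1, nat_lit 9, nat_lit 6, nat_lit 8, nat_lit 10, nat_lit 0], (nat_lit 91758242), (nat_lit 0)) ::
  clD150
noncomputable def clD50 : List (List ℕ × ℕ × ℕ) :=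
  ([nat_lit 8, nat_lit 0, nat_lit 1, nat_lit 9, nat_lit 8], (nat_lit 31046249), (nat_lit 0)) ::
  ([nat_lit 7, nat_lit 8, nat_lit 1, nat_lit 9, nat_lit 8], (nat_lit 31151130), (nat_lit 0)) ::
  ([nat_lit 7, nat_lit 6, nat_lit 8, nat_lit 0, nat_lit 9, nat_lit 6, nat_lit 8], (nat_lit 31354503), (nat_lit 0)) ::
  ([nat_lit 8, nat_lit 1, nat_lit 6, nat_lit 9, nat_lit 8, nat_lit 2], (nat_lit 31985170), (nat_lit 0)) ::
  ([nat_lit 7, nat_lit 6, nat_lit 0, nat_lit 8], (nat_lit 32251157), (nat_lit 0)) ::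
  ([nat_lit 7, nat_lit 8, nat_lit 2, nat_lit 9, nat_lit 8, nat_lit 3, nat_lit 5, nat_lit 10], (nat_lit 35045107), (nat_lit 0)) ::
  ([nat_lit 8, nat_lit 3, nat_lit 9, nat_lit 8, nat_lit 1, nat_lit 2, nat_lit 6], (nat_lit 35121213), (nat_lit 0)) ::
  ([nat_lit 7, nat_lit 6, nat_lit 0, nat_lit 8, nat_lit 9, nat_lit 3, nat_lit 8, nat_lit 0], (nat_lit 35795535), (nat_lit 0)) ::
  ([nat_lit 7, nat_lit 8, nat_lit 0, nat_lit 6, nat_lit 3, nat_lit 7], (nat_lit 37509946), (nat_lit 0)) ::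
  ([nat_lit 8, nat_lit 0, nat_lit 9, nat_lit 8, nat_lit 2, nat_lit 6], (nat_lit 37729481), (nat_lit 0)) ::
  ([nat_lit 7, nat_lit 8, nat_lit 2, nat_lit 9, nat_lit 8, nat_lit 3, nat_lit 10], (nat_lit 38140013), (nat_lit 0)) ::
  ([nat_lit 7, nat_lit 6, nat_lit 8, nat_lit 1, nat_lit 9], (nat_lit 38216454), (nat_lit 0)) ::
  ([nat_lit 7, nat_lit 8, nat_lit 9, nat_lit 3, nat_lit 8, nat_lit 10, nat_lit 3], (nat_lit 38696442), (nat_lit 0)) ::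
  ([nat_lit 8], (nat_lit 39385302), (nat_lit 0)) ::
  ([nat_lit 8, nat_lit 1, nat_lit 6, nat_lit 9, nat_lit 8, nat_lit 10, nat_lit 9], (nat_lit 39874548), (nat_lit 0)) ::
  ([nat_lit 8, nat_lit 1, nat_lit 9, nat_lit 3, nat_lit 8, nat_lit 0], (nat_lit 39973743), (nat_lit 0)) ::
  ([nat_lit 8, nat_lit 9, nat_lit 1, nat_lit 6, nat_lit 8], (nat_lit 40355739), (nat_lit 0)) ::
  ([nat_lit 7, nat_lit 8, nat_lit 6, nat_lit 5, nat_lit 9], (nat_lit 41279477), (nat_lit 0)) ::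
  ([nat_lit 8, nat_lit 1, nat_lit 9, nat_lit 8, nat_lit 1, nat_lit 3], (nat_lit 42530937), (nat_lit 0)) ::
  ([nat_lit 8, nat_lit 1, nat_lit 9], (nat_lit 42563163), (nat_lit 0)) ::
  ([nat_lit 7, nat_lit 6, nat_lit 8, nat_lit 1, nat_lit 5, nat_lit 9, nat_lit 10], (nat_lit 43174172), (nat_lit 0)) ::
  ([nat_lit 7, nat_lit 6, nat_lit 8, nat_lit 1, nat_lit 9, nat_lit 7], (nat_lit 43630949), (nat_lit 0)) ::
  ([nat_lit 7, nat_lit 6, nat_lit 5, nat_lit 8, nat_lit 1, nat_lit 9, nat_lit 8, nat_lit 3, nat_lit 6], (nat_lit 45664035), (nat_lit 0)) ::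
  ([nat_lit 8, nat_lit 1, nat_lit 6, nat_lit 9, nat_lit 8, nat_lit 1, nat_lit 6], (nat_lit 45807484), (nat_lit 0)) ::
  ([nat_lit 7, nat_lit 6, nat_lit 4, nat_lit 8, nat_lit 3, nat_lit 6], (nat_lit 47167650), (nat_lit 0)) ::
  ([nat_lit 7, nat_lit 6, nat_lit 5, nat_lit 8, nat_lit 9, nat_lit 3, nat_lit 8, nat_lit 10], (nat_lit 47175048), (nat_lit 0)) ::
  ([nat_lit 7, nat_lit 6, nat_lit 2, nat_lit 8, nat_lit 9, nat_lit 3, nat_lit 8, nat_lit 0, nat_lit 6], (nat_lit 48508180), (nat_lit 0)) ::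
  ([nat_lit 7, nat_lit 8, nat_lit 6, nat_lit 4], (nat_lit 49077623), (nat_lit 0)) ::
  ([nat_lit 7, nat_lit 6, nat_lit 8, nat_lit 9, nat_lit 1, nat_lit 8, nat_lit 2, nat_lit 5], (nat_lit 49091111), (nat_lit 0)) ::
  ([nat_lit 8, nat_lit 9, nat_lit 1, nat_lit 8, nat_lit 3, nat_lit 10], (nat_lit 49389741), (nat_lit 0)) ::
  ([nat_lit 7, nat_lit 8, nat_lit 9, nat_lit 1, nat_lit 8, nat_lit 3], (nat_lit 49928979), (nat_lit 0)) ::
  ([nat_lit 7, nat_lit 6, nat_lit 4, nat_lit 8, nat_lit 9, nat_lit 10, nat_lit 0, nat_lit 8], (nat_lit 49952193), (nat_lit 0)) ::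
  ([nat_lit 8, nat_lit 9, nat_lit 10, nat_lit 0, nat_lit 8, nat_lit 1], (nat_lit 50272405), (nat_lit 0)) ::
  ([nat_lit 7, nat_lit 8, nat_lit 2, nat_lit 6, nat_lit 9], (nat_lit 50338648), (nat_lit 0)) ::
  ([nat_lit 8, nat_lit 0, nat_lit 7, nat_lit 6, nat_lit 9, nat_lit 6, nat_lit 8], (nat_lit 50652010), (nat_lit 0)) ::
  ([nat_lit 7, nat_lit 8, nat_lit 2, nat_lit 6, nat_lit 9, nat_lit 8, nat_lit 1, nat_lit 6], (nat_lit 51103016), (nat_lit 0)) ::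
  ([nat_lit 7, nat_lit 8, nat_lit 3, nat_lit 6, nat_lit 9, nat_lit 8, nat_lit 3, nat_lit 5], (nat_lit 52167755), (nat_lit 0)) ::
  ([nat_lit 7, nat_lit 8, nat_lit 0, nat_lit 1, nat_lit 6], (nat_lit 52191780), (nat_lit 0)) ::
  ([nat_lit 7, nat_lit 8, nat_lit 0, nat_lit 9, nat_lit 8, nat_lit 2, nat_lit 4], (nat_lit 52234321), (nat_lit 0)) ::
  ([nat_lit 7, nat_lit 8, nat_lit 2, nat_lit 9, nat_lit 8, nat_lit 1, nat_lit 6, nat_lit 4], (nat_lit 52836268), (nat_lit 0)) ::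
  ([nat_lit 8, nat_lit 2, nat_lit 9, nat_lit 8, nat_lit 0], (nat_lit 53812029), (nat_lit 0)) ::
  ([nat_lit 7, nat_lit 6, nat_lit 0, nat_lit 3, nat_lit 8, nat_lit 3], (nat_lit 53954975), (nat_lit 0)) ::
  ([nat_lit 8, nat_lit 2, nat_lit 3, nat_lit 9, nat_lit 8, nat_lit 3, nat_lit 10], (nat_lit 54280108), (nat_lit 0)) ::
  ([nat_lit 8, nat_lit 9, nat_lit 1, nat_lit 8, nat_lit 2, nat_lit 4, nat_lit 10], (nat_lit 54662548), (nat_lit 0)) ::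
  ([nat_lit 7, nat_lit 8, nat_lit 3, nat_lit 6, nat_lit 9, nat_lit 8, nat_lit 0], (nat_lit 55108914), (nat_lit 0)) ::
  ([nat_lit 7, nat_lit 8, nat_lit 9, nat_lit 1, nat_lit 8], (nat_lit 57318252), (nat_lit 0)) ::
  ([nat_lit 8, nat_lit 0, nat_lit 1, nat_lit 9, nat_lit 10], (nat_lit 59660710), (nat_lit 0)) ::
  ([nat_lit 7, nat_lit 8, nat_lit 3, nat_lit 6, nat_lit 9, nat_lit 6, nat_lit 8, nat_lit 2], (nat_lit 59846237), (nat_lit 0)) ::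
  ([nat_lit 8, nat_lit 0, nat_lit 2, nat_lit 9, nat_lit 8, nat_lit 1, nat_lit 3], (nat_lit 59941918), (nat_lit 0)) ::
  ([nat_lit 7, nat_lit 8, nat_lit 6, nat_lit 1, nat_lit 5, nat_lit 9], (nat_lit 60371096), (nat_lit 0)) ::
  clD100
noncomputable def clD : List (List ℕ × ℕ × ℕ) :=
  ([nat_lit 7, nat_lit 8, nat_lit 0, nat_lit 1, nat_lit 9, nat_lit 8, nat_lit 0, nat_lit 1], (nat_lit 111809), (nat_lit 0)) ::
  ([nat_lit 7, nat_lit 6, nat_lit 0, nat_lit 1, nat_lit 8, nat_lit 3, nat_lit 9, nat_lit 8], (nat_lit 176906), (nat_lit 0)) ::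
  ([nat_lit 7, nat_lit 6, nat_lit 5, nat_lit 8, nat_lit 1], (nat_lit 1173987), (nat_lit 0)) ::
  ([nat_lit 7, nat_lit 6, nat_lit 0, nat_lit 8, nat_lit 0, nat_lit 3], (nat_lit 1277285), (nat_lit 0)) ::
  ([nat_lit 7, nat_lit 6, nat_lit 8, nat_lit 9], (nat_lit 2044732), (nat_lit 0)) ::
  ([nat_lit 8, nat_lit 1, nat_lit 9, nat_lit 8, nat_lit 3, nat_lit 6, nat_lit 3], (nat_lit 2312634), (nat_lit 0)) ::
  ([nat_lit 7, nat_lit 8, nat_lit 2, nat_lit 3], (nat_lit 2438201), (nat_lit 0)) ::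
  ([nat_lit 7, nat_lit 8, nat_lit 2, nat_lit 5, nat_lit 6], (nat_lit 3777858), (nat_lit 0)) ::
  ([nat_lit 7, nat_lit 6, nat_lit 8, nat_lit 9, nat_lit 3, nat_lit 8, nat_lit 1, nat_lit 6], (nat_lit 4010798), (nat_lit 0)) ::
  ([nat_lit 8, nat_lit 0, nat_lit 1, nat_lit 9, nat_lit 8, nat_lit 1, nat_lit 9, nat_lit 10], (nat_lit 4180703), (nat_lit 0)) ::
  ([nat_lit 7, nat_lit 6, nat_lit 8, nat_lit 9, nat_lit 3, nat_lit 8, nat_lit 10], (nat_lit 4990335), (nat_lit 0)) ::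
  ([nat_lit 7, nat_lit 8, nat_lit 2, nat_lit 3, nat_lit 6, nat_lit 9, nat_lit 8, nat_lit 0], (nat_lit 5128196), (nat_lit 0)) ::
  ([nat_lit 8, nat_lit 9, nat_lit 1, nat_lit 8, nat_lit 2, nat_lit 3, nat_lit 8], (nat_lit 5649242), (nat_lit 0)) ::
  ([nat_lit 7, nat_lit 6, nat_lit 3, nat_lit 8, nat_lit 1, nat_lit 9, nat_lit 8], (nat_lit 6016652), (nat_lit 0)) ::
  ([nat_lit 7, nat_lit 6, nat_lit 1, nat_lit 8, nat_lit 0, nat_lit 9], (nat_lit 6604933), (nat_lit 0)) ::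
  ([nat_lit 8, nat_lit 0, nat_lit 9, nat_lit 1, nat_lit 8, nat_lit 0, nat_lit 4, nat_lit 10], (nat_lit 7642911), (nat_lit 0)) ::
  ([nat_lit 7, nat_lit 8, nat_lit 6, nat_lit 1, nat_lit 9, nat_lit 8, nat_lit 0, nat_lit 4], (nat_lit 7950085), (nat_lit 0)) ::
  ([nat_lit 7, nat_lit 6, nat_lit 8, nat_lit 9, nat_lit 1, nat_lit 10], (nat_lit 8298292), (nat_lit 0)) ::
  ([nat_lit 8, nat_lit 2, nat_lit 9, nat_lit 8, nat_lit 0, nat_lit 1], (nat_lit 10587559), (nat_lit 0)) ::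
  ([nat_lit 7, nat_lit 8, nat_lit 0, nat_lit 9, nat_lit 1, nat_lit 8, nat_lit 2, nat_lit 6], (nat_lit 11930956), (nat_lit 0)) ::
  ([nat_lit 8, nat_lit 0, nat_lit 9, nat_lit 8, nat_lit 2, nat_lit 10, nat_lit 9], (nat_lit 12158875), (nat_lit 0)) ::
  ([nat_lit 7, nat_lit 8, nat_lit 0, nat_lit 9, nat_lit 8, nat_lit 0, nat_lit 1, nat_lit 8], (nat_lit 12208147), (nat_lit 0)) ::
  ([nat_lit 8, nat_lit 9, nat_lit 10, nat_lit 3, nat_lit 8, nat_lit 9, nat_lit 1], (nat_lit 12217930), (nat_lit 0)) ::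
  ([nat_lit 7, nat_lit 6, nat_lit 8, nat_lit 3, nat_lit 9], (nat_lit 12564108), (nat_lit 0)) ::
  ([nat_lit 7, nat_lit 6, nat_lit 8, nat_lit 2, nat_lit 3, nat_lit 9, nat_lit 8], (nat_lit 12621453), (nat_lit 0)) ::
  ([nat_lit 8, nat_lit 1, nat_lit 9, nat_lit 7, nat_lit 6, nat_lit 5, nat_lit 8, nat_lit 0], (nat_lit 13945358), (nat_lit 0)) ::
  ([nat_lit 7, nat_lit 6, nat_lit 5, nat_lit 8, nat_lit 3, nat_lit 9], (nat_lit 14623812), (nat_lit 0)) ::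
  ([nat_lit 7, nat_lit 8, nat_lit 3, nat_lit 6, nat_lit 9, nat_lit 3, nat_lit 8], (nat_lit 14651169), (nat_lit 0)) ::
  ([nat_lit 8, nat_lit 2, nat_lit 9, nat_lit 10], (nat_lit 15842753), (nat_lit 0)) ::
  ([nat_lit 7, nat_lit 6, nat_lit 8, nat_lit 2, nat_lit 5, nat_lit 9, nat_lit 8, nat_lit 0], (nat_lit 17087552), (nat_lit 0)) ::
  ([nat_lit 7, nat_lit 6, nat_lit 8, nat_lit 1, nat_lit 9, nat_lit 6, nat_lit 8], (nat_lit 17198677), (nat_lit 0)) ::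
  ([nat_lit 7, nat_lit 8, nat_lit 9, nat_lit 10, nat_lit 3, nat_lit 8, nat_lit 6, nat_lit 2], (nat_lit 19463421), (nat_lit 0)) ::
  ([nat_lit 7, nat_lit 8, nat_lit 2, nat_lit 5, nat_lit 9, nat_lit 8, nat_lit 1, nat_lit 6], (nat_lit 20054220), (nat_lit 0)) ::
  ([nat_lit 8, nat_lit 9, nat_lit 1, nat_lit 8, nat_lit 10, nat_lit 9, nat_lit 1], (nat_lit 20596636), (nat_lit 0)) ::
  ([nat_lit 8, nat_lit 9, nat_lit 1, nat_lit 6, nat_lit 7, nat_lit 8, nat_lit 1], (nat_lit 20639461), (nat_lit 0)) ::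
  ([nat_lit 7, nat_lit 8, nat_lit 0, nat_lit 1, nat_lit 9, nat_lit 8, nat_lit 0], (nat_lit 20659749), (nat_lit 0)) ::
  ([nat_lit 8, nat_lit 9, nat_lit 1, nat_lit 8, nat_lit 10, nat_lit 9, nat_lit 7], (nat_lit 21189490), (nat_lit 0)) ::
  ([nat_lit 7, nat_lit 6, nat_lit 0, nat_lit 8, nat_lit 9, nat_lit 3, nat_lit 8, nat_lit 1, nat_lit 6], (nat_lit 21915504), (nat_lit 0)) ::
  ([nat_lit 7, nat_lit 8, nat_lit 2, nat_lit 6, nat_lit 9, nat_lit 3, nat_lit 8, nat_lit 2], (nat_lit 22728318), (nat_lit 0)) ::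
  ([nat_lit 8, nat_lit 9, nat_lit 10, nat_lit 0, nat_lit 8, nat_lit 9], (nat_lit 23103734), (nat_lit 0)) ::
  ([nat_lit 7, nat_lit 8, nat_lit 6, nat_lit 4, nat_lit 1, nat_lit 9, nat_lit 8], (nat_lit 23199592), (nat_lit 0)) ::
  ([nat_lit 8, nat_lit 2, nat_lit 3, nat_lit 9], (nat_lit 23752792), (nat_lit 0)) ::
  ([nat_lit 8, nat_lit 1, nat_lit 9, nat_lit 7, nat_lit 8, nat_lit 2, nat_lit 10], (nat_lit 24376027), (nat_lit 0)) ::
  ([nat_lit 7, nat_lit 6, nat_lit 3, nat_lit 8, nat_lit 9, nat_lit 10], (nat_lit 24566087), (nat_lit 0)) ::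
  ([nat_lit 8, nat_lit 2, nat_lit 3, nat_lit 9, nat_lit 8, nat_lit 10, nat_lit 3], (nat_lit 25193562), (nat_lit 0)) ::
  ([nat_lit 7, nat_lit 8, nat_lit 0, nat_lit 6, nat_lit 5], (nat_lit 25714632), (nat_lit 0)) ::
  ([nat_lit 7, nat_lit 6, nat_lit 3, nat_lit 8, nat_lit 2, nat_lit 9, nat_lit 8], (nat_lit 26057748), (nat_lit 0)) ::
  ([nat_lit 7, nat_lit 6, nat_lit 0, nat_lit 3], (nat_lit 27274950), (nat_lit 0)) ::
  ([nat_lit 7, nat_lit 6, nat_lit 5, nat_lit 8, nat_lit 9, nat_lit 1, nat_lit 8, nat_lit 0], (nat_lit 28047361), (nat_lit 0)) ::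
  ([nat_lit 7, nat_lit 8, nat_lit 2, nat_lit 5, nat_lit 9, nat_lit 8, nat_lit 10], (nat_lit 28822031), (nat_lit 0)) ::
  clD50
def clq : FP 7 112 2 := FP.std 7 112 2 7 1 1
theorem clok : clq.OK := FP.std_ok (by decide +kernel)
noncomputable def cl : DC.Cl := ⟨Iv, J4d.Ws, J4d.sL, [nat_lit 11], clD, (nat_lit 12), (nat_lit 6), (nat_lit 0x408000000010004001020408100000810004000020400100000800200081000008102000010204001000000000040810200081000000002000010200081020408002040000204081020008102000800004000020000002040800200000000400102000810004080020400100040800000080020008000040810200080020008002040010000000000408100000800200081020400002040000204000020000102000800204081000400102000000004080000008000000800204081020400000040000204001020408100040810000001020008102000810204081000400002040000004001000408000000000000000000408002000000204080020000002000010204000020408102000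0002000810000000000408100040000200081020008102040800000081020408100000800000001000008002000010000000020400002000010204081020400100040010204080020008000000800000080020000000040810000080000008000040000000001020400002000800004081000000102040000200081020400002040000004080000408000040000200080000400000000000200000020000002040810204001000000000040010004080020400100000810200080000408000040010204080020008100000000204081000400000040810000001000008102040810204001020408002000000204080000408102040810204081000408000040810204080020408002000000204000000408000040810204080000408100040810204000000400102040800204001020400102040810204081020408102040810000000000000000000000000000000000000000000000000000000000000000000000000000000000000000000000000000000000000000000000000000000000000000000000000000000000000000002000010200081000400002040810004000), (nat_lit 0x2000010200081000400002040810004000),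 (nat_lit 0x204081020408102040810204081020408102040810204081020408102040810204081020408102040810204081020408102040810204081020408102040810204081020408102040810204081020408102040810204081020408102040810204081), (nat_lit 1000000007)⟩
noncomputable def ceD250 : List (List ℕ × ℕ × ℕ) :=
  ([nat_lit 6, nat_lit 2, nat_lit 7, nat_lit 6, nat_lit 2, nat_lit 8, nat_lit 9, nat_lit 10], (nat_lit 916402143), (nat_lit 0)) ::
  ([nat_lit 6, nat_lit 1, nat_lit 7, nat_lit 6, nat_lit 9, nat_lit 10], (nat_lit 919188223), (nat_lit 0)) ::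
  ([nat_lit 6, nat_lit 7, nat_lit 8, nat_lit 6], (nat_lit 932612659), (nat_lit 0)) ::
  ([nat_lit 6, nat_lit 7, nat_lit 8, nat_lit 6, nat_lit 1, nat_lit 8, nat_lit 9, nat_lit 10], (nat_lit 933716932), (nat_lit 0)) ::
  ([nat_lit 6, nat_lit 2, nat_lit 7, nat_lit 6, nat_lit 2, nat_lit 5], (nat_lit 933959286), (nat_lit 0)) ::
  ([nat_lit 6, nat_lit 7, nat_lit 9, nat_lit 6, nat_lit 0, nat_lit 8], (nat_lit 936033528), (nat_lit 0)) ::
  ([nat_lit 6, nat_lit 3, nat_lit 10], (nat_lit 943308040), (nat_lit 0)) ::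
  ([nat_lit 6, nat_lit 1, nat_lit 2, nat_lit 7, nat_lit 6, nat_lit 5, nat_lit 8, nat_lit 9], (nat_lit 949607600), (nat_lit 0)) ::
  ([nat_lit 6, nat_lit 0, nat_lit 7, nat_lit 6, nat_lit 4, nat_lit 2, nat_lit 8, nat_lit 9, nat_lit 10], (nat_lit 951657655), (nat_lit 0)) ::
  ([nat_lit 6, nat_lit 7, nat_lit 8, nat_lit 6, nat_lit 0], (nat_lit 954089246), (nat_lit 0)) ::
  ([nat_lit 6, nat_lit 0, nat_lit 7, nat_lit 6, nat_lit 5, nat_lit 1], (nat_lit 958487134), (nat_lit 0)) ::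
  ([nat_lit 6, nat_lit 0, nat_lit 7, nat_lit 6, nat_lit 1], (nat_lit 959120138), (nat_lit 0)) ::
  ([nat_lit 6, nat_lit 3, nat_lit 7, nat_lit 6, nat_lit 10, nat_lit 3], (nat_lit 960345034), (nat_lit 0)) ::
  ([nat_lit 6, nat_lit 1, nat_lit 7, nat_lit 6, nat_lit 1, nat_lit 4], (nat_lit 964066694), (nat_lit 0)) ::
  ([nat_lit 6, nat_lit 0, nat_lit 1, nat_lit 7, nat_lit 6, nat_lit 8], (nat_lit 965879058), (nat_lit 0)) ::
  ([nat_lit 6, nat_lit 1, nat_lit 7, nat_lit 6, nat_lit 0, nat_lit 4], (nat_lit 966735657), (nat_lit 0)) ::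
  ([nat_lit 6, nat_lit 0, nat_lit 7, nat_lit 6, nat_lit 8, nat_lit 0], (nat_lit 967728451), (nat_lit 0)) ::
  ([nat_lit 6, nat_lit 3, nat_lit 7, nat_lit 6, nat_lit 1, nat_lit 8], (nat_lit 973508502), (nat_lit 0)) ::
  ([nat_lit 6, nat_lit 0, nat_lit 7, nat_lit 6, nat_lit 0, nat_lit 10], (nat_lit 974866868), (nat_lit 0)) ::
  ([nat_lit 6, nat_lit 9, nat_lit 1], (nat_lit 975682357), (nat_lit 0)) ::
  ([nat_lit 6, nat_lit 4, nat_lit 7, nat_lit 8], (nat_lit 976193117), (nat_lit 0)) ::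
  ([nat_lit 6, nat_lit 3, nat_lit 7, nat_lit 6, nat_lit 4], (nat_lit 977961499), (nat_lit 0)) ::
  ([nat_lit 6, nat_lit 5, nat_lit 7, nat_lit 6, nat_lit 9], (nat_lit 979127231), (nat_lit 0)) ::
  ([nat_lit 6, nat_lit 9, nat_lit 1, nat_lit 7], (nat_lit 984444912), (nat_lit 0)) ::
  ([nat_lit 6, nat_lit 1, nat_lit 2, nat_lit 7, nat_lit 6, nat_lit 4, nat_lit 8, nat_lit 9, nat_lit 10], (nat_lit 985046543), (nat_lit 0)) ::
  ([nat_lit 6, nat_lit 4, nat_lit 7, nat_lit 6, nat_lit 1, nat_lit 4], (nat_lit 996143996), (nat_lit 0)) ::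
  []
noncomputable def ceD200 : List (List ℕ × ℕ × ℕ) :=
  ([nat_lit 6, nat_lit 2, nat_lit 7], (nat_lit 772490274), (nat_lit 0)) ::
  ([nat_lit 6, nat_lit 5, nat_lit 8], (nat_lit 778658726), (nat_lit 0)) ::
  ([nat_lit 6, nat_lit 0, nat_lit 7, nat_lit 6, nat_lit 4, nat_lit 2, nat_lit 8, nat_lit 9], (nat_lit 779175406), (nat_lit 0)) ::
  ([nat_lit 6, nat_lit 1, nat_lit 2, nat_lit 7, nat_lit 6, nat_lit 8, nat_lit 9], (nat_lit 780552784), (nat_lit 0)) ::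
  ([nat_lit 6, nat_lit 5, nat_lit 7, nat_lit 6], (nat_lit 781818679), (nat_lit 0)) ::
  ([nat_lit 6, nat_lit 1, nat_lit 4, nat_lit 1], (nat_lit 782268522), (nat_lit 0)) ::
  ([nat_lit 6, nat_lit 1, nat_lit 4, nat_lit 7, nat_lit 6], (nat_lit 789936627), (nat_lit 0)) ::
  ([nat_lit 6, nat_lit 7, nat_lit 9, nat_lit 6, nat_lit 9, nat_lit 7], (nat_lit 795089465), (nat_lit 0)) ::
  ([nat_lit 6, nat_lit 1, nat_lit 2, nat_lit 7, nat_lit 8, nat_lit 6, nat_lit 9, nat_lit 10, nat_lit 0], (nat_lit 795174269), (nat_lit 0)) ::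
  ([nat_lit 6, nat_lit 0, nat_lit 7, nat_lit 6, nat_lit 9, nat_lit 8], (nat_lit 795384625), (nat_lit 0)) ::
  ([nat_lit 6, nat_lit 2, nat_lit 7, nat_lit 6, nat_lit 2, nat_lit 8, nat_lit 1], (nat_lit 796290906), (nat_lit 0)) ::
  ([nat_lit 6, nat_lit 3, nat_lit 4], (nat_lit 797546929), (nat_lit 0)) ::
  ([nat_lit 6, nat_lit 9, nat_lit 7, nat_lit 6], (nat_lit 799042198), (nat_lit 0)) ::
  ([nat_lit 6, nat_lit 2, nat_lit 7, nat_lit 6, nat_lit 2], (nat_lit 800603488), (nat_lit 0)) ::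
  ([nat_lit 6, nat_lit 2, nat_lit 7, nat_lit 6, nat_lit 3, nat_lit 4], (nat_lit 808587350), (nat_lit 0)) ::
  ([nat_lit 6, nat_lit 9, nat_lit 1, nat_lit 7, nat_lit 6, nat_lit 4], (nat_lit 809375225), (nat_lit 0)) ::
  ([nat_lit 6, nat_lit 1, nat_lit 2, nat_lit 7, nat_lit 6, nat_lit 5, nat_lit 8, nat_lit 9, nat_lit 10], (nat_lit 810148401), (nat_lit 0)) ::
  ([nat_lit 6, nat_lit 0], (nat_lit 810730116), (nat_lit 0)) ::
  ([nat_lit 6, nat_lit 1, nat_lit 4, nat_lit 7, nat_lit 6, nat_lit 4], (nat_lit 812678736), (nat_lit 0)) ::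
  ([nat_lit 6, nat_lit 1, nat_lit 2, nat_lit 7, nat_lit 6, nat_lit 1], (nat_lit 816774719), (nat_lit 0)) ::
  ([nat_lit 6, nat_lit 0, nat_lit 7, nat_lit 6, nat_lit 5], (nat_lit 817208040), (nat_lit 0)) ::
  ([nat_lit 6, nat_lit 2, nat_lit 7, nat_lit 6, nat_lit 9, nat_lit 7], (nat_lit 823977622), (nat_lit 0)) ::
  ([nat_lit 6, nat_lit 1, nat_lit 2, nat_lit 7, nat_lit 8], (nat_lit 824865491), (nat_lit 0)) ::
  ([nat_lit 6, nat_lit 0, nat_lit 7, nat_lit 6, nat_lit 0], (nat_lit 831946450), (nat_lit 0)) ::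
  ([nat_lit 6, nat_lit 1, nat_lit 7, nat_lit 6, nat_lit 3, nat_lit 6], (nat_lit 832541306), (nat_lit 0)) ::
  ([nat_lit 6, nat_lit 1, nat_lit 2, nat_lit 7, nat_lit 8, nat_lit 9, nat_lit 6], (nat_lit 834587195), (nat_lit 0)) ::
  ([nat_lit 6, nat_lit 7, nat_lit 8, nat_lit 6, nat_lit 1, nat_lit 4, nat_lit 8], (nat_lit 839248473), (nat_lit 0)) ::
  ([nat_lit 6, nat_lit 3, nat_lit 7, nat_lit 6, nat_lit 8, nat_lit 3], (nat_lit 843949247), (nat_lit 0)) ::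
  ([nat_lit 6, nat_lit 0, nat_lit 1, nat_lit 7, nat_lit 6, nat_lit 1, nat_lit 2], (nat_lit 850382732), (nat_lit 0)) ::
  ([nat_lit 6, nat_lit 7, nat_lit 9, nat_lit 6, nat_lit 9], (nat_lit 854384396), (nat_lit 0)) ::
  ([nat_lit 6, nat_lit 0, nat_lit 7, nat_lit 6, nat_lit 1, nat_lit 2, nat_lit 6], (nat_lit 858109368), (nat_lit 0)) ::
  ([nat_lit 6, nat_lit 9, nat_lit 1, nat_lit 7, nat_lit 6], (nat_lit 858884454), (nat_lit 0)) ::
  ([nat_lit 6, nat_lit 7, nat_lit 0, nat_lit 6, nat_lit 4], (nat_lit 861451346), (nat_lit 0)) ::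
  ([nat_lit 6, nat_lit 4, nat_lit 7, nat_lit 6], (nat_lit 864060787), (nat_lit 0)) ::
  ([nat_lit 6, nat_lit 7, nat_lit 9, nat_lit 6, nat_lit 0, nat_lit 8, nat_lit 9, nat_lit 10], (nat_lit 869222161), (nat_lit 0)) ::
  ([nat_lit 6, nat_lit 1, nat_lit 4], (nat_lit 869402421), (nat_lit 0)) ::
  ([nat_lit 6, nat_lit 4, nat_lit 7, nat_lit 8, nat_lit 6, nat_lit 1], (nat_lit 876166411), (nat_lit 0)) ::
  ([nat_lit 6, nat_lit 7], (nat_lit 881146406), (nat_lit 0)) ::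
  ([nat_lit 6, nat_lit 4, nat_lit 7, nat_lit 8, nat_lit 6, nat_lit 3], (nat_lit 882067551), (nat_lit 0)) ::
  ([nat_lit 6, nat_lit 5, nat_lit 7, nat_lit 8, nat_lit 6], (nat_lit 889143974), (nat_lit 0)) ::
  ([nat_lit 6, nat_lit 1, nat_lit 7, nat_lit 6, nat_lit 9, nat_lit 1], (nat_lit 896233195), (nat_lit 0)) ::
  ([nat_lit 6, nat_lit 1, nat_lit 2, nat_lit 7, nat_lit 8, nat_lit 6, nat_lit 3], (nat_lit 897817036), (nat_lit 0)) ::
  ([], (nat_lit 898031521), (nat_lit 0)) ::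
  ([nat_lit 6, nat_lit 1, nat_lit 4, nat_lit 7, nat_lit 6, nat_lit 0], (nat_lit 898794452), (nat_lit 0)) ::
  ([nat_lit 6, nat_lit 3, nat_lit 7, nat_lit 6, nat_lit 2, nat_lit 6], (nat_lit 901596623), (nat_lit 0)) ::
  ([nat_lit 6, nat_lit 7, nat_lit 8, nat_lit 6, nat_lit 3], (nat_lit 903447188), (nat_lit 0)) ::
  ([nat_lit 6, nat_lit 9, nat_lit 7, nat_lit 6, nat_lit 4, nat_lit 9], (nat_lit 904467801), (nat_lit 0)) ::
  ([nat_lit 6, nat_lit 4, nat_lit 7, nat_lit 6, nat_lit 0], (nat_lit 913598967), (nat_lit 0)) ::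
  ([nat_lit 6, nat_lit 3, nat_lit 7, nat_lit 6, nat_lit 2, nat_lit 10], (nat_lit 914464566), (nat_lit 0)) ::
  ([nat_lit 6, nat_lit 0, nat_lit 7, nat_lit 6, nat_lit 9, nat_lit 1], (nat_lit 914528896), (nat_lit 0)) ::
  ceD250
noncomputable def ceD150 : List (List ℕ × ℕ × ℕ) :=
  ([nat_lit 6, nat_lit 1, nat_lit 2, nat_lit 7, nat_lit 8, nat_lit 6], (nat_lit 541399681), (nat_lit 0)) ::
  ([nat_lit 6, nat_lit 2, nat_lit 7, nat_lit 6, nat_lit 5, nat_lit 0], (nat_lit 543135754), (nat_lit 0)) ::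
  ([nat_lit 6, nat_lit 7, nat_lit 8, nat_lit 6, nat_lit 4], (nat_lit 553530502), (nat_lit 0)) ::
  ([nat_lit 6, nat_lit 9], (nat_lit 553727712), (nat_lit 0)) ::
  ([nat_lit 6, nat_lit 0, nat_lit 1, nat_lit 7, nat_lit 6, nat_lit 1], (nat_lit 554073614), (nat_lit 0)) ::
  ([nat_lit 6, nat_lit 1, nat_lit 4, nat_lit 7, nat_lit 6, nat_lit 8], (nat_lit 564964266), (nat_lit 0)) ::
  ([nat_lit 6, nat_lit 1, nat_lit 2, nat_lit 7, nat_lit 8, nat_lit 6, nat_lit 0], (nat_lit 570125540), (nat_lit 0)) ::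
  ([nat_lit 6, nat_lit 2, nat_lit 7, nat_lit 6, nat_lit 9, nat_lit 6], (nat_lit 570412023), (nat_lit 0)) ::
  ([nat_lit 6, nat_lit 4, nat_lit 7, nat_lit 6, nat_lit 4, nat_lit 8], (nat_lit 572934803), (nat_lit 0)) ::
  ([nat_lit 6, nat_lit 1, nat_lit 2, nat_lit 7, nat_lit 8, nat_lit 6, nat_lit 9, nat_lit 10, nat_lit 0, nat_lit 8, nat_lit 9], (nat_lit 575064117), (nat_lit 0)) ::
  ([nat_lit 6, nat_lit 3, nat_lit 7, nat_lit 6, nat_lit 3, nat_lit 10], (nat_lit 583594601), (nat_lit 0)) ::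
  ([nat_lit 6, nat_lit 7, nat_lit 9, nat_lit 6, nat_lit 5], (nat_lit 593191260), (nat_lit 0)) ::
  ([nat_lit 6, nat_lit 0, nat_lit 7, nat_lit 6, nat_lit 4, nat_lit 2], (nat_lit 599632241), (nat_lit 0)) ::
  ([nat_lit 6, nat_lit 2], (nat_lit 603251728), (nat_lit 0)) ::
  ([nat_lit 6, nat_lit 7, nat_lit 8, nat_lit 6, nat_lit 1, nat_lit 8, nat_lit 9], (nat_lit 603532711), (nat_lit 0)) ::
  ([nat_lit 6, nat_lit 7, nat_lit 0], (nat_lit 606355509), (nat_lit 0)) ::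
  ([nat_lit 6], (nat_lit 610273951), (nat_lit 0)) ::
  ([nat_lit 6, nat_lit 0, nat_lit 7, nat_lit 6, nat_lit 2], (nat_lit 616346452), (nat_lit 0)) ::
  ([nat_lit 6, nat_lit 1, nat_lit 2, nat_lit 7, nat_lit 6, nat_lit 8, nat_lit 9, nat_lit 6], (nat_lit 617044154), (nat_lit 0)) ::
  ([nat_lit 6, nat_lit 1, nat_lit 2, nat_lit 7, nat_lit 6, nat_lit 8, nat_lit 9, nat_lit 8, nat_lit 10], (nat_lit 627507012), (nat_lit 0)) ::
  ([nat_lit 6, nat_lit 1, nat_lit 2, nat_lit 7, nat_lit 6, nat_lit 4], (nat_lit 633545096), (nat_lit 0)) ::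
  ([nat_lit 6, nat_lit 2, nat_lit 7, nat_lit 6, nat_lit 2, nat_lit 8, nat_lit 1, nat_lit 9], (nat_lit 635787123), (nat_lit 0)) ::
  ([nat_lit 6, nat_lit 2, nat_lit 7, nat_lit 6, nat_lit 3], (nat_lit 638131713), (nat_lit 0)) ::
  ([nat_lit 6, nat_lit 5, nat_lit 7, nat_lit 8, nat_lit 6, nat_lit 1], (nat_lit 638451415), (nat_lit 0)) ::
  ([nat_lit 6, nat_lit 0, nat_lit 7, nat_lit 6, nat_lit 9, nat_lit 6], (nat_lit 639967726), (nat_lit 0)) ::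
  ([nat_lit 6, nat_lit 9, nat_lit 7, nat_lit 6, nat_lit 4], (nat_lit 649881185), (nat_lit 0)) ::
  ([nat_lit 6, nat_lit 3, nat_lit 7, nat_lit 6, nat_lit 5], (nat_lit 656815352), (nat_lit 0)) ::
  ([nat_lit 6, nat_lit 0, nat_lit 7, nat_lit 6, nat_lit 1, nat_lit 2, nat_lit 8, nat_lit 9], (nat_lit 658899542), (nat_lit 0)) ::
  ([nat_lit 6, nat_lit 4, nat_lit 7], (nat_lit 673552755), (nat_lit 0)) ::
  ([nat_lit 6, nat_lit 1, nat_lit 7, nat_lit 6], (nat_lit 675385210), (nat_lit 0)) ::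
  ([nat_lit 6, nat_lit 1, nat_lit 2, nat_lit 7, nat_lit 8, nat_lit 9, nat_lit 6, nat_lit 10], (nat_lit 676408076), (nat_lit 0)) ::
  ([nat_lit 6, nat_lit 3, nat_lit 7, nat_lit 6, nat_lit 1, nat_lit 2], (nat_lit 677811409), (nat_lit 0)) ::
  ([nat_lit 6, nat_lit 4, nat_lit 7, nat_lit 6, nat_lit 8], (nat_lit 684940077), (nat_lit 0)) ::
  ([nat_lit 6, nat_lit 3], (nat_lit 692405807), (nat_lit 0)) ::
  ([nat_lit 6, nat_lit 5, nat_lit 7, nat_lit 6, nat_lit 2], (nat_lit 693456438), (nat_lit 0)) ::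
  ([nat_lit 6, nat_lit 1, nat_lit 7, nat_lit 6, nat_lit 9], (nat_lit 700656588), (nat_lit 0)) ::
  ([nat_lit 6, nat_lit 1, nat_lit 2, nat_lit 7, nat_lit 6, nat_lit 4, nat_lit 8], (nat_lit 704343051), (nat_lit 0)) ::
  ([nat_lit 6, nat_lit 1, nat_lit 2, nat_lit 7, nat_lit 8, nat_lit 6, nat_lit 9, nat_lit 10], (nat_lit 707968566), (nat_lit 0)) ::
  ([nat_lit 6, nat_lit 1, nat_lit 2, nat_lit 8], (nat_lit 711141882), (nat_lit 0)) ::
  ([nat_lit 6, nat_lit 1, nat_lit 7, nat_lit 6, nat_lit 2], (nat_lit 718865130), (nat_lit 0)) ::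
  ([nat_lit 6, nat_lit 0, nat_lit 7, nat_lit 6, nat_lit 4], (nat_lit 721255874), (nat_lit 0)) ::
  ([nat_lit 6, nat_lit 3, nat_lit 7, nat_lit 6, nat_lit 5, nat_lit 8], (nat_lit 734314230), (nat_lit 0)) ::
  ([nat_lit 6, nat_lit 4, nat_lit 7, nat_lit 6, nat_lit 9, nat_lit 3], (nat_lit 735574002), (nat_lit 0)) ::
  ([nat_lit 6, nat_lit 5, nat_lit 7, nat_lit 8], (nat_lit 742053312), (nat_lit 0)) ::
  ([nat_lit 6, nat_lit 3, nat_lit 7, nat_lit 6, nat_lit 2], (nat_lit 746417179), (nat_lit 0)) ::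
  ([nat_lit 6, nat_lit 1, nat_lit 2, nat_lit 7, nat_lit 6, nat_lit 4, nat_lit 8, nat_lit 9], (nat_lit 750327109), (nat_lit 0)) ::
  ([nat_lit 6, nat_lit 0, nat_lit 7, nat_lit 6, nat_lit 1, nat_lit 2], (nat_lit 752415136), (nat_lit 0)) ::
  ([nat_lit 6, nat_lit 4, nat_lit 7, nat_lit 8, nat_lit 6, nat_lit 4], (nat_lit 754601388), (nat_lit 0)) ::
  ([nat_lit 6, nat_lit 1, nat_lit 2, nat_lit 7, nat_lit 8, nat_lit 6, nat_lit 3, nat_lit 9], (nat_lit 759864582), (nat_lit 0)) ::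
  ([nat_lit 6, nat_lit 4, nat_lit 7, nat_lit 6, nat_lit 0, nat_lit 1], (nat_lit 765750953), (nat_lit 0)) ::
  ceD200
noncomputable def ceD100 : List (List ℕ × ℕ × ℕ) :=
  ([nat_lit 6, nat_lit 1, nat_lit 2, nat_lit 7, nat_lit 8, nat_lit 6, nat_lit 9, nat_lit 3, nat_lit 10], (nat_lit 352978487), (nat_lit 0)) ::
  ([nat_lit 6, nat_lit 7, nat_lit 9, nat_lit 6, nat_lit 2], (nat_lit 360800552), (nat_lit 0)) ::
  ([nat_lit 6, nat_lit 0, nat_lit 7, nat_lit 6, nat_lit 0, nat_lit 4], (nat_lit 364887827), (nat_lit 0)) ::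
  ([nat_lit 6, nat_lit 5, nat_lit 7], (nat_lit 367066744), (nat_lit 0)) ::
  ([nat_lit 6, nat_lit 9, nat_lit 7, nat_lit 6, nat_lit 1], (nat_lit 369885407), (nat_lit 0)) ::
  ([nat_lit 6, nat_lit 2, nat_lit 7, nat_lit 6, nat_lit 2, nat_lit 8, nat_lit 1, nat_lit 9, nat_lit 8], (nat_lit 374737519), (nat_lit 0)) ::
  ([nat_lit 6, nat_lit 1, nat_lit 2, nat_lit 7, nat_lit 6, nat_lit 5], (nat_lit 376569272), (nat_lit 0)) ::
  ([nat_lit 6, nat_lit 1, nat_lit 7, nat_lit 6, nat_lit 3, nat_lit 4], (nat_lit 377820809), (nat_lit 0)) ::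
  ([nat_lit 6, nat_lit 4, nat_lit 7, nat_lit 6, nat_lit 4], (nat_lit 384205531), (nat_lit 0)) ::
  ([nat_lit 6, nat_lit 5, nat_lit 7, nat_lit 8, nat_lit 6, nat_lit 4], (nat_lit 385344947), (nat_lit 0)) ::
  ([nat_lit 6, nat_lit 0, nat_lit 3], (nat_lit 388939781), (nat_lit 0)) ::
  ([nat_lit 6, nat_lit 1, nat_lit 7, nat_lit 6, nat_lit 0], (nat_lit 410450092), (nat_lit 0)) ::
  ([nat_lit 6, nat_lit 7, nat_lit 8, nat_lit 6, nat_lit 1, nat_lit 8], (nat_lit 415760612), (nat_lit 0)) ::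
  ([nat_lit 6, nat_lit 0, nat_lit 7, nat_lit 6, nat_lit 8], (nat_lit 416466625), (nat_lit 0)) ::
  ([nat_lit 6, nat_lit 1, nat_lit 2, nat_lit 7, nat_lit 6, nat_lit 8], (nat_lit 417887689), (nat_lit 0)) ::
  ([nat_lit 6, nat_lit 1, nat_lit 2, nat_lit 7, nat_lit 8, nat_lit 9, nat_lit 6, nat_lit 10, nat_lit 3], (nat_lit 420504336), (nat_lit 0)) ::
  ([nat_lit 6, nat_lit 2, nat_lit 7, nat_lit 6, nat_lit 4, nat_lit 2], (nat_lit 421629662), (nat_lit 0)) ::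
  ([nat_lit 6, nat_lit 1, nat_lit 2, nat_lit 7, nat_lit 8, nat_lit 6, nat_lit 9], (nat_lit 426162155), (nat_lit 0)) ::
  ([nat_lit 6, nat_lit 7, nat_lit 0, nat_lit 6], (nat_lit 427887988), (nat_lit 0)) ::
  ([nat_lit 6, nat_lit 1, nat_lit 2, nat_lit 7, nat_lit 8, nat_lit 6, nat_lit 0, nat_lit 9, nat_lit 10], (nat_lit 438093559), (nat_lit 0)) ::
  ([nat_lit 6, nat_lit 9, nat_lit 1, nat_lit 7, nat_lit 6, nat_lit 9], (nat_lit 438965267), (nat_lit 0)) ::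
  ([nat_lit 6, nat_lit 0, nat_lit 7, nat_lit 6, nat_lit 9], (nat_lit 441660601), (nat_lit 0)) ::
  ([nat_lit 6, nat_lit 1, nat_lit 2, nat_lit 7, nat_lit 6, nat_lit 3], (nat_lit 444337067), (nat_lit 0)) ::
  ([nat_lit 6, nat_lit 1], (nat_lit 446148550), (nat_lit 0)) ::
  ([nat_lit 6, nat_lit 7, nat_lit 8], (nat_lit 450362357), (nat_lit 0)) ::
  ([nat_lit 6, nat_lit 5, nat_lit 7, nat_lit 6, nat_lit 8, nat_lit 6], (nat_lit 452456300), (nat_lit 0)) ::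
  ([nat_lit 6, nat_lit 7, nat_lit 9], (nat_lit 457039961), (nat_lit 0)) ::
  ([nat_lit 6, nat_lit 2, nat_lit 7, nat_lit 6, nat_lit 0], (nat_lit 458250241), (nat_lit 0)) ::
  ([nat_lit 6, nat_lit 7, nat_lit 8, nat_lit 6, nat_lit 0, nat_lit 1], (nat_lit 464230878), (nat_lit 0)) ::
  ([nat_lit 6, nat_lit 1, nat_lit 7, nat_lit 6, nat_lit 4, nat_lit 3], (nat_lit 468127327), (nat_lit 0)) ::
  ([nat_lit 6, nat_lit 1, nat_lit 7, nat_lit 6, nat_lit 5], (nat_lit 474796174), (nat_lit 0)) ::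
  ([nat_lit 6, nat_lit 3, nat_lit 7, nat_lit 10], (nat_lit 476763026), (nat_lit 0)) ::
  ([nat_lit 6, nat_lit 2, nat_lit 7, nat_lit 6], (nat_lit 482283875), (nat_lit 0)) ::
  ([nat_lit 6, nat_lit 4, nat_lit 7, nat_lit 8, nat_lit 6], (nat_lit 484850211), (nat_lit 0)) ::
  ([nat_lit 6, nat_lit 0, nat_lit 1, nat_lit 7, nat_lit 6, nat_lit 5], (nat_lit 491071990), (nat_lit 0)) ::
  ([nat_lit 6, nat_lit 2, nat_lit 7, nat_lit 6, nat_lit 2, nat_lit 8, nat_lit 9], (nat_lit 492101841), (nat_lit 0)) ::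
  ([nat_lit 6, nat_lit 7, nat_lit 9, nat_lit 6], (nat_lit 492391531), (nat_lit 0)) ::
  ([nat_lit 6, nat_lit 7, nat_lit 8, nat_lit 6, nat_lit 1, nat_lit 5, nat_lit 8], (nat_lit 497405084), (nat_lit 0)) ::
  ([nat_lit 6, nat_lit 7, nat_lit 9, nat_lit 6, nat_lit 5, nat_lit 0], (nat_lit 498238574), (nat_lit 0)) ::
  ([nat_lit 6, nat_lit 3, nat_lit 7], (nat_lit 504723333), (nat_lit 0)) ::
  ([nat_lit 6, nat_lit 1, nat_lit 2, nat_lit 7, nat_lit 6], (nat_lit 505330152), (nat_lit 0)) ::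
  ([nat_lit 6, nat_lit 0, nat_lit 1, nat_lit 7, nat_lit 6, nat_lit 4], (nat_lit 507577341), (nat_lit 0)) ::
  ([nat_lit 6, nat_lit 0, nat_lit 1, nat_lit 7, nat_lit 6, nat_lit 2], (nat_lit 508017026), (nat_lit 0)) ::
  ([nat_lit 6, nat_lit 1, nat_lit 2, nat_lit 7, nat_lit 6, nat_lit 5, nat_lit 8], (nat_lit 508370822), (nat_lit 0)) ::
  ([nat_lit 6, nat_lit 1, nat_lit 2], (nat_lit 516550465), (nat_lit 0)) ::
  ([nat_lit 6, nat_lit 1, nat_lit 7, nat_lit 6, nat_lit 4], (nat_lit 517296609), (nat_lit 0)) ::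
  ([nat_lit 6, nat_lit 7, nat_lit 8, nat_lit 6, nat_lit 1], (nat_lit 524095249), (nat_lit 0)) ::
  ([nat_lit 6, nat_lit 9, nat_lit 7, nat_lit 6, nat_lit 3], (nat_lit 531541040), (nat_lit 0)) ::
  ([nat_lit 6, nat_lit 0, nat_lit 7, nat_lit 6, nat_lit 5, nat_lit 8], (nat_lit 532384840), (nat_lit 0)) ::
  ([nat_lit 6, nat_lit 1, nat_lit 4, nat_lit 7, nat_lit 6, nat_lit 5], (nat_lit 535802129), (nat_lit 0)) ::
  ceD150
noncomputable def ceD50 : List (List ℕ × ℕ × ℕ) :=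
  ([nat_lit 6, nat_lit 3, nat_lit 7, nat_lit 6, nat_lit 10, nat_lit 9], (nat_lit 189272453), (nat_lit 0)) ::
  ([nat_lit 6, nat_lit 1, nat_lit 2, nat_lit 7, nat_lit 8, nat_lit 6, nat_lit 5], (nat_lit 193702128), (nat_lit 0)) ::
  ([nat_lit 6, nat_lit 1, nat_lit 7, nat_lit 6, nat_lit 9, nat_lit 6], (nat_lit 203394448), (nat_lit 0)) ::
  ([nat_lit 6, nat_lit 0, nat_lit 7, nat_lit 6, nat_lit 1, nat_lit 2, nat_lit 8, nat_lit 9, nat_lit 10], (nat_lit 203650913), (nat_lit 0)) ::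
  ([nat_lit 6, nat_lit 1, nat_lit 7], (nat_lit 203863187), (nat_lit 0)) ::
  ([nat_lit 6, nat_lit 9, nat_lit 7, nat_lit 6, nat_lit 5], (nat_lit 204703909), (nat_lit 0)) ::
  ([nat_lit 6, nat_lit 7, nat_lit 8, nat_lit 6, nat_lit 1, nat_lit 5], (nat_lit 205569782), (nat_lit 0)) ::
  ([nat_lit 6, nat_lit 1, nat_lit 2, nat_lit 7], (nat_lit 206426497), (nat_lit 0)) ::
  ([nat_lit 6, nat_lit 0, nat_lit 7, nat_lit 6], (nat_lit 210800448), (nat_lit 0)) ::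
  ([nat_lit 6, nat_lit 1, nat_lit 2, nat_lit 7, nat_lit 8, nat_lit 6, nat_lit 4], (nat_lit 211155886), (nat_lit 0)) ::
  ([nat_lit 6, nat_lit 4, nat_lit 7, nat_lit 8, nat_lit 6, nat_lit 0], (nat_lit 211896055), (nat_lit 0)) ::
  ([nat_lit 6, nat_lit 7, nat_lit 9, nat_lit 6, nat_lit 3], (nat_lit 218239273), (nat_lit 0)) ::
  ([nat_lit 6, nat_lit 0, nat_lit 1, nat_lit 7, nat_lit 6, nat_lit 9], (nat_lit 226052409), (nat_lit 0)) ::
  ([nat_lit 6, nat_lit 1, nat_lit 4, nat_lit 7], (nat_lit 226103527), (nat_lit 0)) ::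
  ([nat_lit 6, nat_lit 9, nat_lit 7, nat_lit 6, nat_lit 2], (nat_lit 232170328), (nat_lit 0)) ::
  ([nat_lit 6, nat_lit 1, nat_lit 2, nat_lit 7, nat_lit 6, nat_lit 9, nat_lit 8], (nat_lit 235940614), (nat_lit 0)) ::
  ([nat_lit 6, nat_lit 5, nat_lit 7, nat_lit 6, nat_lit 8], (nat_lit 242086206), (nat_lit 0)) ::
  ([nat_lit 6, nat_lit 9, nat_lit 7], (nat_lit 249843360), (nat_lit 0)) ::
  ([nat_lit 6, nat_lit 0, nat_lit 7], (nat_lit 254272521), (nat_lit 0)) ::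
  ([nat_lit 6, nat_lit 0, nat_lit 7, nat_lit 6, nat_lit 0, nat_lit 8], (nat_lit 255180935), (nat_lit 0)) ::
  ([nat_lit 6, nat_lit 1, nat_lit 2, nat_lit 7, nat_lit 6, nat_lit 8, nat_lit 9, nat_lit 6, nat_lit 10], (nat_lit 262136583), (nat_lit 0)) ::
  ([nat_lit 6, nat_lit 0, nat_lit 7, nat_lit 6, nat_lit 9, nat_lit 10], (nat_lit 262915238), (nat_lit 0)) ::
  ([nat_lit 6, nat_lit 5, nat_lit 7, nat_lit 6, nat_lit 0], (nat_lit 271117071), (nat_lit 0)) ::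
  ([nat_lit 6, nat_lit 3, nat_lit 7, nat_lit 6, nat_lit 1, nat_lit 2, nat_lit 8, nat_lit 9], (nat_lit 279472407), (nat_lit 0)) ::
  ([nat_lit 6, nat_lit 1, nat_lit 7, nat_lit 6, nat_lit 2, nat_lit 4], (nat_lit 281103806), (nat_lit 0)) ::
  ([nat_lit 6, nat_lit 1, nat_lit 2, nat_lit 7, nat_lit 8, nat_lit 6, nat_lit 5, nat_lit 9], (nat_lit 281934453), (nat_lit 0)) ::
  ([nat_lit 6, nat_lit 5], (nat_lit 284799628), (nat_lit 0)) ::
  ([nat_lit 6, nat_lit 1, nat_lit 7, nat_lit 6, nat_lit 1, nat_lit 2], (nat_lit 285348828), (nat_lit 0)) ::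
  ([nat_lit 6, nat_lit 1, nat_lit 7, nat_lit 6, nat_lit 5, nat_lit 1], (nat_lit 292282452), (nat_lit 0)) ::
  ([nat_lit 6, nat_lit 7, nat_lit 9, nat_lit 1, nat_lit 6], (nat_lit 292347320), (nat_lit 0)) ::
  ([nat_lit 6, nat_lit 9, nat_lit 7, nat_lit 6, nat_lit 0], (nat_lit 293653399), (nat_lit 0)) ::
  ([nat_lit 6, nat_lit 1, nat_lit 7, nat_lit 6, nat_lit 2, nat_lit 5], (nat_lit 294193562), (nat_lit 0)) ::
  ([nat_lit 6, nat_lit 7, nat_lit 8, nat_lit 6, nat_lit 5], (nat_lit 300172701), (nat_lit 0)) ::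
  ([nat_lit 6, nat_lit 9, nat_lit 7, nat_lit 6, nat_lit 1, nat_lit 2], (nat_lit 303831549), (nat_lit 0)) ::
  ([nat_lit 6, nat_lit 7, nat_lit 0, nat_lit 6, nat_lit 0], (nat_lit 304200840), (nat_lit 0)) ::
  ([nat_lit 6, nat_lit 1, nat_lit 4, nat_lit 7, nat_lit 6, nat_lit 4, nat_lit 8], (nat_lit 314068589), (nat_lit 0)) ::
  ([nat_lit 6, nat_lit 1, nat_lit 2, nat_lit 7, nat_lit 8, nat_lit 6, nat_lit 0, nat_lit 9], (nat_lit 314889756), (nat_lit 0)) ::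
  ([nat_lit 6, nat_lit 1, nat_lit 2, nat_lit 7, nat_lit 6, nat_lit 8, nat_lit 9, nat_lit 8], (nat_lit 318048220), (nat_lit 0)) ::
  ([nat_lit 6, nat_lit 3, nat_lit 7, nat_lit 6, nat_lit 4, nat_lit 2], (nat_lit 322315329), (nat_lit 0)) ::
  ([nat_lit 6, nat_lit 0, nat_lit 1, nat_lit 7, nat_lit 6], (nat_lit 326112122), (nat_lit 0)) ::
  ([nat_lit 6, nat_lit 7, nat_lit 9, nat_lit 6, nat_lit 0], (nat_lit 327252161), (nat_lit 0)) ::
  ([nat_lit 6, nat_lit 1, nat_lit 7, nat_lit 6, nat_lit 4, nat_lit 2], (nat_lit 336589906), (nat_lit 0)) ::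
  ([nat_lit 6, nat_lit 1, nat_lit 7, nat_lit 6, nat_lit 5, nat_lit 0], (nat_lit 336840395), (nat_lit 0)) ::
  ([nat_lit 6, nat_lit 1, nat_lit 2, nat_lit 8, nat_lit 9], (nat_lit 339711530), (nat_lit 0)) ::
  ([nat_lit 6, nat_lit 3, nat_lit 7, nat_lit 6, nat_lit 8], (nat_lit 340849920), (nat_lit 0)) ::
  ([nat_lit 6, nat_lit 8], (nat_lit 344436217), (nat_lit 0)) ::
  ([nat_lit 6, nat_lit 2, nat_lit 7, nat_lit 6, nat_lit 9], (nat_lit 345377640), (nat_lit 0)) ::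
  ([nat_lit 6, nat_lit 1, nat_lit 7, nat_lit 6, nat_lit 1, nat_lit 4, nat_lit 1], (nat_lit 346890593), (nat_lit 0)) ::
  ([nat_lit 6, nat_lit 1, nat_lit 2, nat_lit 7, nat_lit 6, nat_lit 0], (nat_lit 349338903), (nat_lit 0)) ::
  ([nat_lit 6, nat_lit 7, nat_lit 9, nat_lit 6, nat_lit 4], (nat_lit 351690188), (nat_lit 0)) ::
  ceD100
noncomputable def ceD : List (List ℕ × ℕ × ℕ) :=
  ([nat_lit 6, nat_lit 3, nat_lit 7, nat_lit 6, nat_lit 1], (nat_lit 5746718), (nat_lit 0)) ::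
  ([nat_lit 6, nat_lit 0, nat_lit 1], (nat_lit 9244887), (nat_lit 0)) ::
  ([nat_lit 6, nat_lit 1, nat_lit 2, nat_lit 7, nat_lit 8, nat_lit 9], (nat_lit 11069624), (nat_lit 0)) ::
  ([nat_lit 6, nat_lit 1, nat_lit 2, nat_lit 7, nat_lit 8, nat_lit 6, nat_lit 9, nat_lit 3], (nat_lit 12544627), (nat_lit 0)) ::
  ([nat_lit 6, nat_lit 1, nat_lit 4, nat_lit 7, nat_lit 6, nat_lit 9], (nat_lit 14485773), (nat_lit 0)) ::
  ([nat_lit 6, nat_lit 4, nat_lit 7, nat_lit 8, nat_lit 6, nat_lit 9], (nat_lit 24880301), (nat_lit 0)) ::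
  ([nat_lit 6, nat_lit 4, nat_lit 7, nat_lit 6, nat_lit 2], (nat_lit 25725530), (nat_lit 0)) ::
  ([nat_lit 6, nat_lit 1, nat_lit 2, nat_lit 7, nat_lit 8, nat_lit 9, nat_lit 10], (nat_lit 35344514), (nat_lit 0)) ::
  ([nat_lit 6, nat_lit 1, nat_lit 2, nat_lit 7, nat_lit 8, nat_lit 6, nat_lit 3, nat_lit 9, nat_lit 10], (nat_lit 36762060), (nat_lit 0)) ::
  ([nat_lit 6, nat_lit 0, nat_lit 7, nat_lit 6, nat_lit 4, nat_lit 2, nat_lit 8], (nat_lit 42730209), (nat_lit 0)) ::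
  ([nat_lit 6, nat_lit 2, nat_lit 7, nat_lit 6, nat_lit 4], (nat_lit 49801177), (nat_lit 0)) ::
  ([nat_lit 6, nat_lit 2, nat_lit 7, nat_lit 6, nat_lit 0, nat_lit 7], (nat_lit 51902674), (nat_lit 0)) ::
  ([nat_lit 6, nat_lit 4, nat_lit 7, nat_lit 6, nat_lit 0, nat_lit 10], (nat_lit 53067677), (nat_lit 0)) ::
  ([nat_lit 6, nat_lit 7, nat_lit 9, nat_lit 6, nat_lit 0, nat_lit 8, nat_lit 9], (nat_lit 57639582), (nat_lit 0)) ::
  ([nat_lit 6, nat_lit 0, nat_lit 1, nat_lit 7, nat_lit 6, nat_lit 0], (nat_lit 58032575), (nat_lit 0)) ::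
  ([nat_lit 6, nat_lit 7, nat_lit 0, nat_lit 6, nat_lit 5], (nat_lit 63917945), (nat_lit 0)) ::
  ([nat_lit 6, nat_lit 2, nat_lit 7, nat_lit 6, nat_lit 5, nat_lit 1], (nat_lit 64163136), (nat_lit 0)) ::
  ([nat_lit 6, nat_lit 2, nat_lit 7, nat_lit 6, nat_lit 2, nat_lit 8, nat_lit 9, nat_lit 3], (nat_lit 65034469), (nat_lit 0)) ::
  ([nat_lit 6, nat_lit 3, nat_lit 7, nat_lit 6], (nat_lit 66196733), (nat_lit 0)) ::
  ([nat_lit 6, nat_lit 2, nat_lit 7, nat_lit 6, nat_lit 5], (nat_lit 67815183), (nat_lit 0)) ::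
  ([nat_lit 6, nat_lit 1, nat_lit 2, nat_lit 7, nat_lit 6, nat_lit 8, nat_lit 9, nat_lit 10], (nat_lit 68140153), (nat_lit 0)) ::
  ([nat_lit 6, nat_lit 5, nat_lit 7, nat_lit 6, nat_lit 1], (nat_lit 68245005), (nat_lit 0)) ::
  ([nat_lit 6, nat_lit 7, nat_lit 8, nat_lit 6, nat_lit 1, nat_lit 4], (nat_lit 68396903), (nat_lit 0)) ::
  ([nat_lit 6, nat_lit 4, nat_lit 7, nat_lit 6, nat_lit 1], (nat_lit 73228500), (nat_lit 0)) ::
  ([nat_lit 6, nat_lit 1, nat_lit 7, nat_lit 6, nat_lit 3], (nat_lit 97268843), (nat_lit 0)) ::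
  ([nat_lit 6, nat_lit 1, nat_lit 2, nat_lit 7, nat_lit 6, nat_lit 9], (nat_lit 100969703), (nat_lit 0)) ::
  ([nat_lit 6, nat_lit 2, nat_lit 7, nat_lit 6, nat_lit 2, nat_lit 8, nat_lit 0], (nat_lit 106121476), (nat_lit 0)) ::
  ([nat_lit 6, nat_lit 1, nat_lit 4, nat_lit 7, nat_lit 6, nat_lit 2], (nat_lit 109250487), (nat_lit 0)) ::
  ([nat_lit 6, nat_lit 0, nat_lit 7, nat_lit 6, nat_lit 1, nat_lit 2, nat_lit 8], (nat_lit 117462675), (nat_lit 0)) ::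
  ([nat_lit 6, nat_lit 1, nat_lit 2, nat_lit 8, nat_lit 9, nat_lit 10], (nat_lit 123383806), (nat_lit 0)) ::
  ([nat_lit 6, nat_lit 2, nat_lit 7, nat_lit 6, nat_lit 2, nat_lit 8], (nat_lit 125695654), (nat_lit 0)) ::
  ([nat_lit 6, nat_lit 4, nat_lit 7, nat_lit 8, nat_lit 6, nat_lit 5], (nat_lit 129922194), (nat_lit 0)) ::
  ([nat_lit 6, nat_lit 3, nat_lit 7, nat_lit 6, nat_lit 1, nat_lit 2, nat_lit 8], (nat_lit 137831498), (nat_lit 0)) ::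
  ([nat_lit 6, nat_lit 1, nat_lit 4, nat_lit 7, nat_lit 6, nat_lit 3], (nat_lit 139845493), (nat_lit 0)) ::
  ([nat_lit 6, nat_lit 4, nat_lit 7, nat_lit 6, nat_lit 9], (nat_lit 144054272), (nat_lit 0)) ::
  ([nat_lit 6, nat_lit 1, nat_lit 7, nat_lit 6, nat_lit 4, nat_lit 1], (nat_lit 144203992), (nat_lit 0)) ::
  ([nat_lit 6, nat_lit 2, nat_lit 7, nat_lit 6, nat_lit 2, nat_lit 8, nat_lit 9, nat_lit 3, nat_lit 10], (nat_lit 144490742), (nat_lit 0)) ::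
  ([nat_lit 6, nat_lit 3, nat_lit 7, nat_lit 6, nat_lit 3], (nat_lit 148976112), (nat_lit 0)) ::
  ([nat_lit 6, nat_lit 5, nat_lit 7, nat_lit 6, nat_lit 1, nat_lit 5], (nat_lit 153473858), (nat_lit 0)) ::
  ([nat_lit 6, nat_lit 7, nat_lit 9, nat_lit 1], (nat_lit 153802046), (nat_lit 0)) ::
  ([nat_lit 6, nat_lit 1, nat_lit 7, nat_lit 6, nat_lit 1], (nat_lit 155701424), (nat_lit 0)) ::
  ([nat_lit 6, nat_lit 9, nat_lit 7, nat_lit 6, nat_lit 9], (nat_lit 158166651), (nat_lit 0)) ::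
  ([nat_lit 6, nat_lit 4], (nat_lit 159425824), (nat_lit 0)) ::
  ([nat_lit 6, nat_lit 1, nat_lit 2, nat_lit 7, nat_lit 8, nat_lit 6, nat_lit 5, nat_lit 9, nat_lit 10], (nat_lit 160515035), (nat_lit 0)) ::
  ([nat_lit 6, nat_lit 0, nat_lit 1, nat_lit 7], (nat_lit 160553268), (nat_lit 0)) ::
  ([nat_lit 6, nat_lit 4, nat_lit 8], (nat_lit 163320950), (nat_lit 0)) ::
  ([nat_lit 6, nat_lit 7, nat_lit 9, nat_lit 6, nat_lit 8], (nat_lit 166161117), (nat_lit 0)) ::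
  ([nat_lit 6, nat_lit 0, nat_lit 7, nat_lit 6, nat_lit 8, nat_lit 9], (nat_lit 171186082), (nat_lit 0)) ::
  ([nat_lit 6, nat_lit 1, nat_lit 2, nat_lit 7, nat_lit 8, nat_lit 6, nat_lit 9, nat_lit 10, nat_lit 0, nat_lit 8], (nat_lit 173727762), (nat_lit 0)) ::
  ([nat_lit 6, nat_lit 3, nat_lit 7, nat_lit 6, nat_lit 10], (nat_lit 187348725), (nat_lit 0)) ::
  ceD50
def ceq : FP 7 112 2 := FP.std 7 112 2 7 1 1
theorem ceok : ceq.OK := FP.std_ok (by decide +kernel)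
noncomputable def ce : DC.Cl := ⟨Iv, J4d.Ws, J4d.sL, [nat_lit 11, nat_lit 7, nat_lit 11, nat_lit 7], ceD, (nat_lit 12), (nat_lit 6), (nat_lit 0x4080000000100040010204081000008100040000204001000008002000810000081020000102040010000000000408102000810000000020000102000810204080020400002040810200081020008000040000200000020408002000000004001020008100040800204001000408000000800200080000408102000800200080020400100000000004081000008002000810204000020400002040000200001020008002040810004001020000000040800000080000008002040810204000000400002040010204081000408100000010200081020008102040810004000020400000040010004080000000000000000004080020000002040800200000020000102040000204081020000002000810000000000408100040000200081020008102040800000081020408100000800000001000008002000010000000020400002000010204081020400100040010204080020008000000800000080020000000040810000080000008000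040000000001020400002000800004081000000102040000200081020400002040000004080000408000040000200080000400000000000200000020000002040810204001000000000040010004080020400100000810200080000408000040010204080020008100000000204081000400000040810000001000008102040810204001020408002000000204080000408102040810204081000408000040810204080020408002000000204000000408000040810204080000408100040810204000000400102040800204001020400102040810204081020408102040810000000000000000000000000000000000000000000000000000000000000000000000000000000000000000000000000000000000000000000000000000000000000000000000000000000000020400102000800004001020000100040800004001), (nat_lit 0x20400102000800004001020000100040800004001), (nat_lit 0x204081020408102040810204081020408102040810204081020408102040810204081020408102040810204081020408102040810204081020408102040810204081020408102040810204081020408102040810204081020408102040810204081),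 (nat_lit 1000000007)⟩

theorem cl_0 : cl.chk clq DJ4.C (nat_lit 0) (nat_lit 122) = true := by decide +kernel
theorem cl_1 : cl.chk clq DJ4.C (nat_lit 122) (nat_lit 111) = true := by decide +kernel
theorem cl_2 : cl.chk clq DJ4.C (nat_lit 233) (nat_lit 110) = true := by decide +kernel
theorem cl_3 : cl.chk clq DJ4.C (nat_lit 343) (nat_lit 115) = true := by decide +kernel
theorem cl_4 : cl.chk clq DJ4.C (nat_lit 458) (nat_lit 127) = true := by decide +kernel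
theorem cl_5 : cl.chk clq DJ4.C (nat_lit 585) (nat_lit 102) = true := by decide +kernel
theorem cl_6 : cl.chk clq DJ4.C (nat_lit 687) (nat_lit 103) = true := by decide +kernel
theorem cl_7 : cl.chk clq DJ4.C (nat_lit 790) (nat_lit 118) = true := by decide +kernel
theorem cl_8 : cl.chk clq DJ4.C (nat_lit 908) (nat_lit 124) = true := by decide +kernel
theorem cl_9 : cl.chk clq DJ4.C (nat_lit 1032) (nat_lit 116) = true := by decide +kernel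
theorem cl_10 : cl.chk clq DJ4.C (nat_lit 1148) (nat_lit 107) = true := by decide +kernel
theorem cl_11 : cl.chk clq DJ4.C (nat_lit 1255) (nat_lit 106) = true := by decide +kernel
theorem cl_12 : cl.chk clq DJ4.C (nat_lit 1361) (nat_lit 113) = true := by decide +kernel
theorem cl_13 : cl.chk clq DJ4.C (nat_lit 1474) (nat_lit 108) = true := by decide +kernel
theorem cl_14 : cl.chk clq DJ4.C (nat_lit 1582) (nat_lit 116) = true := by decide +kernel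
theorem cl_15 : cl.chk clq DJ4.C (nat_lit 1698) (nat_lit 73) = true := by decide +kernel
theorem cl_n : 1771 = cl.D.length := by decide +kernel
theorem cl_e : (DJ4.q.w = clq.w ∧ ivChk cl.Rl 14 = true ∧ ivLt cl.Rl 14 = true ∧ cl.K ≤ 14 ∧ cl.R < cl.R + 1 ∧ allL (ltAll 14) cl.Ws = true ∧
      ltAll cl.K cl.Z = 0 ∧ 0 < 283115520 ∧ 501397585920 = cl.D.length * 283115520) ∧ (clq.red cl.Y = cl.Y ∧ clq.red cl.x = cl.x ∧ clq.red cl.f = cl.f ∧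
      DC.rowF clq cl.Y 0 = DC.rowF clq cl.x 0) ∧ (∀ k < cl.K, DC.rowF clq (DC.apR clq DJ4.C [k] cl.f) 0 = DC.rowF clq cl.f 0) ∧
      (∀ j < cl.R, DC.rowF clq (DC.apR clq DJ4.C (nth [] cl.Ws (j + 1)) cl.Y) (j + 1) = DC.rowF clq cl.f 0) ∧ (cl.D.map (·.2.1)).IsChain (· < ·) ∧
      501397585920 * (nth 0 cl.s 0 * cl.D.length + (cl.D.map (·.2.2)).sum) < (21799895040 + 1) * (cl.D.length * cl.D.length) := by decide +kernel
theorem ce_0 : ce.chk ceq DJ4.C (nat_lit 0) (nat_lit 108) = true := by decide +kernel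
theorem ce_1 : ce.chk ceq DJ4.C (nat_lit 108) (nat_lit 114) = true := by decide +kernel
theorem ce_2 : ce.chk ceq DJ4.C (nat_lit 222) (nat_lit 54) = true := by decide +kernel
theorem ce_n : 276 = ce.D.length := by decide +kernel
theorem ce_e : (DJ4.q.w = ceq.w ∧ ivChk ce.Rl 14 = true ∧ ivLt ce.Rl 14 = true ∧ ce.K ≤ 14 ∧ ce.R < ce.R + 1 ∧ allL (ltAll 14) ce.Ws = true ∧
      ltAll ce.K ce.Z = 0 ∧ 0 < 1816657920 ∧ 501397585920 = ce.D.length * 1816657920) ∧ (ceq.red ce.Y = ce.Y ∧ ceq.red ce.x = ce.x ∧ ceq.red ce.f = ce.f ∧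
      DC.rowF ceq ce.Y 0 = DC.rowF ceq ce.x 0) ∧ (∀ k < ce.K, DC.rowF ceq (DC.apR ceq DJ4.C [k] ce.f) 0 = DC.rowF ceq ce.f 0) ∧
      (∀ j < ce.R, DC.rowF ceq (DC.apR ceq DJ4.C (nth [] ce.Ws (j + 1)) ce.Y) (j + 1) = DC.rowF ceq ce.f 0) ∧ (ce.D.map (·.2.1)).IsChain (· < ·) ∧
      501397585920 * (nth 0 ce.s 0 * ce.D.length + (ce.D.map (·.2.2)).sum) < (1816657920 + 1) * (ce.D.length * ce.D.length) := by decide +kernel

theorem cl_up : cl.Up clq DJ4.C cl.D.length := cl_n ▸ (((((((((((((((((DC.Cl.Up.zero clq cl DJ4.C).step cl_0).step cl_1).step cl_2).step cl_3).step cl_4).step cl_5).step cl_6).step cl_7).step cl_8).step cl_9).step cl_10).step cl_11).step cl_12).step cl_13).step cl_14).step cl_15 : cl.Up clq DJ4.C 1771)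
theorem ce_up : ce.Up ceq DJ4.C ce.D.length := ce_n ▸ ((((DC.Cl.Up.zero ceq ce DJ4.C).step ce_0).step ce_1).step ce_2 : ce.Up ceq DJ4.C 276)
open J4d Subgroup
theorem relI : Rels γ Iv := DC.imp_of_mem (by decide +kernel) _ γ rels
theorem centz : Nat.card (centralizer {evA γ [11]}) ≤ 21799895040 :=
  have ⟨_, M⟩ := J4s.md
  have h := J4s.cz M
  DC.Cl.main (c := cl) emb clok DJ4.rp relI main.2.2 (DC.wds_sg γ J4s.czy_lt 0) h cardS cl_up cl_e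
theorem cente : centralizer {evA γ [11, 7, 11, 7]} ≤ gen γ 12 :=
  have ⟨_, M⟩ := J4s.md
  have h := J4s.ce M
  DC.cent_le (DC.wds_sg γ J4s.cey_lt 0) ((DC.Cl.main (c := ce) emb ceok DJ4.rp relI main.2.2 (DC.wds_sg γ J4s.cey_lt 0) h
    cardS ce_up ce_e).trans h)

end H16.J4k
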