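import Cfsg.Agent.H16.D.LMc.C0

/-! Generated by tools/h16 (computation kit). -/

set_option maxRecDepth 100000
set_option maxHeartbeats 0

namespace H16.LMc

open H26 (jn)
open DC
theorem rt : RT (dt.ck q) := RT.of (Dt.of rtc :)
theorem v6 : VT (dt.ck q) (nat_lit 6) := VT.step rt (VT.zero _) (Dt.of v6c :)
theorem v8 : VT (dt.ck q) (nat_lit 8) := VT.step rt (v6) (Dt.of v8c :)
theorem v17 : VT (dt.ck q) (nat_lit 17) := VT.step rt (v8) (Dt.of v17c :)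
theorem v29 : VT (dt.ck q) (nat_lit 29) := VT.step rt (v17) (Dt.of v29c :)
theorem v40 : VT (dt.ck q) (nat_lit 40) := VT.step rt (v29) (Dt.of v40c :)
theorem v52 : VT (dt.ck q) (nat_lit 52) := VT.step rt (v40) (Dt.of v52c :)
theorem v64 : VT (dt.ck q) (nat_lit 64) := VT.step rt (v52) (Dt.of v64c :)
theorem v72 : VT (dt.ck q) (nat_lit 72) := VT.step rt (v64) (Dt.of v72c :)
theorem v89 : VT (dt.ck q) (nat_lit 89) := VT.step rt (v72) (Dt.of v89c :)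
theorem v101 : VT (dt.ck q) (nat_lit 101) := VT.step rt (v89) (Dt.of v101c :)
theorem v109 : VT (dt.ck q) (nat_lit 109) := VT.step rt (v101) (Dt.of v109c :)
theorem v116 : VT (dt.ck q) (nat_lit 116) := VT.step rt (v109) (Dt.of v116c :)
theorem v122 : VT (dt.ck q) (nat_lit 122) := VT.step rt (v116) (Dt.of v122c :)
theorem v128 : VT (dt.ck q) (nat_lit 128) := VT.step rt (v122) (Dt.of v128c :)
theorem v132 : VT (dt.ck q) (nat_lit 132) := VT.step rt (v128) (Dt.of v132c :)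
theorem v138 : VT (dt.ck q) (nat_lit 138) := VT.step rt (v132) (Dt.of v138c :)
theorem v142 : VT (dt.ck q) (nat_lit 142) := VT.step rt (v138) (Dt.of v142c :)
theorem v147 : VT (dt.ck q) (nat_lit 147) := VT.step rt (v142) (Dt.of v147c :)
theorem v151 : VT (dt.ck q) (nat_lit 151) := VT.step rt (v147) (Dt.of v151c :)
theorem v156 : VT (dt.ck q) (nat_lit 156) := VT.step rt (v151) (Dt.of v156c :)
theorem v160 : VT (dt.ck q) (nat_lit 160) := VT.step rt (v156) (Dt.of v160c :)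
theorem v164 : VT (dt.ck q) (nat_lit 164) := VT.step rt (v160) (Dt.of v164c :)
theorem v168 : VT (dt.ck q) (nat_lit 168) := VT.step rt (v164) (Dt.of v168c :)
theorem v172 : VT (dt.ck q) (nat_lit 172) := VT.step rt (v168) (Dt.of v172c :)
theorem v177 : VT (dt.ck q) (nat_lit 177) := VT.step rt (v172) (Dt.of v177c :)
theorem v182 : VT (dt.ck q) (nat_lit 182) := VT.step rt (v177) (Dt.of v182c :)
theorem v187 : VT (dt.ck q) (nat_lit 187) := VT.step rt (v182) (Dt.of v187c :)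
theorem v191 : VT (dt.ck q) (nat_lit 191) := VT.step rt (v187) (Dt.of v191c :)
theorem v196 : VT (dt.ck q) (nat_lit 196) := VT.step rt (v191) (Dt.of v196c :)
theorem v211 : VT (dt.ck q) (nat_lit 211) := VT.step rt (v196) (Dt.of v211c :)
theorem v214 : VT (dt.ck q) (nat_lit 214) := VT.step rt (v211) (Dt.of v214c :)
theorem actc : Act LMn.T.π id (SP LMn.T LMn.Rl (nat_lit 14)) LMn.T.n (dt.ck q).K := Act.mono LMn.act (by decide +kernel)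
theorem st0 : ST (dt.ck q) (nat_lit 0) (S0.map Prod.snd) := ST.of v214 (Dt.of st0c :)
theorem l0_1_1 : LT (dt.ck q) LMn.T (nat_lit 0) (nat_lit 1) m0_1_1 := LT.edges v214 actc LT.zero (Dt.of e0_1_1 :)
theorem l0_1_2 : LT (dt.ck q) LMn.T (nat_lit 0) (nat_lit 1) m0_1_2 := LT.reach st0 l0_1_1 e0_1_2
theorem row0 : RowT (dt.ck q) LMn.T PL 0 aL := RowT.of (ms := [(nat_lit 0), m0_1_2, (nat_lit 0), (nat_lit 0), (nat_lit 0)]) (.cons LT.zero (.cons l0_1_2 (.cons LT.zero (.cons LT.zero (.cons LT.zero .nil))))) pc0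
theorem st1 : ST (dt.ck q) (nat_lit 1) (S1.map Prod.snd) := ST.of v214 (Dt.of st1c :)
theorem l1_0_1 : LT (dt.ck q) LMn.T (nat_lit 1) (nat_lit 0) m1_0_1 := LT.edges v214 actc LT.zero (Dt.of e1_0_1 :)
theorem l1_1_1 : LT (dt.ck q) LMn.T (nat_lit 1) (nat_lit 1) m1_1_1 := LT.edges v214 actc LT.zero (Dt.of e1_1_1 :)
theorem l1_1_2 : LT (dt.ck q) LMn.T (nat_lit 1) (nat_lit 1) m1_1_2 := LT.reach st1 l1_1_1 e1_1_2
theorem l1_2_1 : LT (dt.ck q) LMn.T (nat_lit 1) (nat_lit 2) m1_2_1 := LT.edges v214 actc LT.zero (Dt.of e1_2_1 :)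
theorem l1_2_2 : LT (dt.ck q) LMn.T (nat_lit 1) (nat_lit 2) m1_2_2 := LT.reach st1 l1_2_1 e1_2_2
theorem l1_3_1 : LT (dt.ck q) LMn.T (nat_lit 1) (nat_lit 3) m1_3_1 := LT.edges v214 actc LT.zero (Dt.of e1_3_1 :)
theorem l1_3_2 : LT (dt.ck q) LMn.T (nat_lit 1) (nat_lit 3) m1_3_2 := LT.reach st1 l1_3_1 e1_3_2
theorem l1_4_1 : LT (dt.ck q) LMn.T (nat_lit 1) (nat_lit 4) m1_4_1 := LT.edges v214 actc LT.zero (Dt.of e1_4_1 :)
theorem l1_4_2 : LT (dt.ck q) LMn.T (nat_lit 1) (nat_lit 4) m1_4_2 := LT.reach st1 l1_4_1 e1_4_2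
theorem row1 : RowT (dt.ck q) LMn.T PL 1 aL := RowT.of (ms := [m1_0_1, m1_1_2, m1_2_2, m1_3_2, m1_4_2]) (.cons l1_0_1 (.cons l1_1_2 (.cons l1_2_2 (.cons l1_3_2 (.cons l1_4_2 .nil))))) pc1
theorem st2 : ST (dt.ck q) (nat_lit 2) (S2.map Prod.snd) := ST.of v214 (Dt.of st2c :)
theorem l2_1_1 : LT (dt.ck q) LMn.T (nat_lit 2) (nat_lit 1) m2_1_1 := LT.edges v214 actc LT.zero (Dt.of e2_1_1 :)
theorem l2_1_2 : LT (dt.ck q) LMn.T (nat_lit 2) (nat_lit 1) m2_1_2 := LT.reach st2 l2_1_1 e2_1_2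
theorem l2_2_1 : LT (dt.ck q) LMn.T (nat_lit 2) (nat_lit 2) m2_2_1 := LT.edges v214 actc LT.zero (Dt.of e2_2_1 :)
theorem l2_2_2 : LT (dt.ck q) LMn.T (nat_lit 2) (nat_lit 2) m2_2_2 := LT.reach st2 l2_2_1 e2_2_2
theorem l2_3_1 : LT (dt.ck q) LMn.T (nat_lit 2) (nat_lit 3) m2_3_1 := LT.edges v214 actc LT.zero (Dt.of e2_3_1 :)
theorem l2_3_2 : LT (dt.ck q) LMn.T (nat_lit 2) (nat_lit 3) m2_3_2 := LT.reach st2 l2_3_1 e2_3_2
theorem l2_4_1 : LT (dt.ck q) LMn.T (nat_lit 2) (nat_lit 4) m2_4_1 := LT.edges v214 actc LT.zero (Dt.of e2_4_1 :)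
theorem l2_4_2 : LT (dt.ck q) LMn.T (nat_lit 2) (nat_lit 4) m2_4_2 := LT.reach st2 l2_4_1 e2_4_2
theorem row2 : RowT (dt.ck q) LMn.T PL 2 aL := RowT.of (ms := [(nat_lit 0), m2_1_2, m2_2_2, m2_3_2, m2_4_2]) (.cons LT.zero (.cons l2_1_2 (.cons l2_2_2 (.cons l2_3_2 (.cons l2_4_2 .nil))))) pc2
theorem st3 : ST (dt.ck q) (nat_lit 3) (S3.map Prod.snd) := ST.of v214 (Dt.of st3c :)
theorem l3_1_1 : LT (dt.ck q) LMn.T (nat_lit 3) (nat_lit 1) m3_1_1 := LT.edges v214 actc LT.zero (Dt.of e3_1_1 :)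
theorem l3_1_2 : LT (dt.ck q) LMn.T (nat_lit 3) (nat_lit 1) m3_1_2 := LT.reach st3 l3_1_1 e3_1_2
theorem l3_2_1 : LT (dt.ck q) LMn.T (nat_lit 3) (nat_lit 2) m3_2_1 := LT.edges v214 actc LT.zero (Dt.of e3_2_1 :)
theorem l3_2_2 : LT (dt.ck q) LMn.T (nat_lit 3) (nat_lit 2) m3_2_2 := LT.reach st3 l3_2_1 e3_2_2
theorem l3_3_1 : LT (dt.ck q) LMn.T (nat_lit 3) (nat_lit 3) m3_3_1 := LT.edges v214 actc LT.zero (Dt.of e3_3_1 :)
theorem l3_3_2 : LT (dt.ck q) LMn.T (nat_lit 3) (nat_lit 3) m3_3_2 := LT.reach st3 l3_3_1 e3_3_2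
theorem l3_4_1 : LT (dt.ck q) LMn.T (nat_lit 3) (nat_lit 4) m3_4_1 := LT.edges v214 actc LT.zero (Dt.of e3_4_1 :)
theorem l3_4_2 : LT (dt.ck q) LMn.T (nat_lit 3) (nat_lit 4) m3_4_2 := LT.edges v214 actc l3_4_1 (Dt.of e3_4_2 :)
theorem l3_4_3 : LT (dt.ck q) LMn.T (nat_lit 3) (nat_lit 4) m3_4_3 := LT.reach st3 l3_4_2 e3_4_3
theorem row3 : RowT (dt.ck q) LMn.T PL 3 aL := RowT.of (ms := [(nat_lit 0), m3_1_2, m3_2_2, m3_3_2, m3_4_3]) (.cons LT.zero (.cons l3_1_2 (.cons l3_2_2 (.cons l3_3_2 (.cons l3_4_3 .nil))))) pc3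
theorem st4 : ST (dt.ck q) (nat_lit 4) (S4.map Prod.snd) := ST.of v214 (Dt.of st4c :)
theorem l4_1_1 : LT (dt.ck q) LMn.T (nat_lit 4) (nat_lit 1) m4_1_1 := LT.edges v214 actc LT.zero (Dt.of e4_1_1 :)
theorem l4_1_2 : LT (dt.ck q) LMn.T (nat_lit 4) (nat_lit 1) m4_1_2 := LT.reach st4 l4_1_1 e4_1_2
theorem l4_2_1 : LT (dt.ck q) LMn.T (nat_lit 4) (nat_lit 2) m4_2_1 := LT.edges v214 actc LT.zero (Dt.of e4_2_1 :)
theorem l4_2_2 : LT (dt.ck q) LMn.T (nat_lit 4) (nat_lit 2) m4_2_2 := LT.reach st4 l4_2_1 e4_2_2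
theorem l4_3_1 : LT (dt.ck q) LMn.T (nat_lit 4) (nat_lit 3) m4_3_1 := LT.edges v214 actc LT.zero (Dt.of e4_3_1 :)
theorem l4_3_2 : LT (dt.ck q) LMn.T (nat_lit 4) (nat_lit 3) m4_3_2 := LT.edges v214 actc l4_3_1 (Dt.of e4_3_2 :)
theorem l4_3_3 : LT (dt.ck q) LMn.T (nat_lit 4) (nat_lit 3) m4_3_3 := LT.reach st4 l4_3_2 e4_3_3
theorem l4_4_1 : LT (dt.ck q) LMn.T (nat_lit 4) (nat_lit 4) m4_4_1 := LT.edges v214 actc LT.zero (Dt.of e4_4_1 :)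
theorem l4_4_2 : LT (dt.ck q) LMn.T (nat_lit 4) (nat_lit 4) m4_4_2 := LT.edges v214 actc l4_4_1 (Dt.of e4_4_2 :)
theorem l4_4_3 : LT (dt.ck q) LMn.T (nat_lit 4) (nat_lit 4) m4_4_3 := LT.edges v214 actc l4_4_2 (Dt.of e4_4_3 :)
theorem l4_4_4 : LT (dt.ck q) LMn.T (nat_lit 4) (nat_lit 4) m4_4_4 := LT.edges v214 actc l4_4_3 (Dt.of e4_4_4 :)
theorem l4_4_5 : LT (dt.ck q) LMn.T (nat_lit 4) (nat_lit 4) m4_4_5 := LT.edges v214 actc l4_4_4 (Dt.of e4_4_5 :)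
theorem l4_4_6 : LT (dt.ck q) LMn.T (nat_lit 4) (nat_lit 4) m4_4_6 := LT.edges v214 actc l4_4_5 (Dt.of e4_4_6 :)
theorem l4_4_7 : LT (dt.ck q) LMn.T (nat_lit 4) (nat_lit 4) m4_4_7 := LT.edges v214 actc l4_4_6 (Dt.of e4_4_7 :)
theorem l4_4_8 : LT (dt.ck q) LMn.T (nat_lit 4) (nat_lit 4) m4_4_8 := LT.reach st4 l4_4_7 e4_4_8
theorem row4 : RowT (dt.ck q) LMn.T PL 4 aL := RowT.of (ms := [(nat_lit 0), m4_1_2, m4_2_2, m4_3_3, m4_4_8]) (.cons LT.zero (.cons l4_1_2 (.cons l4_2_2 (.cons l4_3_3 (.cons l4_4_8 .nil))))) pc4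
theorem par : Par2 (dt.ck q) LMn.Rl PL LMm.RA Ws 8 10 := Par2.of parc
theorem done : Done2 (dt.ck q) LMn.T LMn.U 9606125 PL sL := Done2.of rt v214 (Dt.of kgc :) (all_succ (all_succ (all_succ (all_succ (all_succ all_zero row0) row1) row2) row3) row4) num
theorem fin : Fin2 (dt.ck q) LMm.g LMn.T LMn.Rl LMn.U 5388768000 9606125 PL sL :=
  Fin2.of qok done LMm.mod (fun k h => LMm.rp k (h.trans (by decide))) (Dt.of ivc :) (by decide +kernel)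
theorem bound : Bound LMm.RA 10 51765179004000000 := fin.bound par (by norm_num)

end H16.LMc
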