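import Cfsg.Agent.H16.DC13
import Cfsg.Agent.H16.D.LY

/-! Generated by tools/h16 (computation kit). -/

set_option maxRecDepth 100000

namespace H16.LYd

open DC Subgroup Cfsg

def Ws : List (List ℕ) := [[], [8], [8, 6, 8], [8, 6, 8, 6, 8], [8, 2, 2, 5, 2, 1, 3, 5, 6, 8]]
def sL : List ℕ := [1, 19530, 968750, 2034375, 5812500]
open LYc in
theorem done : Done2 (dt.ck q) LYn.T LYn.U 8835156 PL sL := Done2.of rt v230 (Dt.of kgc :) (all_succ (all_succ (all_succ (all_succ (all_succ all_zero row0) row1) row2) row3) row4) num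
open LYc in
theorem par : Par2 (dt.ck q) LYn.Rl PL RA Ws 8 10 := Par2.of (by decide +kernel)
theorem ex : ∃ γ : ℕ → Spor.Ly, Emb γ DLY.g 10 ∧ gen γ 10 = ⊤ := exists_emb DLY.equiv rfl
/-- the letters in the presented group -/
noncomputable def γ : ℕ → Spor.Ly := ex.choose
theorem emb : Emb γ DLY.g 10 := ex.choose_spec.1
theorem top : gen γ 10 = ⊤ := ex.choose_spec.2
instance fin : Finite Spor.Ly := Nat.finite_of_card_ne_zero (by rw [DLY.card_eq]; norm_num)
theorem rels : Rels γ LYc.RA := emb.rels DLY.rels (by decide +kernel)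
theorem cardS : Nat.card (gen γ 8) = 5859000000 := (emb.card (by decide)).trans DLY.main.1
theorem main : (gen γ 8).index = 8835156 ∧ IsCoatom (gen γ 8) ∧ Dco (gen γ 8) 5 (wds γ Ws) (nth 0 sL) :=
  have ⟨a, b, c, _⟩ := (LYc.fin.two done).main par rels top fun q => by
    have := cardS; rw [q, card_top, DLY.card_eq] at this; omega
  ⟨a, b, c⟩

end H16.LYd
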