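import Cfsg.Agent.H16.D.LYn
import Cfsg.Agent.H16.DC6
import Cfsg.Agent.H16.MatR2
import Cfsg.Agent.S1059
import Cfsg.Agent.S1055
import Cfsg.Agent.S2100

/-! Generated by tools/h16 (computation kit). -/

set_option maxRecDepth 100000
set_option maxHeartbeats 0

namespace H16.LYl

open Cfsg
instance f5 : Fact (Nat.Prime 5) := ⟨by norm_num⟩
def IG : Ix Lie.chevG2.Idx 14 := ixS (ixF 2) (ixF 12)
def q : MP := ⟨14, 8, 255, 5⟩
def om : (ZMod 5) := 1
abbrev GG : Type := GL Lie.chevG2.Idx (ZMod 5)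
def C0 : List ℕ := [nat_lit 1, nat_lit 0x100, nat_lit 0x10000, nat_lit 0x1000000, nat_lit 0x100000000, nat_lit 0x10000000000, nat_lit 0x1000000000000, nat_lit 0x100000000000000, nat_lit 0x10000000000000000, nat_lit 0x1000000000000000000, nat_lit 0x100000000000000000000, nat_lit 0x10000000000000000000000, nat_lit 0x1000000000000000000000000, nat_lit 0x100000000000000000000000000]
def C1 : List ℕ := [nat_lit 0x3000000000000000001, nat_lit 0x1000000000000000100, nat_lit 0x10000, nat_lit 0x400040401000000, nat_lit 0x300020100000000, nat_lit 0x300010000000000, nat_lit 0x4000001000000000001, nat_lit 0x100000000000000, nat_lit 0x1010400010000000000000000, nat_lit 0x1000000000000000000, nat_lit 0x2030100000000000000000000, nat_lit 0x3010000000000000000000000, nat_lit 0x1000000000000000000000000, nat_lit 0x100000000000000000000000000]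
def C2 : List ℕ := [nat_lit 0x30000000000000001, nat_lit 0x30000000000000100, nat_lit 0x4010000, nat_lit 0x1000000, nat_lit 0x100000000, nat_lit 0x4010000000000, nat_lit 0x1000000000000, nat_lit 0x40100000000000100, nat_lit 0x10000000000000000, nat_lit 0x101000000000000000000, nat_lit 0x100000000000000000000, nat_lit 0x10000000000000000000000, nat_lit 0x101000000000000000000000000, nat_lit 0x100000000000000000000000000]
def C3 : List ℕ := [nat_lit 0x2000000000001, nat_lit 0x4000000000100, nat_lit 0x10000, nat_lit 0x1000000, nat_lit 0x102000000, nat_lit 0x10202000000, nat_lit 0x1000000000000, nat_lit 0x100010104000000, nat_lit 0x10000000000000000, nat_lit 0x1000004000000000004, nat_lit 0x100020000000000000000, nat_lit 0x10300030000000000000000, nat_lit 0x1010400010000000000000000, nat_lit 0x100000000000000000000000000]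
def C4 : List ℕ := [nat_lit 0x200000000000001, nat_lit 0x200000000000100, nat_lit 0x10000, nat_lit 0x1040000, nat_lit 0x100000000, nat_lit 0x10000000000, nat_lit 0x1040000000000, nat_lit 0x100000000000000, nat_lit 0x10400000000000400, nat_lit 0x1000000000000000000, nat_lit 0x101000000000000000000, nat_lit 0x10000000000000000000000, nat_lit 0x1000000000000000000000000, nat_lit 0x101000000000000000000000000]
def C5 : List ℕ := [nat_lit 0x2000000000000000001, nat_lit 0x4000000000000000100, nat_lit 0x10000, nat_lit 0x100040101000000, nat_lit 0x300030100000000, nat_lit 0x200010000000000, nat_lit 0x4000001000000000004, nat_lit 0x100000000000000, nat_lit 0x4010100010000000000000000, nat_lit 0x1000000000000000000, nat_lit 0x2020100000000000000000000, nat_lit 0x2010000000000000000000000, nat_lit 0x1000000000000000000000000, nat_lit 0x100000000000000000000000000]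
def C6 : List ℕ := [nat_lit 0x20000000000000001, nat_lit 0x20000000000000100, nat_lit 0x1010000, nat_lit 0x1000000, nat_lit 0x100000000, nat_lit 0x1010000000000, nat_lit 0x1000000000000, nat_lit 0x40100000000000400, nat_lit 0x10000000000000000, nat_lit 0x401000000000000000000, nat_lit 0x100000000000000000000, nat_lit 0x10000000000000000000000, nat_lit 0x401000000000000000000000000, nat_lit 0x100000000000000000000000000]
def C7 : List ℕ := [nat_lit 0x3000000000001, nat_lit 0x1000000000100, nat_lit 0x10000, nat_lit 0x1000000, nat_lit 0x103000000, nat_lit 0x10302000000, nat_lit 0x1000000000000, nat_lit 0x100040101000000, nat_lit 0x10000000000000000, nat_lit 0x1000004000000000001, nat_lit 0x100030000000000000000, nat_lit 0x10200030000000000000000, nat_lit 0x1040400040000000000000000, nat_lit 0x100000000000000000000000000]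
def C8 : List ℕ := [nat_lit 0x300000000000001, nat_lit 0x300000000000100, nat_lit 0x10000, nat_lit 0x1010000, nat_lit 0x100000000, nat_lit 0x10000000000, nat_lit 0x1010000000000, nat_lit 0x100000000000000, nat_lit 0x10400000000000100, nat_lit 0x1000000000000000000, nat_lit 0x104000000000000000000, nat_lit 0x10000000000000000000000, nat_lit 0x1000000000000000000000000, nat_lit 0x104000000000000000000000000]
def C9 : List ℕ := [nat_lit 0x102010102000003030204030103, nat_lit 0x302020303000003000400040004, nat_lit 0x100020104010201040102040202, nat_lit 0x200040203000403030002020404, nat_lit 0x100020404010200020301040401, nat_lit 0x20003000102020004020104, nat_lit 0x200030404020103040100040403, nat_lit 0x102020101010301010400010404, nat_lit 0x202010003020101000203040202, nat_lit 0x102020402010200010004040103, nat_lit 0x1020002000102000304040101, nat_lit 0x301020103030102010204040203, nat_lit 0x301010303000102000403030302, nat_lit 0x304040002030404000301010404]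
def C10 : List ℕ := [nat_lit 0x102030202020100010403020304, nat_lit 0x301000003010301030000010400, nat_lit 0x102020004010202000103030202, nat_lit 0x20204020201040100, nat_lit 0x102020203010302020203020003, nat_lit 0x301040004030004000104000101, nat_lit 0x204040304030402020304010403, nat_lit 0x100020004010202000100030000, nat_lit 0x204040202030104020201040000, nat_lit 0x304000203030300020201020200, nat_lit 0x204020204030001000100000401, nat_lit 0x300030001020100030202040001, nat_lit 0x202020300000303030303010401, nat_lit 0x402030403010403030303010101]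
def C11 : List ℕ := [nat_lit 0x201030004040302010003000200, nat_lit 0x200040104010003030202040200, nat_lit 0x404000202040104010003020100, nat_lit 0x304030003000400040000030304, nat_lit 0x402000403020002000104000103, nat_lit 0x300040400040402010303030401, nat_lit 0x402040200020102040204020200, nat_lit 0x102040200000401030103000200, nat_lit 0x103010001010401000402010303, nat_lit 0x401020401020303010203010300, nat_lit 0x201040202010303010402010304, nat_lit 0x204040103010202030003040400, nat_lit 0x303040401020404040004040301, nat_lit 0x100000200020001000402010103]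
def C12 : List ℕ := [nat_lit 0x200000303040402000102000200, nat_lit 0x204010003040202030103030200, nat_lit 0x403030103010103040403010100, nat_lit 0x404040004020302020303000104, nat_lit 0x4000404020302040402000303, nat_lit 0x100040402010004020102010103, nat_lit 0x104030000000301020303000100, nat_lit 0x400040304000104020202020102, nat_lit 0x104000302040401010404000302, nat_lit 0x200020202030303030202030403, nat_lit 0x302000104040001010302000101, nat_lit 0x10302030202040000020201, nat_lit 0x300030103030201040104020204, nat_lit 0x203000104000102020304010304]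
def C13 : List ℕ := [nat_lit 0x301040303040304020103030302, nat_lit 0x302000202010303010103030402, nat_lit 0x404010302040100000000000400, nat_lit 0x100020104030200000000000300, nat_lit 0x404000203020300000000000200, nat_lit 0x303020003040303030000000404, nat_lit 0x3020001000401010000000003, nat_lit 0x101040203000001040103030200, nat_lit 0x103020102030000030103030204, nat_lit 0x404020204020201010404040403, nat_lit 0x401000204020100000202020301, nat_lit 0x200010001010301020001010401, nat_lit 0x304000201020102040300020003, nat_lit 0x1020102030200030103040400]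
def C14 : List ℕ := [nat_lit 0x301030401040302040303030302, nat_lit 0x301030202040203010001030402, nat_lit 0x401030100010103030403000400, nat_lit 0x400030101010303020004010001, nat_lit 0x301000202020102000100010203, nat_lit 0x403020000010302020001030102, nat_lit 0x102030301040104040103010102, nat_lit 0x403040300000304040202030102, nat_lit 0x102010103000004020101020400, nat_lit 0x301030001000101000002, nat_lit 0x301020401000202040202, nat_lit 0x30304020004030400, nat_lit 0x30303040200030400, nat_lit 0x30303040202040400]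
def C15 : List ℕ := [nat_lit 0x404020004020104020100000403, nat_lit 0x3000002040401040202020001, nat_lit 0x101000303000101040202020201, nat_lit 0x300010102040101030001030104, nat_lit 0x401030203030304020100000202, nat_lit 0x102000402030400040101010401, nat_lit 0x2040000010204020003040002, nat_lit 0x400010104010400000000000100, nat_lit 0x402010102000201030001030404, nat_lit 0x402010402040003040404040301, nat_lit 0x204030004030404020103040404, nat_lit 0x203000201040301040304040100, nat_lit 0x4030400020303010202020404, nat_lit 0x202010402020203030202000002]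
def C16 : List ℕ := [nat_lit 0x1020304020204040402020300, nat_lit 0x100010003020101020401040303, nat_lit 0x103030200040403040400020401, nat_lit 0x100020404000204030104020004, nat_lit 0x3030004030301030004030104, nat_lit 0x403020400030304000202020000, nat_lit 0x401030200020102040100010404, nat_lit 0x4010102010003010302020002, nat_lit 0x101010304040200030103020403, nat_lit 0x303040004000303040104040301, nat_lit 0x204020402000404020403040001, nat_lit 0x100010100000004010301010003, nat_lit 0x201000201000103010302020402, nat_lit 0x203000203000303030302000402]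
def C : List (List ℕ) := [C0, C1, C2, C3, C4] ++ [C5, C6, C7, C8, C9, C10, C11, C12, C13, C14, C15, C16]
def SL : List (List ℕ) := [[nat_lit 1],
  [nat_lit 2],
  [nat_lit 3],
  [nat_lit 4],
  [nat_lit 4, nat_lit 7, nat_lit 6, nat_lit 5, nat_lit 3, nat_lit 3, nat_lit 6, nat_lit 6, nat_lit 5, nat_lit 8, nat_lit 7, nat_lit 6, nat_lit 8, nat_lit 8],
  [nat_lit 6, nat_lit 1, nat_lit 7, nat_lit 4, nat_lit 7, nat_lit 4, nat_lit 7, nat_lit 1, nat_lit 2, nat_lit 5, nat_lit 7, nat_lit 5, nat_lit 6, nat_lit 1, nat_lit 6, nat_lit 5, nat_lit 5, nat_lit 4, nat_lit 7, nat_lit 1, nat_lit 6, nat_lit 4, nat_lit 5, nat_lit 5],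
  [nat_lit 6, nat_lit 1, nat_lit 7, nat_lit 4, nat_lit 3, nat_lit 8, nat_lit 3, nat_lit 5, nat_lit 2, nat_lit 5, nat_lit 8, nat_lit 6, nat_lit 1, nat_lit 8, nat_lit 3, nat_lit 4, nat_lit 7, nat_lit 1, nat_lit 4, nat_lit 3, nat_lit 8, nat_lit 5, nat_lit 7],
  [nat_lit 7, nat_lit 1, nat_lit 7, nat_lit 6, nat_lit 1, nat_lit 7, nat_lit 4, nat_lit 3, nat_lit 3, nat_lit 8, nat_lit 3, nat_lit 5, nat_lit 2, nat_lit 5, nat_lit 2, nat_lit 8, nat_lit 8, nat_lit 5, nat_lit 5, nat_lit 6, nat_lit 3],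
  [nat_lit 1, nat_lit 1, nat_lit 3, nat_lit 1, nat_lit 3, nat_lit 4, nat_lit 3, nat_lit 5, nat_lit 5, nat_lit 6, nat_lit 5, nat_lit 7, nat_lit 6, nat_lit 5, nat_lit 8, nat_lit 7, nat_lit 6, nat_lit 4, nat_lit 3, nat_lit 8],
  [nat_lit 6, nat_lit 5, nat_lit 3, nat_lit 8, nat_lit 7, nat_lit 7, nat_lit 8, nat_lit 3, nat_lit 5, nat_lit 2, nat_lit 7, nat_lit 7, nat_lit 2, nat_lit 1, nat_lit 1, nat_lit 2, nat_lit 1, nat_lit 2, nat_lit 1, nat_lit 1, nat_lit 1, nat_lit 4, nat_lit 7, nat_lit 1, nat_lit 8, nat_lit 2],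
  [nat_lit 2, nat_lit 1, nat_lit 6, nat_lit 5, nat_lit 3, nat_lit 1, nat_lit 2, nat_lit 5, nat_lit 4, nat_lit 4, nat_lit 6, nat_lit 1, nat_lit 7, nat_lit 8, nat_lit 8, nat_lit 5, nat_lit 2, nat_lit 3],
  [nat_lit 1, nat_lit 1, nat_lit 7, nat_lit 4, nat_lit 2, nat_lit 1, nat_lit 7, nat_lit 8, nat_lit 3, nat_lit 2, nat_lit 1, nat_lit 7, nat_lit 6, nat_lit 1, nat_lit 6, nat_lit 1, nat_lit 1, nat_lit 4, nat_lit 4, nat_lit 7, nat_lit 1, nat_lit 8]]
def σ : List ℕ := [nat_lit 9, nat_lit 10, nat_lit 11, nat_lit 12, nat_lit 13, nat_lit 14, nat_lit 15, nat_lit 16]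
def E : List (List ℕ) := [[],
  [],
  [],
  [],
  [],
  [],
  [],
  [],
  [],
  [],
  [],
  [],
  [],
  [],
  [],
  [],
  [],
  [],
  [],
  [],
  [],
  [],
  [],
  [],
  [],
  [],
  [],
  [],
  [],
  [],
  [],
  [],
  [],
  [],
  [],
  [],
  [],
  [],
  [],
  [],
  [],
  [],
  [],
  [],
  [],
  []]
def b0 : GG := glR (matR IG om 1 8 C0) (matR IG om 1 8 [nat_lit 1, nat_lit 0x100, nat_lit 0x10000, nat_lit 0x1000000, nat_lit 0x100000000, nat_lit 0x10000000000, nat_lit 0x1000000000000, nat_lit 0x100000000000000, nat_lit 0x10000000000000000, nat_lit 0x1000000000000000000, nat_lit 0x100000000000000000000, nat_lit 0x10000000000000000000000, nat_lit 0x1000000000000000000000000, nat_lit 0x100000000000000000000000000])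
  (by decide +kernel)
theorem col0 : Cols q (rhoGL _ _) (eR IG om) ⊥ b0 C0 := cols_R (s := 1) IG om rfl (by decide +kernel)
def b1 : GG := glR (matR IG om 1 8 C1) (matR IG om 1 8 [nat_lit 0x2000000000000000001, nat_lit 0x4000000000000000100, nat_lit 0x10000, nat_lit 0x100040101000000, nat_lit 0x300030100000000, nat_lit 0x200010000000000, nat_lit 0x4000001000000000004, nat_lit 0x100000000000000, nat_lit 0x4010100010000000000000000, nat_lit 0x1000000000000000000, nat_lit 0x2020100000000000000000000, nat_lit 0x2010000000000000000000000, nat_lit 0x1000000000000000000000000, nat_lit 0x100000000000000000000000000])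
  (by decide +kernel)
theorem col1 : Cols q (rhoGL _ _) (eR IG om) ⊥ b1 C1 := cols_R (s := 1) IG om rfl (by decide +kernel)
def b2 : GG := glR (matR IG om 1 8 C2) (matR IG om 1 8 [nat_lit 0x20000000000000001, nat_lit 0x20000000000000100, nat_lit 0x1010000, nat_lit 0x1000000, nat_lit 0x100000000, nat_lit 0x1010000000000, nat_lit 0x1000000000000, nat_lit 0x40100000000000400, nat_lit 0x10000000000000000, nat_lit 0x401000000000000000000, nat_lit 0x100000000000000000000, nat_lit 0x10000000000000000000000, nat_lit 0x401000000000000000000000000, nat_lit 0x100000000000000000000000000])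
  (by decide +kernel)
theorem col2 : Cols q (rhoGL _ _) (eR IG om) ⊥ b2 C2 := cols_R (s := 1) IG om rfl (by decide +kernel)
def b3 : GG := glR (matR IG om 1 8 C3) (matR IG om 1 8 [nat_lit 0x3000000000001, nat_lit 0x1000000000100, nat_lit 0x10000, nat_lit 0x1000000, nat_lit 0x103000000, nat_lit 0x10302000000, nat_lit 0x1000000000000, nat_lit 0x100040101000000, nat_lit 0x10000000000000000, nat_lit 0x1000004000000000001, nat_lit 0x100030000000000000000, nat_lit 0x10200030000000000000000, nat_lit 0x1040400040000000000000000, nat_lit 0x100000000000000000000000000])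
  (by decide +kernel)
theorem col3 : Cols q (rhoGL _ _) (eR IG om) ⊥ b3 C3 := cols_R (s := 1) IG om rfl (by decide +kernel)
def b4 : GG := glR (matR IG om 1 8 C4) (matR IG om 1 8 [nat_lit 0x300000000000001, nat_lit 0x300000000000100, nat_lit 0x10000, nat_lit 0x1010000, nat_lit 0x100000000, nat_lit 0x10000000000, nat_lit 0x1010000000000, nat_lit 0x100000000000000, nat_lit 0x10400000000000100, nat_lit 0x1000000000000000000, nat_lit 0x104000000000000000000, nat_lit 0x10000000000000000000000, nat_lit 0x1000000000000000000000000, nat_lit 0x104000000000000000000000000])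
  (by decide +kernel)
theorem col4 : Cols q (rhoGL _ _) (eR IG om) ⊥ b4 C4 := cols_R (s := 1) IG om rfl (by decide +kernel)
noncomputable def VW (r t : ℕ) : List ℕ := (List.replicate t (nth [] [[nat_lit 5, nat_lit 0, nat_lit 7, nat_lit 4, nat_lit 3, nat_lit 4, nat_lit 6, nat_lit 5, nat_lit 1, nat_lit 4, nat_lit 2, nat_lit 4, nat_lit 6, nat_lit 5, nat_lit 6, nat_lit 4, nat_lit 0, nat_lit 5, nat_lit 7, nat_lit 3, nat_lit 3, nat_lit 4, nat_lit 1, nat_lit 2, nat_lit 7, nat_lit 0, nat_lit 5, nat_lit 1],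
  [nat_lit 5, nat_lit 5, nat_lit 2, nat_lit 6, nat_lit 4, nat_lit 0, nat_lit 5, nat_lit 2, nat_lit 2, nat_lit 2, nat_lit 4, nat_lit 3, nat_lit 1, nat_lit 4, nat_lit 3, nat_lit 1, nat_lit 2, nat_lit 1, nat_lit 4, nat_lit 1, nat_lit 5, nat_lit 2, nat_lit 4, nat_lit 2, nat_lit 0, nat_lit 6, nat_lit 4, nat_lit 7],
  [nat_lit 6, nat_lit 4, nat_lit 4, nat_lit 6, nat_lit 5, nat_lit 3, nat_lit 5, nat_lit 0, nat_lit 4, nat_lit 6, nat_lit 1, nat_lit 2, nat_lit 5, nat_lit 1, nat_lit 4, nat_lit 1, nat_lit 3, nat_lit 5, nat_lit 7, nat_lit 5, nat_lit 1, nat_lit 3, nat_lit 4, nat_lit 6, nat_lit 4, nat_lit 4, nat_lit 2, nat_lit 0, nat_lit 3, nat_lit 6, nat_lit 4],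
  [nat_lit 4, nat_lit 1, nat_lit 5, nat_lit 3, nat_lit 1, nat_lit 7, nat_lit 1, nat_lit 3, nat_lit 4, nat_lit 3, nat_lit 1, nat_lit 2, nat_lit 4, nat_lit 1, nat_lit 3, nat_lit 3, nat_lit 5, nat_lit 0, nat_lit 5, nat_lit 5, nat_lit 3, nat_lit 4, nat_lit 4, nat_lit 6, nat_lit 1, nat_lit 4, nat_lit 1, nat_lit 5, nat_lit 3],
  [nat_lit 1, nat_lit 5, nat_lit 3, nat_lit 7, nat_lit 5, nat_lit 1, nat_lit 5, nat_lit 7, nat_lit 5, nat_lit 7, nat_lit 2, nat_lit 0, nat_lit 4, nat_lit 2, nat_lit 5, nat_lit 2, nat_lit 1, nat_lit 2],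
  [nat_lit 2, nat_lit 2, nat_lit 4, nat_lit 7, nat_lit 5, nat_lit 3, nat_lit 5, nat_lit 0, nat_lit 4, nat_lit 7, nat_lit 5, nat_lit 2, nat_lit 5, nat_lit 6, nat_lit 1, nat_lit 4, nat_lit 0, nat_lit 0, nat_lit 4, nat_lit 7, nat_lit 4, nat_lit 2, nat_lit 5, nat_lit 1, nat_lit 5, nat_lit 3],
  [nat_lit 2, nat_lit 7, nat_lit 5, nat_lit 3, nat_lit 5, nat_lit 0, nat_lit 4, nat_lit 7, nat_lit 5, nat_lit 2, nat_lit 5, nat_lit 6, nat_lit 2, nat_lit 0, nat_lit 3, nat_lit 0, nat_lit 6, nat_lit 4, nat_lit 2, nat_lit 2, nat_lit 7, nat_lit 4, nat_lit 2],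
  [nat_lit 7, nat_lit 5, nat_lit 0, nat_lit 7, nat_lit 4, nat_lit 3, nat_lit 4, nat_lit 6, nat_lit 5, nat_lit 1, nat_lit 4, nat_lit 2, nat_lit 4, nat_lit 6, nat_lit 3, nat_lit 0, nat_lit 3, nat_lit 3, nat_lit 4, nat_lit 2, nat_lit 5, nat_lit 0, nat_lit 5, nat_lit 0, nat_lit 6, nat_lit 4, nat_lit 6, nat_lit 4],
  [nat_lit 5, nat_lit 3, nat_lit 5, nat_lit 5, nat_lit 0, nat_lit 6, nat_lit 4, nat_lit 7, nat_lit 4, nat_lit 4, nat_lit 2, nat_lit 5, nat_lit 3, nat_lit 5, nat_lit 6, nat_lit 5, nat_lit 3, nat_lit 4, nat_lit 7, nat_lit 4, nat_lit 2, nat_lit 0, nat_lit 0, nat_lit 4, nat_lit 2, nat_lit 2, nat_lit 0, nat_lit 0, nat_lit 2, nat_lit 6],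
  [nat_lit 0, nat_lit 3, nat_lit 5, nat_lit 7, nat_lit 1, nat_lit 4, nat_lit 6, nat_lit 1, nat_lit 2, nat_lit 4, nat_lit 0, nat_lit 3, nat_lit 3, nat_lit 0, nat_lit 3, nat_lit 5, nat_lit 0, nat_lit 5, nat_lit 0, nat_lit 7, nat_lit 3, nat_lit 5, nat_lit 3, nat_lit 1, nat_lit 1, nat_lit 6, nat_lit 5, nat_lit 0, nat_lit 5],
  [nat_lit 7, nat_lit 5, nat_lit 2, nat_lit 4, nat_lit 0, nat_lit 2, nat_lit 4, nat_lit 1, nat_lit 5, nat_lit 6, nat_lit 4, nat_lit 7, nat_lit 4, nat_lit 3, nat_lit 0, nat_lit 5, nat_lit 2, nat_lit 4, nat_lit 4, nat_lit 7, nat_lit 1, nat_lit 4, nat_lit 2, nat_lit 1, nat_lit 6, nat_lit 4, nat_lit 1, nat_lit 3, nat_lit 1, nat_lit 3, nat_lit 6, nat_lit 5],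
  [nat_lit 5, nat_lit 2, nat_lit 6, nat_lit 4, nat_lit 0, nat_lit 5, nat_lit 2, nat_lit 2, nat_lit 2, nat_lit 4, nat_lit 3, nat_lit 1, nat_lit 4, nat_lit 3, nat_lit 5, nat_lit 3, nat_lit 0, nat_lit 5, nat_lit 6, nat_lit 4, nat_lit 0, nat_lit 0, nat_lit 5, nat_lit 3, nat_lit 3, nat_lit 0, nat_lit 3, nat_lit 3]] r)).flatten

theorem slpe_a : allZ2 (slpEnt (nat_lit 14) (nat_lit 8) (nat_lit 255) (nat_lit 5) C (nat_lit 5) SL) (nat_lit 12) (nat_lit 14) = true := by decide +kernel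
theorem rele_0_0 : allZ (relEnt (nat_lit 14) (nat_lit 8) (nat_lit 255) (nat_lit 5) C (nat_lit 17) σ LYn.Rl E (nat_lit 0)) (nat_lit 0) (nat_lit 14) = true := by decide +kernel
theorem rele_1_0 : allZ (relEnt (nat_lit 14) (nat_lit 8) (nat_lit 255) (nat_lit 5) C (nat_lit 17) σ LYn.Rl E (nat_lit 1)) (nat_lit 0) (nat_lit 14) = true := by decide +kernel
theorem rele_2_0 : allZ (relEnt (nat_lit 14) (nat_lit 8) (nat_lit 255) (nat_lit 5) C (nat_lit 17) σ LYn.Rl E (nat_lit 2)) (nat_lit 0) (nat_lit 14) = true := by decide +kernel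
theorem rele_3_0 : allZ (relEnt (nat_lit 14) (nat_lit 8) (nat_lit 255) (nat_lit 5) C (nat_lit 17) σ LYn.Rl E (nat_lit 3)) (nat_lit 0) (nat_lit 14) = true := by decide +kernel
theorem rele_4_0 : allZ (relEnt (nat_lit 14) (nat_lit 8) (nat_lit 255) (nat_lit 5) C (nat_lit 17) σ LYn.Rl E (nat_lit 4)) (nat_lit 0) (nat_lit 14) = true := by decide +kernel
theorem rele_5_0 : allZ (relEnt (nat_lit 14) (nat_lit 8) (nat_lit 255) (nat_lit 5) C (nat_lit 17) σ LYn.Rl E (nat_lit 5)) (nat_lit 0) (nat_lit 14) = true := by decide +kernel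
theorem rele_6_0 : allZ (relEnt (nat_lit 14) (nat_lit 8) (nat_lit 255) (nat_lit 5) C (nat_lit 17) σ LYn.Rl E (nat_lit 6)) (nat_lit 0) (nat_lit 14) = true := by decide +kernel
theorem rele_7_0 : allZ (relEnt (nat_lit 14) (nat_lit 8) (nat_lit 255) (nat_lit 5) C (nat_lit 17) σ LYn.Rl E (nat_lit 7)) (nat_lit 0) (nat_lit 14) = true := by decide +kernel
theorem rele_8_0 : allZ (relEnt (nat_lit 14) (nat_lit 8) (nat_lit 255) (nat_lit 5) C (nat_lit 17) σ LYn.Rl E (nat_lit 8)) (nat_lit 0) (nat_lit 14) = true := by decide +kernel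
theorem rele_9_0 : allZ (relEnt (nat_lit 14) (nat_lit 8) (nat_lit 255) (nat_lit 5) C (nat_lit 17) σ LYn.Rl E (nat_lit 9)) (nat_lit 0) (nat_lit 14) = true := by decide +kernel
theorem rele_10_0 : allZ (relEnt (nat_lit 14) (nat_lit 8) (nat_lit 255) (nat_lit 5) C (nat_lit 17) σ LYn.Rl E (nat_lit 10)) (nat_lit 0) (nat_lit 14) = true := by decide +kernel
theorem rele_11_0 : allZ (relEnt (nat_lit 14) (nat_lit 8) (nat_lit 255) (nat_lit 5) C (nat_lit 17) σ LYn.Rl E (nat_lit 11)) (nat_lit 0) (nat_lit 14) = true := by decide +kernel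
theorem rele_12_0 : allZ (relEnt (nat_lit 14) (nat_lit 8) (nat_lit 255) (nat_lit 5) C (nat_lit 17) σ LYn.Rl E (nat_lit 12)) (nat_lit 0) (nat_lit 14) = true := by decide +kernel
theorem rele_13_0 : allZ (relEnt (nat_lit 14) (nat_lit 8) (nat_lit 255) (nat_lit 5) C (nat_lit 17) σ LYn.Rl E (nat_lit 13)) (nat_lit 0) (nat_lit 14) = true := by decide +kernel
theorem rele_14_0 : allZ (relEnt (nat_lit 14) (nat_lit 8) (nat_lit 255) (nat_lit 5) C (nat_lit 17) σ LYn.Rl E (nat_lit 14)) (nat_lit 0) (nat_lit 14) = true := by decide +kernel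
theorem rele_15_0 : allZ (relEnt (nat_lit 14) (nat_lit 8) (nat_lit 255) (nat_lit 5) C (nat_lit 17) σ LYn.Rl E (nat_lit 15)) (nat_lit 0) (nat_lit 14) = true := by decide +kernel
theorem rele_16_0 : allZ (relEnt (nat_lit 14) (nat_lit 8) (nat_lit 255) (nat_lit 5) C (nat_lit 17) σ LYn.Rl E (nat_lit 16)) (nat_lit 0) (nat_lit 14) = true := by decide +kernel
theorem rele_17_0 : allZ (relEnt (nat_lit 14) (nat_lit 8) (nat_lit 255) (nat_lit 5) C (nat_lit 17) σ LYn.Rl E (nat_lit 17)) (nat_lit 0) (nat_lit 14) = true := by decide +kernel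
theorem rele_18_0 : allZ (relEnt (nat_lit 14) (nat_lit 8) (nat_lit 255) (nat_lit 5) C (nat_lit 17) σ LYn.Rl E (nat_lit 18)) (nat_lit 0) (nat_lit 14) = true := by decide +kernel
theorem rele_19_0 : allZ (relEnt (nat_lit 14) (nat_lit 8) (nat_lit 255) (nat_lit 5) C (nat_lit 17) σ LYn.Rl E (nat_lit 19)) (nat_lit 0) (nat_lit 14) = true := by decide +kernel
theorem rele_20_0 : allZ (relEnt (nat_lit 14) (nat_lit 8) (nat_lit 255) (nat_lit 5) C (nat_lit 17) σ LYn.Rl E (nat_lit 20)) (nat_lit 0) (nat_lit 14) = true := by decide +kernel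
theorem rele_21_0 : allZ (relEnt (nat_lit 14) (nat_lit 8) (nat_lit 255) (nat_lit 5) C (nat_lit 17) σ LYn.Rl E (nat_lit 21)) (nat_lit 0) (nat_lit 14) = true := by decide +kernel
theorem rele_22_0 : allZ (relEnt (nat_lit 14) (nat_lit 8) (nat_lit 255) (nat_lit 5) C (nat_lit 17) σ LYn.Rl E (nat_lit 22)) (nat_lit 0) (nat_lit 14) = true := by decide +kernel
theorem rele_23_0 : allZ (relEnt (nat_lit 14) (nat_lit 8) (nat_lit 255) (nat_lit 5) C (nat_lit 17) σ LYn.Rl E (nat_lit 23)) (nat_lit 0) (nat_lit 14) = true := by decide +kernel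
theorem rele_24_0 : allZ (relEnt (nat_lit 14) (nat_lit 8) (nat_lit 255) (nat_lit 5) C (nat_lit 17) σ LYn.Rl E (nat_lit 24)) (nat_lit 0) (nat_lit 14) = true := by decide +kernel
theorem rele_25_0 : allZ (relEnt (nat_lit 14) (nat_lit 8) (nat_lit 255) (nat_lit 5) C (nat_lit 17) σ LYn.Rl E (nat_lit 25)) (nat_lit 0) (nat_lit 14) = true := by decide +kernel
theorem rele_26_0 : allZ (relEnt (nat_lit 14) (nat_lit 8) (nat_lit 255) (nat_lit 5) C (nat_lit 17) σ LYn.Rl E (nat_lit 26)) (nat_lit 0) (nat_lit 14) = true := by decide +kernel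
theorem rele_27_0 : allZ (relEnt (nat_lit 14) (nat_lit 8) (nat_lit 255) (nat_lit 5) C (nat_lit 17) σ LYn.Rl E (nat_lit 27)) (nat_lit 0) (nat_lit 14) = true := by decide +kernel
theorem rele_28_0 : allZ (relEnt (nat_lit 14) (nat_lit 8) (nat_lit 255) (nat_lit 5) C (nat_lit 17) σ LYn.Rl E (nat_lit 28)) (nat_lit 0) (nat_lit 14) = true := by decide +kernel
theorem rele_29_0 : allZ (relEnt (nat_lit 14) (nat_lit 8) (nat_lit 255) (nat_lit 5) C (nat_lit 17) σ LYn.Rl E (nat_lit 29)) (nat_lit 0) (nat_lit 14) = true := by decide +kernel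
theorem rele_30_0 : allZ (relEnt (nat_lit 14) (nat_lit 8) (nat_lit 255) (nat_lit 5) C (nat_lit 17) σ LYn.Rl E (nat_lit 30)) (nat_lit 0) (nat_lit 14) = true := by decide +kernel
theorem rele_31_0 : allZ (relEnt (nat_lit 14) (nat_lit 8) (nat_lit 255) (nat_lit 5) C (nat_lit 17) σ LYn.Rl E (nat_lit 31)) (nat_lit 0) (nat_lit 14) = true := by decide +kernel
theorem rele_32_0 : allZ (relEnt (nat_lit 14) (nat_lit 8) (nat_lit 255) (nat_lit 5) C (nat_lit 17) σ LYn.Rl E (nat_lit 32)) (nat_lit 0) (nat_lit 14) = true := by decide +kernel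
theorem rele_33_0 : allZ (relEnt (nat_lit 14) (nat_lit 8) (nat_lit 255) (nat_lit 5) C (nat_lit 17) σ LYn.Rl E (nat_lit 33)) (nat_lit 0) (nat_lit 14) = true := by decide +kernel
theorem rele_34_0 : allZ (relEnt (nat_lit 14) (nat_lit 8) (nat_lit 255) (nat_lit 5) C (nat_lit 17) σ LYn.Rl E (nat_lit 34)) (nat_lit 0) (nat_lit 14) = true := by decide +kernel
theorem rele_35_0 : allZ (relEnt (nat_lit 14) (nat_lit 8) (nat_lit 255) (nat_lit 5) C (nat_lit 17) σ LYn.Rl E (nat_lit 35)) (nat_lit 0) (nat_lit 14) = true := by decide +kernel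
theorem rele_36_0 : allZ (relEnt (nat_lit 14) (nat_lit 8) (nat_lit 255) (nat_lit 5) C (nat_lit 17) σ LYn.Rl E (nat_lit 36)) (nat_lit 0) (nat_lit 14) = true := by decide +kernel
theorem rele_37_0 : allZ (relEnt (nat_lit 14) (nat_lit 8) (nat_lit 255) (nat_lit 5) C (nat_lit 17) σ LYn.Rl E (nat_lit 37)) (nat_lit 0) (nat_lit 14) = true := by decide +kernel
theorem rele_38_0 : allZ (relEnt (nat_lit 14) (nat_lit 8) (nat_lit 255) (nat_lit 5) C (nat_lit 17) σ LYn.Rl E (nat_lit 38)) (nat_lit 0) (nat_lit 14) = true := by decide +kernel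
theorem rele_39_0 : allZ (relEnt (nat_lit 14) (nat_lit 8) (nat_lit 255) (nat_lit 5) C (nat_lit 17) σ LYn.Rl E (nat_lit 39)) (nat_lit 0) (nat_lit 14) = true := by decide +kernel
theorem rele_40_0 : allZ (relEnt (nat_lit 14) (nat_lit 8) (nat_lit 255) (nat_lit 5) C (nat_lit 17) σ LYn.Rl E (nat_lit 40)) (nat_lit 0) (nat_lit 14) = true := by decide +kernel
theorem rele_41_0 : allZ (relEnt (nat_lit 14) (nat_lit 8) (nat_lit 255) (nat_lit 5) C (nat_lit 17) σ LYn.Rl E (nat_lit 41)) (nat_lit 0) (nat_lit 14) = true := by decide +kernel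
theorem rele_42_0 : allZ (relEnt (nat_lit 14) (nat_lit 8) (nat_lit 255) (nat_lit 5) C (nat_lit 17) σ LYn.Rl E (nat_lit 42)) (nat_lit 0) (nat_lit 14) = true := by decide +kernel
theorem rele_43_0 : allZ (relEnt (nat_lit 14) (nat_lit 8) (nat_lit 255) (nat_lit 5) C (nat_lit 17) σ LYn.Rl E (nat_lit 43)) (nat_lit 0) (nat_lit 14) = true := by decide +kernel
theorem rele_44_0 : allZ (relEnt (nat_lit 14) (nat_lit 8) (nat_lit 255) (nat_lit 5) C (nat_lit 17) σ LYn.Rl E (nat_lit 44)) (nat_lit 0) (nat_lit 14) = true := by decide +kernel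
theorem rele_45_0 : allZ (relEnt (nat_lit 14) (nat_lit 8) (nat_lit 255) (nat_lit 5) C (nat_lit 17) σ LYn.Rl E (nat_lit 45)) (nat_lit 0) (nat_lit 14) = true := by decide +kernel
theorem misc : q.OK ∧ SL.length = 12 ∧ LYn.Rl.length = 46 ∧ allL (ltAll 1) E = true := by decide +kernel
theorem rv0 : ∀ t : ZMod 5, ltAll 8 (VW 0 t.val) = 0 ∧ ltAll 17 ((VW 0 t.val).map (nth 0 σ)) = 0 ∧ ∀ j,
    ∀ x ∈ [apM q.w q.m q.p C ((VW 0 t.val).map (nth 0 σ)) (unitV q.w ((IG).idx j))], ∀ i,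
      Lie.chevG2.xMat (ZMod 5) ⟨0, by decide⟩ t i j = valR om 14 1 q.w x ((IG).idx i) := by decide +kernel
theorem rv1 : ∀ t : ZMod 5, ltAll 8 (VW 1 t.val) = 0 ∧ ltAll 17 ((VW 1 t.val).map (nth 0 σ)) = 0 ∧ ∀ j,
    ∀ x ∈ [apM q.w q.m q.p C ((VW 1 t.val).map (nth 0 σ)) (unitV q.w ((IG).idx j))], ∀ i,
      Lie.chevG2.xMat (ZMod 5) ⟨1, by decide⟩ t i j = valR om 14 1 q.w x ((IG).idx i) := by decide +kernel
theorem rv2 : ∀ t : ZMod 5, ltAll 8 (VW 2 t.val) = 0 ∧ ltAll 17 ((VW 2 t.val).map (nth 0 σ)) = 0 ∧ ∀ j,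
    ∀ x ∈ [apM q.w q.m q.p C ((VW 2 t.val).map (nth 0 σ)) (unitV q.w ((IG).idx j))], ∀ i,
      Lie.chevG2.xMat (ZMod 5) ⟨2, by decide⟩ t i j = valR om 14 1 q.w x ((IG).idx i) := by decide +kernel
theorem rv3 : ∀ t : ZMod 5, ltAll 8 (VW 3 t.val) = 0 ∧ ltAll 17 ((VW 3 t.val).map (nth 0 σ)) = 0 ∧ ∀ j,
    ∀ x ∈ [apM q.w q.m q.p C ((VW 3 t.val).map (nth 0 σ)) (unitV q.w ((IG).idx j))], ∀ i,
      Lie.chevG2.xMat (ZMod 5) ⟨3, by decide⟩ t i j = valR om 14 1 q.w x ((IG).idx i) := by decide +kernel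
theorem rv4 : ∀ t : ZMod 5, ltAll 8 (VW 4 t.val) = 0 ∧ ltAll 17 ((VW 4 t.val).map (nth 0 σ)) = 0 ∧ ∀ j,
    ∀ x ∈ [apM q.w q.m q.p C ((VW 4 t.val).map (nth 0 σ)) (unitV q.w ((IG).idx j))], ∀ i,
      Lie.chevG2.xMat (ZMod 5) ⟨4, by decide⟩ t i j = valR om 14 1 q.w x ((IG).idx i) := by decide +kernel
theorem rv5 : ∀ t : ZMod 5, ltAll 8 (VW 5 t.val) = 0 ∧ ltAll 17 ((VW 5 t.val).map (nth 0 σ)) = 0 ∧ ∀ j,
    ∀ x ∈ [apM q.w q.m q.p C ((VW 5 t.val).map (nth 0 σ)) (unitV q.w ((IG).idx j))], ∀ i,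
      Lie.chevG2.xMat (ZMod 5) ⟨5, by decide⟩ t i j = valR om 14 1 q.w x ((IG).idx i) := by decide +kernel
theorem rv6 : ∀ t : ZMod 5, ltAll 8 (VW 6 t.val) = 0 ∧ ltAll 17 ((VW 6 t.val).map (nth 0 σ)) = 0 ∧ ∀ j,
    ∀ x ∈ [apM q.w q.m q.p C ((VW 6 t.val).map (nth 0 σ)) (unitV q.w ((IG).idx j))], ∀ i,
      Lie.chevG2.xMat (ZMod 5) ⟨6, by decide⟩ t i j = valR om 14 1 q.w x ((IG).idx i) := by decide +kernel
theorem rv7 : ∀ t : ZMod 5, ltAll 8 (VW 7 t.val) = 0 ∧ ltAll 17 ((VW 7 t.val).map (nth 0 σ)) = 0 ∧ ∀ j,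
    ∀ x ∈ [apM q.w q.m q.p C ((VW 7 t.val).map (nth 0 σ)) (unitV q.w ((IG).idx j))], ∀ i,
      Lie.chevG2.xMat (ZMod 5) ⟨7, by decide⟩ t i j = valR om 14 1 q.w x ((IG).idx i) := by decide +kernel
theorem rv8 : ∀ t : ZMod 5, ltAll 8 (VW 8 t.val) = 0 ∧ ltAll 17 ((VW 8 t.val).map (nth 0 σ)) = 0 ∧ ∀ j,
    ∀ x ∈ [apM q.w q.m q.p C ((VW 8 t.val).map (nth 0 σ)) (unitV q.w ((IG).idx j))], ∀ i,
      Lie.chevG2.xMat (ZMod 5) ⟨8, by decide⟩ t i j = valR om 14 1 q.w x ((IG).idx i) := by decide +kernel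
theorem rv9 : ∀ t : ZMod 5, ltAll 8 (VW 9 t.val) = 0 ∧ ltAll 17 ((VW 9 t.val).map (nth 0 σ)) = 0 ∧ ∀ j,
    ∀ x ∈ [apM q.w q.m q.p C ((VW 9 t.val).map (nth 0 σ)) (unitV q.w ((IG).idx j))], ∀ i,
      Lie.chevG2.xMat (ZMod 5) ⟨9, by decide⟩ t i j = valR om 14 1 q.w x ((IG).idx i) := by decide +kernel
theorem rv10 : ∀ t : ZMod 5, ltAll 8 (VW 10 t.val) = 0 ∧ ltAll 17 ((VW 10 t.val).map (nth 0 σ)) = 0 ∧ ∀ j,
    ∀ x ∈ [apM q.w q.m q.p C ((VW 10 t.val).map (nth 0 σ)) (unitV q.w ((IG).idx j))], ∀ i,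
      Lie.chevG2.xMat (ZMod 5) ⟨10, by decide⟩ t i j = valR om 14 1 q.w x ((IG).idx i) := by decide +kernel
theorem rv11 : ∀ t : ZMod 5, ltAll 8 (VW 11 t.val) = 0 ∧ ltAll 17 ((VW 11 t.val).map (nth 0 σ)) = 0 ∧ ∀ j,
    ∀ x ∈ [apM q.w q.m q.p C ((VW 11 t.val).map (nth 0 σ)) (unitV q.w ((IG).idx j))], ∀ i,
      Lie.chevG2.xMat (ZMod 5) ⟨11, by decide⟩ t i j = valR om 14 1 q.w x ((IG).idx i) := by decide +kernel

theorem slpe : ∀ k < 12, ∀ i < 14, (slpEnt (nat_lit 14) (nat_lit 8) (nat_lit 255) (nat_lit 5) C (nat_lit 5) SL) k i = 0 := allZ2_sound slpe_a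
theorem rele_0 : ∀ i < 14, (relEnt (nat_lit 14) (nat_lit 8) (nat_lit 255) (nat_lit 5) C (nat_lit 17) σ LYn.Rl E (nat_lit 0)) i = 0 := allZ_sound0 rele_0_0
theorem rele_1 : ∀ i < 14, (relEnt (nat_lit 14) (nat_lit 8) (nat_lit 255) (nat_lit 5) C (nat_lit 17) σ LYn.Rl E (nat_lit 1)) i = 0 := allZ_sound0 rele_1_0
theorem rele_2 : ∀ i < 14, (relEnt (nat_lit 14) (nat_lit 8) (nat_lit 255) (nat_lit 5) C (nat_lit 17) σ LYn.Rl E (nat_lit 2)) i = 0 := allZ_sound0 rele_2_0
theorem rele_3 : ∀ i < 14, (relEnt (nat_lit 14) (nat_lit 8) (nat_lit 255) (nat_lit 5) C (nat_lit 17) σ LYn.Rl E (nat_lit 3)) i = 0 := allZ_sound0 rele_3_0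
theorem rele_4 : ∀ i < 14, (relEnt (nat_lit 14) (nat_lit 8) (nat_lit 255) (nat_lit 5) C (nat_lit 17) σ LYn.Rl E (nat_lit 4)) i = 0 := allZ_sound0 rele_4_0
theorem rele_5 : ∀ i < 14, (relEnt (nat_lit 14) (nat_lit 8) (nat_lit 255) (nat_lit 5) C (nat_lit 17) σ LYn.Rl E (nat_lit 5)) i = 0 := allZ_sound0 rele_5_0
theorem rele_6 : ∀ i < 14, (relEnt (nat_lit 14) (nat_lit 8) (nat_lit 255) (nat_lit 5) C (nat_lit 17) σ LYn.Rl E (nat_lit 6)) i = 0 := allZ_sound0 rele_6_0
theorem rele_7 : ∀ i < 14, (relEnt (nat_lit 14) (nat_lit 8) (nat_lit 255) (nat_lit 5) C (nat_lit 17) σ LYn.Rl E (nat_lit 7)) i = 0 := allZ_sound0 rele_7_0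
theorem rele_8 : ∀ i < 14, (relEnt (nat_lit 14) (nat_lit 8) (nat_lit 255) (nat_lit 5) C (nat_lit 17) σ LYn.Rl E (nat_lit 8)) i = 0 := allZ_sound0 rele_8_0
theorem rele_9 : ∀ i < 14, (relEnt (nat_lit 14) (nat_lit 8) (nat_lit 255) (nat_lit 5) C (nat_lit 17) σ LYn.Rl E (nat_lit 9)) i = 0 := allZ_sound0 rele_9_0
theorem rele_10 : ∀ i < 14, (relEnt (nat_lit 14) (nat_lit 8) (nat_lit 255) (nat_lit 5) C (nat_lit 17) σ LYn.Rl E (nat_lit 10)) i = 0 := allZ_sound0 rele_10_0
theorem rele_11 : ∀ i < 14, (relEnt (nat_lit 14) (nat_lit 8) (nat_lit 255) (nat_lit 5) C (nat_lit 17) σ LYn.Rl E (nat_lit 11)) i = 0 := allZ_sound0 rele_11_0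
theorem rele_12 : ∀ i < 14, (relEnt (nat_lit 14) (nat_lit 8) (nat_lit 255) (nat_lit 5) C (nat_lit 17) σ LYn.Rl E (nat_lit 12)) i = 0 := allZ_sound0 rele_12_0
theorem rele_13 : ∀ i < 14, (relEnt (nat_lit 14) (nat_lit 8) (nat_lit 255) (nat_lit 5) C (nat_lit 17) σ LYn.Rl E (nat_lit 13)) i = 0 := allZ_sound0 rele_13_0
theorem rele_14 : ∀ i < 14, (relEnt (nat_lit 14) (nat_lit 8) (nat_lit 255) (nat_lit 5) C (nat_lit 17) σ LYn.Rl E (nat_lit 14)) i = 0 := allZ_sound0 rele_14_0
theorem rele_15 : ∀ i < 14, (relEnt (nat_lit 14) (nat_lit 8) (nat_lit 255) (nat_lit 5) C (nat_lit 17) σ LYn.Rl E (nat_lit 15)) i = 0 := allZ_sound0 rele_15_0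
theorem rele_16 : ∀ i < 14, (relEnt (nat_lit 14) (nat_lit 8) (nat_lit 255) (nat_lit 5) C (nat_lit 17) σ LYn.Rl E (nat_lit 16)) i = 0 := allZ_sound0 rele_16_0
theorem rele_17 : ∀ i < 14, (relEnt (nat_lit 14) (nat_lit 8) (nat_lit 255) (nat_lit 5) C (nat_lit 17) σ LYn.Rl E (nat_lit 17)) i = 0 := allZ_sound0 rele_17_0
theorem rele_18 : ∀ i < 14, (relEnt (nat_lit 14) (nat_lit 8) (nat_lit 255) (nat_lit 5) C (nat_lit 17) σ LYn.Rl E (nat_lit 18)) i = 0 := allZ_sound0 rele_18_0
theorem rele_19 : ∀ i < 14, (relEnt (nat_lit 14) (nat_lit 8) (nat_lit 255) (nat_lit 5) C (nat_lit 17) σ LYn.Rl E (nat_lit 19)) i = 0 := allZ_sound0 rele_19_0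
theorem rele_20 : ∀ i < 14, (relEnt (nat_lit 14) (nat_lit 8) (nat_lit 255) (nat_lit 5) C (nat_lit 17) σ LYn.Rl E (nat_lit 20)) i = 0 := allZ_sound0 rele_20_0
theorem rele_21 : ∀ i < 14, (relEnt (nat_lit 14) (nat_lit 8) (nat_lit 255) (nat_lit 5) C (nat_lit 17) σ LYn.Rl E (nat_lit 21)) i = 0 := allZ_sound0 rele_21_0
theorem rele_22 : ∀ i < 14, (relEnt (nat_lit 14) (nat_lit 8) (nat_lit 255) (nat_lit 5) C (nat_lit 17) σ LYn.Rl E (nat_lit 22)) i = 0 := allZ_sound0 rele_22_0
theorem rele_23 : ∀ i < 14, (relEnt (nat_lit 14) (nat_lit 8) (nat_lit 255) (nat_lit 5) C (nat_lit 17) σ LYn.Rl E (nat_lit 23)) i = 0 := allZ_sound0 rele_23_0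
theorem rele_24 : ∀ i < 14, (relEnt (nat_lit 14) (nat_lit 8) (nat_lit 255) (nat_lit 5) C (nat_lit 17) σ LYn.Rl E (nat_lit 24)) i = 0 := allZ_sound0 rele_24_0
theorem rele_25 : ∀ i < 14, (relEnt (nat_lit 14) (nat_lit 8) (nat_lit 255) (nat_lit 5) C (nat_lit 17) σ LYn.Rl E (nat_lit 25)) i = 0 := allZ_sound0 rele_25_0
theorem rele_26 : ∀ i < 14, (relEnt (nat_lit 14) (nat_lit 8) (nat_lit 255) (nat_lit 5) C (nat_lit 17) σ LYn.Rl E (nat_lit 26)) i = 0 := allZ_sound0 rele_26_0
theorem rele_27 : ∀ i < 14, (relEnt (nat_lit 14) (nat_lit 8) (nat_lit 255) (nat_lit 5) C (nat_lit 17) σ LYn.Rl E (nat_lit 27)) i = 0 := allZ_sound0 rele_27_0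
theorem rele_28 : ∀ i < 14, (relEnt (nat_lit 14) (nat_lit 8) (nat_lit 255) (nat_lit 5) C (nat_lit 17) σ LYn.Rl E (nat_lit 28)) i = 0 := allZ_sound0 rele_28_0
theorem rele_29 : ∀ i < 14, (relEnt (nat_lit 14) (nat_lit 8) (nat_lit 255) (nat_lit 5) C (nat_lit 17) σ LYn.Rl E (nat_lit 29)) i = 0 := allZ_sound0 rele_29_0
theorem rele_30 : ∀ i < 14, (relEnt (nat_lit 14) (nat_lit 8) (nat_lit 255) (nat_lit 5) C (nat_lit 17) σ LYn.Rl E (nat_lit 30)) i = 0 := allZ_sound0 rele_30_0
theorem rele_31 : ∀ i < 14, (relEnt (nat_lit 14) (nat_lit 8) (nat_lit 255) (nat_lit 5) C (nat_lit 17) σ LYn.Rl E (nat_lit 31)) i = 0 := allZ_sound0 rele_31_0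
theorem rele_32 : ∀ i < 14, (relEnt (nat_lit 14) (nat_lit 8) (nat_lit 255) (nat_lit 5) C (nat_lit 17) σ LYn.Rl E (nat_lit 32)) i = 0 := allZ_sound0 rele_32_0
theorem rele_33 : ∀ i < 14, (relEnt (nat_lit 14) (nat_lit 8) (nat_lit 255) (nat_lit 5) C (nat_lit 17) σ LYn.Rl E (nat_lit 33)) i = 0 := allZ_sound0 rele_33_0
theorem rele_34 : ∀ i < 14, (relEnt (nat_lit 14) (nat_lit 8) (nat_lit 255) (nat_lit 5) C (nat_lit 17) σ LYn.Rl E (nat_lit 34)) i = 0 := allZ_sound0 rele_34_0
theorem rele_35 : ∀ i < 14, (relEnt (nat_lit 14) (nat_lit 8) (nat_lit 255) (nat_lit 5) C (nat_lit 17) σ LYn.Rl E (nat_lit 35)) i = 0 := allZ_sound0 rele_35_0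
theorem rele_36 : ∀ i < 14, (relEnt (nat_lit 14) (nat_lit 8) (nat_lit 255) (nat_lit 5) C (nat_lit 17) σ LYn.Rl E (nat_lit 36)) i = 0 := allZ_sound0 rele_36_0
theorem rele_37 : ∀ i < 14, (relEnt (nat_lit 14) (nat_lit 8) (nat_lit 255) (nat_lit 5) C (nat_lit 17) σ LYn.Rl E (nat_lit 37)) i = 0 := allZ_sound0 rele_37_0
theorem rele_38 : ∀ i < 14, (relEnt (nat_lit 14) (nat_lit 8) (nat_lit 255) (nat_lit 5) C (nat_lit 17) σ LYn.Rl E (nat_lit 38)) i = 0 := allZ_sound0 rele_38_0
theorem rele_39 : ∀ i < 14, (relEnt (nat_lit 14) (nat_lit 8) (nat_lit 255) (nat_lit 5) C (nat_lit 17) σ LYn.Rl E (nat_lit 39)) i = 0 := allZ_sound0 rele_39_0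
theorem rele_40 : ∀ i < 14, (relEnt (nat_lit 14) (nat_lit 8) (nat_lit 255) (nat_lit 5) C (nat_lit 17) σ LYn.Rl E (nat_lit 40)) i = 0 := allZ_sound0 rele_40_0
theorem rele_41 : ∀ i < 14, (relEnt (nat_lit 14) (nat_lit 8) (nat_lit 255) (nat_lit 5) C (nat_lit 17) σ LYn.Rl E (nat_lit 41)) i = 0 := allZ_sound0 rele_41_0
theorem rele_42 : ∀ i < 14, (relEnt (nat_lit 14) (nat_lit 8) (nat_lit 255) (nat_lit 5) C (nat_lit 17) σ LYn.Rl E (nat_lit 42)) i = 0 := allZ_sound0 rele_42_0
theorem rele_43 : ∀ i < 14, (relEnt (nat_lit 14) (nat_lit 8) (nat_lit 255) (nat_lit 5) C (nat_lit 17) σ LYn.Rl E (nat_lit 43)) i = 0 := allZ_sound0 rele_43_0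
theorem rele_44 : ∀ i < 14, (relEnt (nat_lit 14) (nat_lit 8) (nat_lit 255) (nat_lit 5) C (nat_lit 17) σ LYn.Rl E (nat_lit 44)) i = 0 := allZ_sound0 rele_44_0
theorem rele_45 : ∀ i < 14, (relEnt (nat_lit 14) (nat_lit 8) (nat_lit 255) (nat_lit 5) C (nat_lit 17) σ LYn.Rl E (nat_lit 45)) i = 0 := allZ_sound0 rele_45_0
theorem rele : ∀ k < 46, ∀ i < 14, (relEnt (nat_lit 14) (nat_lit 8) (nat_lit 255) (nat_lit 5) C (nat_lit 17) σ LYn.Rl E) k i = 0 :=
  letters_glue (letters_glue (letters_glue (letters_glue (letters_glue (letters_glue (letters_glue (letters_glue (letters_glue (letters_glue (letters_glue (letters_glue (letters_glue (letters_glue (letters_glue (letters_glue (letters_glue (letters_glue (letters_glue (letters_glue (letters_glue (letters_glue (letters_glue (letters_glue (letters_glue (letters_glue (letters_glue (letters_glue (letters_glue (letters_glue (letters_glue (letters_glue (letters_glue (letters_glue (letters_glue (letters_glue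 (letters_glue (letters_glue (letters_glue (letters_glue (letters_glue (letters_glue (letters_glue (letters_glue (letters_glue (letters_glue (letters_nil) rele_0) rele_1) rele_2) rele_3) rele_4) rele_5) rele_6) rele_7) rele_8) rele_9) rele_10) rele_11) rele_12) rele_13) rele_14) rele_15) rele_16) rele_17) rele_18) rele_19) rele_20) rele_21) rele_22) rele_23) rele_24) rele_25) rele_26) rele_27) rele_28) rele_29) rele_30) rele_31) rele_32) rele_33) rele_34) rele_35) rele_36) rele_37) rele_38) rele_39) rele_40) rele_41) rele_42) rele_43) rele_44) rele_45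
noncomputable def o : List GG := [b0, b1, b2, b3, b4]
theorem amb : Amb q (rhoGL _ _) (eR IG om) ⊥ := amb_GL misc.1 (by decide +kernel)
noncomputable def hs : ℕ → GG := slpG SL (tup o) o.length
theorem mact : MAct q (rhoGL _ _) (eR IG om) ⊥ hs C 17 :=
  (mact_tup (.cons col0 (.cons col1 (.cons col2 (.cons col3 (.cons col4 .nil)))))).slp amb (misc.2.1 ▸ slpe)
/-- the letters of the model as matrices -/
noncomputable def h : ℕ → GG := fun k => hs (nth 0 σ k)
theorem h_mem {A : Subgroup GG} (hA : ∀ a ∈ o, a ∈ A) (k : ℕ) : h k ∈ A := lnk_mem hA SL σ k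
theorem rels_of {Q : Type*} [Group Q] (π : GG →* Q) (hz : π b0 = 1) : Rels (fun k => π (h k)) LYn.Rl :=
  mact.rels_z amb (rigid_R _ _) (by decide) misc.2.2 rele π ((congrArg π (slpG_zero SL b0 _)).trans hz)
theorem word_eq {W : List ℕ} {M : Matrix Lie.chevG2.Idx Lie.chevG2.Idx (ZMod 5)} (hc : ltAll 17 (W.map (nth 0 σ)) = 0 ∧ ∀ j,
    ∀ x ∈ [apM q.w q.m q.p C (W.map (nth 0 σ)) (unitV q.w ((IG).idx j))], ∀ i,
      M i j = valR om 14 1 q.w x ((IG).idx i)) : ((evA h W : GG) : Matrix Lie.chevG2.Idx Lie.chevG2.Idx (ZMod 5)) = M := by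
  have := eq_word (s := 1) amb rfl (by decide) mact hc
  rwa [evA_map] at this
theorem ne : h 2 * h 0 ≠ h 0 * h 2 := fun e => by
  have h1 := word_eq (W := [0, 2]) (M := matR IG om 1 8 [nat_lit 0x4040404040202040100030304, nat_lit 0x304030403020401000002040200, nat_lit 0x100040301000101000102010300, nat_lit 0x100040301020104000403040300, nat_lit 0x400010404000402030102010302, nat_lit 0x100020300000201020402010003, nat_lit 0x300000102020400000302010200, nat_lit 0x403010203000204020403030200, nat_lit 0x2010204040401000100010402, nat_lit 0x402040000000001030004010301, nat_lit 0x303020101040301020401020101, nat_lit 0x4000401020100000300020301, nat_lit 0x203000000030100000001030001, nat_lit 0x403020302030403040104040000]) (by decide +kernel)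
  have h2 := word_eq (W := [2, 0]) (M := matR IG om 1 8 [nat_lit 0x403020000040301040100010201, nat_lit 0x102010401010300020002010202, nat_lit 0x403010300030401030103000200, nat_lit 0x302000203030202020002020300, nat_lit 0x400030402040000040100040403, nat_lit 0x201010000030301030000040302, nat_lit 0x204010301020404000000010004, nat_lit 0x4030400020203040300030404, nat_lit 0x2000003000200020203000202, nat_lit 0x301040301000300020000000403, nat_lit 0x101010401010100030400010000, nat_lit 0x302030000030001030000040302, nat_lit 0x400040404020103040300030404, nat_lit 0x403010101040202010202030300]) (by decide +kernel)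
  simp only [evA_cons, evA_nil, one_mul] at h1 h2
  exact absurd (h1.symm.trans ((congrArg Units.val e).trans h2)) (by decide +kernel)
theorem b0_eq : b0 = 1 := Units.ext (by decide +kernel)
theorem rels : Rels h LYn.Rl := rels_id (rels_of _) b0_eq
theorem m4 : b4 ∈ Lie.chevG2.group (ZMod 5) := Subgroup.subset_closure ⟨⟨5, by decide⟩, 1, by decide +kernel⟩
theorem m3 : b3 ∈ Lie.chevG2.group (ZMod 5) := Subgroup.subset_closure ⟨⟨4, by decide⟩, 1, by decide +kernel⟩
theorem m2 : b2 ∈ Lie.chevG2.group (ZMod 5) := Subgroup.subset_closure ⟨⟨6, by decide⟩, 1, by decide +kernel⟩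
theorem m1 : b1 ∈ Lie.chevG2.group (ZMod 5) := Subgroup.subset_closure ⟨⟨7, by decide⟩, 1, by decide +kernel⟩
theorem m0 : b0 ∈ Lie.chevG2.group (ZMod 5) := mem_of_eq_one b0_eq
theorem eq : gen h 8 = Lie.chevG2.group (ZMod 5) := le_antisymm (gen_le.2 fun k _ => h_mem (all_cons m0 (all_cons m1 (all_cons m2 (all_cons m3 (all_cons m4 all_nil))))) k)
  ((Subgroup.closure_le _).2 fun g ⟨r, t, e⟩ => by
    have : ∃ W, ltAll 8 W = 0 ∧ ((evA h W : GG) : Matrix _ _ _) = Lie.chevG2.xMat (ZMod 5) r t := by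
      fin_cases r
      · exact ⟨_, (rv0 t).1, word_eq (rv0 t).2⟩
      · exact ⟨_, (rv1 t).1, word_eq (rv1 t).2⟩
      · exact ⟨_, (rv2 t).1, word_eq (rv2 t).2⟩
      · exact ⟨_, (rv3 t).1, word_eq (rv3 t).2⟩
      · exact ⟨_, (rv4 t).1, word_eq (rv4 t).2⟩
      · exact ⟨_, (rv5 t).1, word_eq (rv5 t).2⟩
      · exact ⟨_, (rv6 t).1, word_eq (rv6 t).2⟩
      · exact ⟨_, (rv7 t).1, word_eq (rv7 t).2⟩
      · exact ⟨_, (rv8 t).1, word_eq (rv8 t).2⟩
      · exact ⟨_, (rv9 t).1, word_eq (rv9 t).2⟩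
      · exact ⟨_, (rv10 t).1, word_eq (rv10 t).2⟩
      · exact ⟨_, (rv11 t).1, word_eq (rv11 t).2⟩
    obtain ⟨W, h1, h2⟩ := this
    exact (Units.ext (h2.trans e.symm) : _ = g) ▸ evA_mem_gen h (ltAll_zero h1))
theorem equiv : Nonempty (gen LYn.T.π 8 ≃* Lie.chevG2.group (ZMod 5)) :=
  have ⟨e, _⟩ := LYn.bound.exists_equiv LYn.rels LYn.mod.card rels (by rw [eq, Cfsg.Agent.S1059.result (q := 5) rfl]; norm_num)
  ⟨e.trans (MulEquiv.subgroupCongr eq)⟩
theorem simple : IsSimpleGroup (gen LYn.T.π 8) :=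
  DC.simple_of equiv.some (Cfsg.Agent.S1055.result ⟨2, by decide⟩).1
theorem good {p : ℕ} (hp : p.Prime) : DC.Good (gen LYn.T.π 8) p 1 :=
  DC.good_of_schur equiv simple (by rw [LYn.mod.card]; norm_num) (Cfsg.Agent.S2100.result (by decide)) hp

end H16.LYl
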