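import Cfsg.Agent.H16.D.THc.C0
import Cfsg.Agent.H16.D.THc.C1
import Cfsg.Agent.H16.D.THc.C2
import Cfsg.Agent.H16.D.THc.C3
import Cfsg.Agent.H16.D.THc.C4

/-! Generated by tools/h16 (computation kit). -/

set_option maxRecDepth 100000
set_option maxHeartbeats 0

namespace H16.THc

open H26 (jn)
open DC
theorem pe : FP.Prs g (THn.Rl.map fun r => (r, [])) 31 :=
  FP.Prs.step qok rp (FP.Prs.zero g (THn.Rl.map fun r => (r, []))) pe_0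
theorem ph : FP.Prs g ((D42.Rl.map (flat VH)).map fun r => (r, [])) 15 :=
  FP.Prs.step qok rp (FP.Prs.zero g ((D42.Rl.map (flat VH)).map fun r => (r, []))) ph_0
theorem ne : evA g [7, 0, 4, 8, 4, 8, 2, 3, 2, 4, 7, 3, 2, 4, 8, 8, 3, 4, 8, 2, 3, 4, 2, 3, 4] ≠ evA g [] := FP.RpL.ne qok rp nec
theorem rels : Rels g THn.Rl := pe.rels (by decide +kernel)
theorem isoH : Nonempty (gen (wds g VH) 6 ≃* gen D42.g 6) :=
  iso_wds D42.bound D42.rels D42.card D42.simple (ph.rels (by decide +kernel)) ((show nth [] VH 0 = [7, 0, 4, 8, 4, 8, 2, 3, 2, 4, 7, 3, 2, 4, 8, 8, 3, 4, 8, 2, 3, 4, 2, 3, 4] by decide +kernel) ▸ ne) (by decide)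
theorem card : Nat.card (gen g 9) = 634023936 :=
  have := (THn.bound.le rels).1
  low_of_dvd (r := 3) THn.bound THn.rels THn.mod.card rels (gen_wds_le fx.2.1 _) ((Nat.card_congr isoH.some.toEquiv).trans D42.card)
    (two_mul_le qok rp fx) (by norm_num)
theorem low : 634023936 ≤ Nat.card (gen g 9) := card.ge
theorem good {p : ℕ} (h : PB (gen D42.g 6) (p ^ (0 + 1))) : Good (gen THn.T.π 9) p 3 :=
  have ⟨e, _⟩ := THn.bound.exists_equiv THn.rels THn.mod.card rels low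
  (good_of_simple (gen_wds_le fx.2.1 _) isoH D42.simple D42.card card (by norm_num [Nat.factorial]) h).congr e.symm
theorem rta : RT ((dt.ck q).pair (nat_lit 3930) Da Ra Fa id) := RT.of (Dt.of2 rtac :)
theorem va4 : VT ((dt.ck q).pair (nat_lit 3930) Da Ra Fa id) (nat_lit 4) := VT.step rta (VT.zero _) (Dt.of2 va4c :)
theorem vha : VT ((dt.ck q).pair (nat_lit 3930) Da Ra Fa id) (nat_lit 9) := VT.hi (va4) (of_decide_eq_true (Dt.of2 hac :))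
theorem va70 : VT ((dt.ck q).pair (nat_lit 3930) Da Ra Fa id) (nat_lit 70) := VT.step rta (vha) (Dt.of2 va70c :)
theorem vpa : VT (dt.ck q) (nat_lit 2) := VT.pair (VT.zero _) va70 (Dt.of ivc :) (dt.hm qok (by decide +kernel)) pla pia
theorem rtb : RT ((dt.ck q).pair (nat_lit 3930) Db Rb Fb id) := RT.of (Dt.of2 rtbc :)
theorem vb5 : VT ((dt.ck q).pair (nat_lit 3930) Db Rb Fb id) (nat_lit 5) := VT.step rtb (VT.zero _) (Dt.of2 vb5c :)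
theorem vhb : VT ((dt.ck q).pair (nat_lit 3930) Db Rb Fb id) (nat_lit 11) := VT.hi (vb5) (of_decide_eq_true (Dt.of2 hbc :))
theorem vb46 : VT ((dt.ck q).pair (nat_lit 3930) Db Rb Fb id) (nat_lit 46) := VT.step rtb (vhb) (Dt.of2 vb46c :)
theorem vpb : VT (dt.ck q) (nat_lit 3) := VT.pair (vpa) vb46 (Dt.of ivc :) (dt.hm qok (by decide +kernel)) plb pib
theorem rt : RT (dt.ck q) := RT.of (Dt.of rtc :)
theorem v306 : VT (dt.ck q) (nat_lit 306) := VT.step rt (vpb) (Dt.of v306c :)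
theorem v521 : VT (dt.ck q) (nat_lit 521) := VT.step rt (v306) (Dt.of v521c :)
theorem v714 : VT (dt.ck q) (nat_lit 714) := VT.step rt (v521) (Dt.of v714c :)
theorem v903 : VT (dt.ck q) (nat_lit 903) := VT.step rt (v714) (Dt.of v903c :)
theorem v1100 : VT (dt.ck q) (nat_lit 1100) := VT.step rt (v903) (Dt.of v1100c :)
theorem v1294 : VT (dt.ck q) (nat_lit 1294) := VT.step rt (v1100) (Dt.of v1294c :)
theorem v1492 : VT (dt.ck q) (nat_lit 1492) := VT.step rt (v1294) (Dt.of v1492c :)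
theorem v1686 : VT (dt.ck q) (nat_lit 1686) := VT.step rt (v1492) (Dt.of v1686c :)
theorem v1881 : VT (dt.ck q) (nat_lit 1881) := VT.step rt (v1686) (Dt.of v1881c :)
theorem v2212 : VT (dt.ck q) (nat_lit 2212) := VT.step rt (v1881) (Dt.of v2212c :)
theorem v2583 : VT (dt.ck q) (nat_lit 2583) := VT.step rt (v2212) (Dt.of v2583c :)
theorem v2784 : VT (dt.ck q) (nat_lit 2784) := VT.step rt (v2583) (Dt.of v2784c :)
theorem v2980 : VT (dt.ck q) (nat_lit 2980) := VT.step rt (v2784) (Dt.of v2980c :)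
theorem v3189 : VT (dt.ck q) (nat_lit 3189) := VT.step rt (v2980) (Dt.of v3189c :)
theorem v3381 : VT (dt.ck q) (nat_lit 3381) := VT.step rt (v3189) (Dt.of v3381c :)
theorem v3575 : VT (dt.ck q) (nat_lit 3575) := VT.step rt (v3381) (Dt.of v3575c :)
theorem v3768 : VT (dt.ck q) (nat_lit 3768) := VT.step rt (v3575) (Dt.of v3768c :)
theorem v3972 : VT (dt.ck q) (nat_lit 3972) := VT.step rt (v3768) (Dt.of v3972c :)
theorem v4158 : VT (dt.ck q) (nat_lit 4158) := VT.step rt (v3972) (Dt.of v4158c :)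
theorem v4352 : VT (dt.ck q) (nat_lit 4352) := VT.step rt (v4158) (Dt.of v4352c :)
theorem v4429 : VT (dt.ck q) (nat_lit 4429) := VT.step rt (v4352) (Dt.of v4429c :)
theorem actc : Act THn.T.π id (SP THn.T THn.Rl (nat_lit 15)) THn.T.n (dt.ck q).K := Act.mono THn.act (by decide +kernel)
theorem st0 : ST (dt.ck q) (nat_lit 0) (S0.map Prod.snd) := ST.of v4429 (Dt.of st0c :)
theorem l0_1_1 : LT (dt.ck q) THn.T (nat_lit 0) (nat_lit 1) m0_1_1 := LT.edges v4429 actc LT.zero (Dt.of e0_1_1 :)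
theorem l0_1_2 : LT (dt.ck q) THn.T (nat_lit 0) (nat_lit 1) m0_1_2 := LT.reach st0 l0_1_1 e0_1_2
theorem row0 : RowT (dt.ck q) THn.T PL 0 aL := RowT.of (ms := [(nat_lit 0), m0_1_2, (nat_lit 0), (nat_lit 0), (nat_lit 0), (nat_lit 0), (nat_lit 0), (nat_lit 0), (nat_lit 0), (nat_lit 0), (nat_lit 0)]) (.cons LT.zero (.cons l0_1_2 (.cons LT.zero (.cons LT.zero (.cons LT.zero (.cons LT.zero (.cons LT.zero (.cons LT.zero (.cons LT.zero (.cons LT.zero (.cons LT.zero .nil))))))))))) pc0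
theorem st1 : ST (dt.ck q) (nat_lit 1) (S1.map Prod.snd) := ST.of v4429 (Dt.of st1c :)
theorem l1_0_1 : LT (dt.ck q) THn.T (nat_lit 1) (nat_lit 0) m1_0_1 := LT.edges v4429 actc LT.zero (Dt.of e1_0_1 :)
theorem l1_1_1 : LT (dt.ck q) THn.T (nat_lit 1) (nat_lit 1) m1_1_1 := LT.edges v4429 actc LT.zero (Dt.of e1_1_1 :)
theorem l1_1_2 : LT (dt.ck q) THn.T (nat_lit 1) (nat_lit 1) m1_1_2 := LT.reach st1 l1_1_1 e1_1_2
theorem l1_2_1 : LT (dt.ck q) THn.T (nat_lit 1) (nat_lit 2) m1_2_1 := LT.edges v4429 actc LT.zero (Dt.of e1_2_1 :)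
theorem l1_2_2 : LT (dt.ck q) THn.T (nat_lit 1) (nat_lit 2) m1_2_2 := LT.reach st1 l1_2_1 e1_2_2
theorem l1_3_1 : LT (dt.ck q) THn.T (nat_lit 1) (nat_lit 3) m1_3_1 := LT.edges v4429 actc LT.zero (Dt.of e1_3_1 :)
theorem l1_3_2 : LT (dt.ck q) THn.T (nat_lit 1) (nat_lit 3) m1_3_2 := LT.reach st1 l1_3_1 e1_3_2
theorem l1_4_1 : LT (dt.ck q) THn.T (nat_lit 1) (nat_lit 4) m1_4_1 := LT.edges v4429 actc LT.zero (Dt.of e1_4_1 :)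
theorem l1_4_2 : LT (dt.ck q) THn.T (nat_lit 1) (nat_lit 4) m1_4_2 := LT.reach st1 l1_4_1 e1_4_2
theorem l1_5_1 : LT (dt.ck q) THn.T (nat_lit 1) (nat_lit 5) m1_5_1 := LT.edges v4429 actc LT.zero (Dt.of e1_5_1 :)
theorem l1_5_2 : LT (dt.ck q) THn.T (nat_lit 1) (nat_lit 5) m1_5_2 := LT.reach st1 l1_5_1 e1_5_2
theorem l1_6_1 : LT (dt.ck q) THn.T (nat_lit 1) (nat_lit 6) m1_6_1 := LT.edges v4429 actc LT.zero (Dt.of e1_6_1 :)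
theorem l1_6_2 : LT (dt.ck q) THn.T (nat_lit 1) (nat_lit 6) m1_6_2 := LT.reach st1 l1_6_1 e1_6_2
theorem row1 : RowT (dt.ck q) THn.T PL 1 aL := RowT.of (ms := [m1_0_1, m1_1_2, m1_2_2, m1_3_2, m1_4_2, m1_5_2, m1_6_2, (nat_lit 0), (nat_lit 0), (nat_lit 0), (nat_lit 0)]) (.cons l1_0_1 (.cons l1_1_2 (.cons l1_2_2 (.cons l1_3_2 (.cons l1_4_2 (.cons l1_5_2 (.cons l1_6_2 (.cons LT.zero (.cons LT.zero (.cons LT.zero (.cons LT.zero .nil))))))))))) pc1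
theorem st2 : ST (dt.ck q) (nat_lit 2) (S2.map Prod.snd) := ST.of v4429 (Dt.of st2c :)
theorem l2_1_1 : LT (dt.ck q) THn.T (nat_lit 2) (nat_lit 1) m2_1_1 := LT.edges v4429 actc LT.zero (Dt.of e2_1_1 :)
theorem l2_1_2 : LT (dt.ck q) THn.T (nat_lit 2) (nat_lit 1) m2_1_2 := LT.reach st2 l2_1_1 e2_1_2
theorem l2_2_1 : LT (dt.ck q) THn.T (nat_lit 2) (nat_lit 2) m2_2_1 := LT.edges v4429 actc LT.zero (Dt.of e2_2_1 :)
theorem l2_2_2 : LT (dt.ck q) THn.T (nat_lit 2) (nat_lit 2) m2_2_2 := LT.reach st2 l2_2_1 e2_2_2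
theorem l2_3_1 : LT (dt.ck q) THn.T (nat_lit 2) (nat_lit 3) m2_3_1 := LT.edges v4429 actc LT.zero (Dt.of e2_3_1 :)
theorem l2_3_2 : LT (dt.ck q) THn.T (nat_lit 2) (nat_lit 3) m2_3_2 := LT.reach st2 l2_3_1 e2_3_2
theorem l2_5_1 : LT (dt.ck q) THn.T (nat_lit 2) (nat_lit 5) m2_5_1 := LT.edges v4429 actc LT.zero (Dt.of e2_5_1 :)
theorem l2_5_2 : LT (dt.ck q) THn.T (nat_lit 2) (nat_lit 5) m2_5_2 := LT.reach st2 l2_5_1 e2_5_2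
theorem l2_9_1 : LT (dt.ck q) THn.T (nat_lit 2) (nat_lit 9) m2_9_1 := LT.edges v4429 actc LT.zero (Dt.of e2_9_1 :)
theorem l2_9_2 : LT (dt.ck q) THn.T (nat_lit 2) (nat_lit 9) m2_9_2 := LT.reach st2 l2_9_1 e2_9_2
theorem l2_10_1 : LT (dt.ck q) THn.T (nat_lit 2) (nat_lit 10) m2_10_1 := LT.edges v4429 actc LT.zero (Dt.of e2_10_1 :)
theorem l2_10_2 : LT (dt.ck q) THn.T (nat_lit 2) (nat_lit 10) m2_10_2 := LT.reach st2 l2_10_1 e2_10_2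
theorem row2 : RowT (dt.ck q) THn.T PL 2 aL := RowT.of (ms := [(nat_lit 0), m2_1_2, m2_2_2, m2_3_2, (nat_lit 0), m2_5_2, (nat_lit 0), (nat_lit 0), (nat_lit 0), m2_9_2, m2_10_2]) (.cons LT.zero (.cons l2_1_2 (.cons l2_2_2 (.cons l2_3_2 (.cons LT.zero (.cons l2_5_2 (.cons LT.zero (.cons LT.zero (.cons LT.zero (.cons l2_9_2 (.cons l2_10_2 .nil))))))))))) pc2
theorem st3 : ST (dt.ck q) (nat_lit 3) (S3.map Prod.snd) := ST.of v4429 (Dt.of st3c :)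
theorem l3_1_1 : LT (dt.ck q) THn.T (nat_lit 3) (nat_lit 1) m3_1_1 := LT.edges v4429 actc LT.zero (Dt.of e3_1_1 :)
theorem l3_1_2 : LT (dt.ck q) THn.T (nat_lit 3) (nat_lit 1) m3_1_2 := LT.reach st3 l3_1_1 e3_1_2
theorem l3_2_1 : LT (dt.ck q) THn.T (nat_lit 3) (nat_lit 2) m3_2_1 := LT.edges v4429 actc LT.zero (Dt.of e3_2_1 :)
theorem l3_2_2 : LT (dt.ck q) THn.T (nat_lit 3) (nat_lit 2) m3_2_2 := LT.reach st3 l3_2_1 e3_2_2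
theorem l3_3_1 : LT (dt.ck q) THn.T (nat_lit 3) (nat_lit 3) m3_3_1 := LT.edges v4429 actc LT.zero (Dt.of e3_3_1 :)
theorem l3_3_2 : LT (dt.ck q) THn.T (nat_lit 3) (nat_lit 3) m3_3_2 := LT.reach st3 l3_3_1 e3_3_2
theorem l3_4_1 : LT (dt.ck q) THn.T (nat_lit 3) (nat_lit 4) m3_4_1 := LT.edges v4429 actc LT.zero (Dt.of e3_4_1 :)
theorem l3_4_2 : LT (dt.ck q) THn.T (nat_lit 3) (nat_lit 4) m3_4_2 := LT.reach st3 l3_4_1 e3_4_2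
theorem l3_5_1 : LT (dt.ck q) THn.T (nat_lit 3) (nat_lit 5) m3_5_1 := LT.edges v4429 actc LT.zero (Dt.of e3_5_1 :)
theorem l3_5_2 : LT (dt.ck q) THn.T (nat_lit 3) (nat_lit 5) m3_5_2 := LT.reach st3 l3_5_1 e3_5_2
theorem l3_6_1 : LT (dt.ck q) THn.T (nat_lit 3) (nat_lit 6) m3_6_1 := LT.edges v4429 actc LT.zero (Dt.of e3_6_1 :)
theorem l3_6_2 : LT (dt.ck q) THn.T (nat_lit 3) (nat_lit 6) m3_6_2 := LT.reach st3 l3_6_1 e3_6_2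
theorem l3_7_1 : LT (dt.ck q) THn.T (nat_lit 3) (nat_lit 7) m3_7_1 := LT.edges v4429 actc LT.zero (Dt.of e3_7_1 :)
theorem l3_7_2 : LT (dt.ck q) THn.T (nat_lit 3) (nat_lit 7) m3_7_2 := LT.reach st3 l3_7_1 e3_7_2
theorem l3_8_1 : LT (dt.ck q) THn.T (nat_lit 3) (nat_lit 8) m3_8_1 := LT.edges v4429 actc LT.zero (Dt.of e3_8_1 :)
theorem l3_8_2 : LT (dt.ck q) THn.T (nat_lit 3) (nat_lit 8) m3_8_2 := LT.reach st3 l3_8_1 e3_8_2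
theorem l3_9_1 : LT (dt.ck q) THn.T (nat_lit 3) (nat_lit 9) m3_9_1 := LT.edges v4429 actc LT.zero (Dt.of e3_9_1 :)
theorem l3_9_2 : LT (dt.ck q) THn.T (nat_lit 3) (nat_lit 9) m3_9_2 := LT.reach st3 l3_9_1 e3_9_2
theorem l3_10_1 : LT (dt.ck q) THn.T (nat_lit 3) (nat_lit 10) m3_10_1 := LT.edges v4429 actc LT.zero (Dt.of e3_10_1 :)
theorem l3_10_2 : LT (dt.ck q) THn.T (nat_lit 3) (nat_lit 10) m3_10_2 := LT.reach st3 l3_10_1 e3_10_2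
theorem row3 : RowT (dt.ck q) THn.T PL 3 aL := RowT.of (ms := [(nat_lit 0), m3_1_2, m3_2_2, m3_3_2, m3_4_2, m3_5_2, m3_6_2, m3_7_2, m3_8_2, m3_9_2, m3_10_2]) (.cons LT.zero (.cons l3_1_2 (.cons l3_2_2 (.cons l3_3_2 (.cons l3_4_2 (.cons l3_5_2 (.cons l3_6_2 (.cons l3_7_2 (.cons l3_8_2 (.cons l3_9_2 (.cons l3_10_2 .nil))))))))))) pc3
theorem st4 : ST (dt.ck q) (nat_lit 4) (S4.map Prod.snd) := ST.of v4429 (Dt.of st4c :)
theorem l4_1_1 : LT (dt.ck q) THn.T (nat_lit 4) (nat_lit 1) m4_1_1 := LT.edges v4429 actc LT.zero (Dt.of e4_1_1 :)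
theorem l4_1_2 : LT (dt.ck q) THn.T (nat_lit 4) (nat_lit 1) m4_1_2 := LT.reach st4 l4_1_1 e4_1_2
theorem l4_3_1 : LT (dt.ck q) THn.T (nat_lit 4) (nat_lit 3) m4_3_1 := LT.edges v4429 actc LT.zero (Dt.of e4_3_1 :)
theorem l4_3_2 : LT (dt.ck q) THn.T (nat_lit 4) (nat_lit 3) m4_3_2 := LT.reach st4 l4_3_1 e4_3_2
theorem l4_4_1 : LT (dt.ck q) THn.T (nat_lit 4) (nat_lit 4) m4_4_1 := LT.edges v4429 actc LT.zero (Dt.of e4_4_1 :)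
theorem l4_4_2 : LT (dt.ck q) THn.T (nat_lit 4) (nat_lit 4) m4_4_2 := LT.reach st4 l4_4_1 e4_4_2
theorem l4_5_1 : LT (dt.ck q) THn.T (nat_lit 4) (nat_lit 5) m4_5_1 := LT.edges v4429 actc LT.zero (Dt.of e4_5_1 :)
theorem l4_5_2 : LT (dt.ck q) THn.T (nat_lit 4) (nat_lit 5) m4_5_2 := LT.reach st4 l4_5_1 e4_5_2
theorem l4_6_1 : LT (dt.ck q) THn.T (nat_lit 4) (nat_lit 6) m4_6_1 := LT.edges v4429 actc LT.zero (Dt.of e4_6_1 :)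
theorem l4_6_2 : LT (dt.ck q) THn.T (nat_lit 4) (nat_lit 6) m4_6_2 := LT.reach st4 l4_6_1 e4_6_2
theorem l4_8_1 : LT (dt.ck q) THn.T (nat_lit 4) (nat_lit 8) m4_8_1 := LT.edges v4429 actc LT.zero (Dt.of e4_8_1 :)
theorem l4_8_2 : LT (dt.ck q) THn.T (nat_lit 4) (nat_lit 8) m4_8_2 := LT.reach st4 l4_8_1 e4_8_2
theorem l4_9_1 : LT (dt.ck q) THn.T (nat_lit 4) (nat_lit 9) m4_9_1 := LT.edges v4429 actc LT.zero (Dt.of e4_9_1 :)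
theorem l4_9_2 : LT (dt.ck q) THn.T (nat_lit 4) (nat_lit 9) m4_9_2 := LT.reach st4 l4_9_1 e4_9_2
theorem l4_10_1 : LT (dt.ck q) THn.T (nat_lit 4) (nat_lit 10) m4_10_1 := LT.edges v4429 actc LT.zero (Dt.of e4_10_1 :)
theorem l4_10_2 : LT (dt.ck q) THn.T (nat_lit 4) (nat_lit 10) m4_10_2 := LT.reach st4 l4_10_1 e4_10_2
theorem row4 : RowT (dt.ck q) THn.T PL 4 aL := RowT.of (ms := [(nat_lit 0), m4_1_2, (nat_lit 0), m4_3_2, m4_4_2, m4_5_2, m4_6_2, (nat_lit 0), m4_8_2, m4_9_2, m4_10_2]) (.cons LT.zero (.cons l4_1_2 (.cons LT.zero (.cons l4_3_2 (.cons l4_4_2 (.cons l4_5_2 (.cons l4_6_2 (.cons LT.zero (.cons l4_8_2 (.cons l4_9_2 (.cons l4_10_2 .nil))))))))))) pc4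
theorem st5 : ST (dt.ck q) (nat_lit 5) (S5.map Prod.snd) := ST.of v4429 (Dt.of st5c :)
theorem l5_1_1 : LT (dt.ck q) THn.T (nat_lit 5) (nat_lit 1) m5_1_1 := LT.edges v4429 actc LT.zero (Dt.of e5_1_1 :)
theorem l5_2_1 : LT (dt.ck q) THn.T (nat_lit 5) (nat_lit 2) m5_2_1 := LT.edges v4429 actc LT.zero (Dt.of e5_2_1 :)
theorem l5_2_2 : LT (dt.ck q) THn.T (nat_lit 5) (nat_lit 2) m5_2_2 := LT.reach st5 l5_2_1 e5_2_2
theorem l5_3_1 : LT (dt.ck q) THn.T (nat_lit 5) (nat_lit 3) m5_3_1 := LT.edges v4429 actc LT.zero (Dt.of e5_3_1 :)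
theorem l5_3_2 : LT (dt.ck q) THn.T (nat_lit 5) (nat_lit 3) m5_3_2 := LT.reach st5 l5_3_1 e5_3_2
theorem l5_4_1 : LT (dt.ck q) THn.T (nat_lit 5) (nat_lit 4) m5_4_1 := LT.edges v4429 actc LT.zero (Dt.of e5_4_1 :)
theorem l5_4_2 : LT (dt.ck q) THn.T (nat_lit 5) (nat_lit 4) m5_4_2 := LT.reach st5 l5_4_1 e5_4_2
theorem l5_5_1 : LT (dt.ck q) THn.T (nat_lit 5) (nat_lit 5) m5_5_1 := LT.edges v4429 actc LT.zero (Dt.of e5_5_1 :)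
theorem l5_5_2 : LT (dt.ck q) THn.T (nat_lit 5) (nat_lit 5) m5_5_2 := LT.edges v4429 actc l5_5_1 (Dt.of e5_5_2 :)
theorem l5_5_3 : LT (dt.ck q) THn.T (nat_lit 5) (nat_lit 5) m5_5_3 := LT.edges v4429 actc l5_5_2 (Dt.of e5_5_3 :)
theorem l5_5_4 : LT (dt.ck q) THn.T (nat_lit 5) (nat_lit 5) m5_5_4 := LT.edges v4429 actc l5_5_3 (Dt.of e5_5_4 :)
theorem l5_5_5 : LT (dt.ck q) THn.T (nat_lit 5) (nat_lit 5) m5_5_5 := LT.edges v4429 actc l5_5_4 (Dt.of e5_5_5 :)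
theorem l5_5_6 : LT (dt.ck q) THn.T (nat_lit 5) (nat_lit 5) m5_5_6 := LT.edges v4429 actc l5_5_5 (Dt.of e5_5_6 :)
theorem l5_5_7 : LT (dt.ck q) THn.T (nat_lit 5) (nat_lit 5) m5_5_7 := LT.edges v4429 actc l5_5_6 (Dt.of e5_5_7 :)
theorem l5_5_8 : LT (dt.ck q) THn.T (nat_lit 5) (nat_lit 5) m5_5_8 := LT.edges v4429 actc l5_5_7 (Dt.of e5_5_8 :)
theorem l5_5_9 : LT (dt.ck q) THn.T (nat_lit 5) (nat_lit 5) m5_5_9 := LT.edges v4429 actc l5_5_8 (Dt.of e5_5_9 :)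
theorem l5_5_10 : LT (dt.ck q) THn.T (nat_lit 5) (nat_lit 5) m5_5_10 := LT.edges v4429 actc l5_5_9 (Dt.of e5_5_10 :)
theorem l5_5_11 : LT (dt.ck q) THn.T (nat_lit 5) (nat_lit 5) m5_5_11 := LT.edges v4429 actc l5_5_10 (Dt.of e5_5_11 :)
theorem l5_5_12 : LT (dt.ck q) THn.T (nat_lit 5) (nat_lit 5) m5_5_12 := LT.edges v4429 actc l5_5_11 (Dt.of e5_5_12 :)
theorem l5_5_13 : LT (dt.ck q) THn.T (nat_lit 5) (nat_lit 5) m5_5_13 := LT.edges v4429 actc l5_5_12 (Dt.of e5_5_13 :)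
theorem l5_5_14 : LT (dt.ck q) THn.T (nat_lit 5) (nat_lit 5) m5_5_14 := LT.edges v4429 actc l5_5_13 (Dt.of e5_5_14 :)
theorem l5_5_15 : LT (dt.ck q) THn.T (nat_lit 5) (nat_lit 5) m5_5_15 := LT.edges v4429 actc l5_5_14 (Dt.of e5_5_15 :)
theorem l5_5_16 : LT (dt.ck q) THn.T (nat_lit 5) (nat_lit 5) m5_5_16 := LT.edges v4429 actc l5_5_15 (Dt.of e5_5_16 :)
theorem l5_5_17 : LT (dt.ck q) THn.T (nat_lit 5) (nat_lit 5) m5_5_17 := LT.edges v4429 actc l5_5_16 (Dt.of e5_5_17 :)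
theorem l5_5_18 : LT (dt.ck q) THn.T (nat_lit 5) (nat_lit 5) m5_5_18 := LT.edges v4429 actc l5_5_17 (Dt.of e5_5_18 :)
theorem l5_5_19 : LT (dt.ck q) THn.T (nat_lit 5) (nat_lit 5) m5_5_19 := LT.edges v4429 actc l5_5_18 (Dt.of e5_5_19 :)
theorem l5_5_20 : LT (dt.ck q) THn.T (nat_lit 5) (nat_lit 5) m5_5_20 := LT.edges v4429 actc l5_5_19 (Dt.of e5_5_20 :)
theorem l5_5_21 : LT (dt.ck q) THn.T (nat_lit 5) (nat_lit 5) m5_5_21 := LT.edges v4429 actc l5_5_20 (Dt.of e5_5_21 :)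
theorem l5_5_22 : LT (dt.ck q) THn.T (nat_lit 5) (nat_lit 5) m5_5_22 := LT.edges v4429 actc l5_5_21 (Dt.of e5_5_22 :)
theorem l5_5_23 : LT (dt.ck q) THn.T (nat_lit 5) (nat_lit 5) m5_5_23 := LT.edges v4429 actc l5_5_22 (Dt.of e5_5_23 :)
theorem l5_5_24 : LT (dt.ck q) THn.T (nat_lit 5) (nat_lit 5) m5_5_24 := LT.edges v4429 actc l5_5_23 (Dt.of e5_5_24 :)
theorem l5_5_25 : LT (dt.ck q) THn.T (nat_lit 5) (nat_lit 5) m5_5_25 := LT.edges v4429 actc l5_5_24 (Dt.of e5_5_25 :)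
theorem l5_5_26 : LT (dt.ck q) THn.T (nat_lit 5) (nat_lit 5) m5_5_26 := LT.edges v4429 actc l5_5_25 (Dt.of e5_5_26 :)
theorem l5_5_27 : LT (dt.ck q) THn.T (nat_lit 5) (nat_lit 5) m5_5_27 := LT.reach st5 l5_5_26 e5_5_27
theorem l5_6_1 : LT (dt.ck q) THn.T (nat_lit 5) (nat_lit 6) m5_6_1 := LT.edges v4429 actc LT.zero (Dt.of e5_6_1 :)
theorem l5_6_2 : LT (dt.ck q) THn.T (nat_lit 5) (nat_lit 6) m5_6_2 := LT.edges v4429 actc l5_6_1 (Dt.of e5_6_2 :)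
theorem l5_6_3 : LT (dt.ck q) THn.T (nat_lit 5) (nat_lit 6) m5_6_3 := LT.edges v4429 actc l5_6_2 (Dt.of e5_6_3 :)
theorem l5_6_4 : LT (dt.ck q) THn.T (nat_lit 5) (nat_lit 6) m5_6_4 := LT.reach st5 l5_6_3 e5_6_4
theorem l5_7_1 : LT (dt.ck q) THn.T (nat_lit 5) (nat_lit 7) m5_7_1 := LT.edges v4429 actc LT.zero (Dt.of e5_7_1 :)
theorem l5_7_2 : LT (dt.ck q) THn.T (nat_lit 5) (nat_lit 7) m5_7_2 := LT.reach st5 l5_7_1 e5_7_2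
theorem l5_8_1 : LT (dt.ck q) THn.T (nat_lit 5) (nat_lit 8) m5_8_1 := LT.edges v4429 actc LT.zero (Dt.of e5_8_1 :)
theorem l5_8_2 : LT (dt.ck q) THn.T (nat_lit 5) (nat_lit 8) m5_8_2 := LT.edges v4429 actc l5_8_1 (Dt.of e5_8_2 :)
theorem l5_8_3 : LT (dt.ck q) THn.T (nat_lit 5) (nat_lit 8) m5_8_3 := LT.edges v4429 actc l5_8_2 (Dt.of e5_8_3 :)
theorem l5_8_4 : LT (dt.ck q) THn.T (nat_lit 5) (nat_lit 8) m5_8_4 := LT.reach st5 l5_8_3 e5_8_4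
theorem l5_9_1 : LT (dt.ck q) THn.T (nat_lit 5) (nat_lit 9) m5_9_1 := LT.edges v4429 actc LT.zero (Dt.of e5_9_1 :)
theorem l5_9_2 : LT (dt.ck q) THn.T (nat_lit 5) (nat_lit 9) m5_9_2 := LT.edges v4429 actc l5_9_1 (Dt.of e5_9_2 :)
theorem l5_9_3 : LT (dt.ck q) THn.T (nat_lit 5) (nat_lit 9) m5_9_3 := LT.reach st5 l5_9_2 e5_9_3
theorem l5_10_1 : LT (dt.ck q) THn.T (nat_lit 5) (nat_lit 10) m5_10_1 := LT.edges v4429 actc LT.zero (Dt.of e5_10_1 :)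
theorem l5_10_2 : LT (dt.ck q) THn.T (nat_lit 5) (nat_lit 10) m5_10_2 := LT.edges v4429 actc l5_10_1 (Dt.of e5_10_2 :)
theorem l5_10_3 : LT (dt.ck q) THn.T (nat_lit 5) (nat_lit 10) m5_10_3 := LT.reach st5 l5_10_2 e5_10_3
theorem row5 : RowT (dt.ck q) THn.T PL 5 aL := RowT.of (ms := [(nat_lit 0), m5_1_1, m5_2_2, m5_3_2, m5_4_2, m5_5_27, m5_6_4, m5_7_2, m5_8_4, m5_9_3, m5_10_3]) (.cons LT.zero (.cons l5_1_1 (.cons l5_2_2 (.cons l5_3_2 (.cons l5_4_2 (.cons l5_5_27 (.cons l5_6_4 (.cons l5_7_2 (.cons l5_8_4 (.cons l5_9_3 (.cons l5_10_3 .nil))))))))))) pc5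
theorem st6 : ST (dt.ck q) (nat_lit 6) (S6.map Prod.snd) := ST.of v4429 (Dt.of st6c :)
theorem l6_1_1 : LT (dt.ck q) THn.T (nat_lit 6) (nat_lit 1) m6_1_1 := LT.edges v4429 actc LT.zero (Dt.of e6_1_1 :)
theorem l6_1_2 : LT (dt.ck q) THn.T (nat_lit 6) (nat_lit 1) m6_1_2 := LT.reach st6 l6_1_1 e6_1_2
theorem l6_3_1 : LT (dt.ck q) THn.T (nat_lit 6) (nat_lit 3) m6_3_1 := LT.edges v4429 actc LT.zero (Dt.of e6_3_1 :)
theorem l6_3_2 : LT (dt.ck q) THn.T (nat_lit 6) (nat_lit 3) m6_3_2 := LT.reach st6 l6_3_1 e6_3_2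
theorem l6_4_1 : LT (dt.ck q) THn.T (nat_lit 6) (nat_lit 4) m6_4_1 := LT.edges v4429 actc LT.zero (Dt.of e6_4_1 :)
theorem l6_4_2 : LT (dt.ck q) THn.T (nat_lit 6) (nat_lit 4) m6_4_2 := LT.reach st6 l6_4_1 e6_4_2
theorem l6_5_1 : LT (dt.ck q) THn.T (nat_lit 6) (nat_lit 5) m6_5_1 := LT.edges v4429 actc LT.zero (Dt.of e6_5_1 :)
theorem l6_5_2 : LT (dt.ck q) THn.T (nat_lit 6) (nat_lit 5) m6_5_2 := LT.edges v4429 actc l6_5_1 (Dt.of e6_5_2 :)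
theorem l6_5_3 : LT (dt.ck q) THn.T (nat_lit 6) (nat_lit 5) m6_5_3 := LT.edges v4429 actc l6_5_2 (Dt.of e6_5_3 :)
theorem l6_5_4 : LT (dt.ck q) THn.T (nat_lit 6) (nat_lit 5) m6_5_4 := LT.reach st6 l6_5_3 e6_5_4
theorem l6_6_1 : LT (dt.ck q) THn.T (nat_lit 6) (nat_lit 6) m6_6_1 := LT.edges v4429 actc LT.zero (Dt.of e6_6_1 :)
theorem l6_6_2 : LT (dt.ck q) THn.T (nat_lit 6) (nat_lit 6) m6_6_2 := LT.reach st6 l6_6_1 e6_6_2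
theorem l6_8_1 : LT (dt.ck q) THn.T (nat_lit 6) (nat_lit 8) m6_8_1 := LT.edges v4429 actc LT.zero (Dt.of e6_8_1 :)
theorem l6_8_2 : LT (dt.ck q) THn.T (nat_lit 6) (nat_lit 8) m6_8_2 := LT.reach st6 l6_8_1 e6_8_2
theorem l6_9_1 : LT (dt.ck q) THn.T (nat_lit 6) (nat_lit 9) m6_9_1 := LT.edges v4429 actc LT.zero (Dt.of e6_9_1 :)
theorem l6_9_2 : LT (dt.ck q) THn.T (nat_lit 6) (nat_lit 9) m6_9_2 := LT.reach st6 l6_9_1 e6_9_2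
theorem l6_10_1 : LT (dt.ck q) THn.T (nat_lit 6) (nat_lit 10) m6_10_1 := LT.edges v4429 actc LT.zero (Dt.of e6_10_1 :)
theorem l6_10_2 : LT (dt.ck q) THn.T (nat_lit 6) (nat_lit 10) m6_10_2 := LT.reach st6 l6_10_1 e6_10_2
theorem row6 : RowT (dt.ck q) THn.T PL 6 aL := RowT.of (ms := [(nat_lit 0), m6_1_2, (nat_lit 0), m6_3_2, m6_4_2, m6_5_4, m6_6_2, (nat_lit 0), m6_8_2, m6_9_2, m6_10_2]) (.cons LT.zero (.cons l6_1_2 (.cons LT.zero (.cons l6_3_2 (.cons l6_4_2 (.cons l6_5_4 (.cons l6_6_2 (.cons LT.zero (.cons l6_8_2 (.cons l6_9_2 (.cons l6_10_2 .nil))))))))))) pc6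
theorem st7 : ST (dt.ck q) (nat_lit 7) (S7.map Prod.snd) := ST.of v4429 (Dt.of st7c :)
theorem l7_3_1 : LT (dt.ck q) THn.T (nat_lit 7) (nat_lit 3) m7_3_1 := LT.edges v4429 actc LT.zero (Dt.of e7_3_1 :)
theorem l7_3_2 : LT (dt.ck q) THn.T (nat_lit 7) (nat_lit 3) m7_3_2 := LT.reach st7 l7_3_1 e7_3_2
theorem l7_5_1 : LT (dt.ck q) THn.T (nat_lit 7) (nat_lit 5) m7_5_1 := LT.edges v4429 actc LT.zero (Dt.of e7_5_1 :)
theorem l7_5_2 : LT (dt.ck q) THn.T (nat_lit 7) (nat_lit 5) m7_5_2 := LT.reach st7 l7_5_1 e7_5_2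
theorem l7_7_1 : LT (dt.ck q) THn.T (nat_lit 7) (nat_lit 7) m7_7_1 := LT.edges v4429 actc LT.zero (Dt.of e7_7_1 :)
theorem l7_7_2 : LT (dt.ck q) THn.T (nat_lit 7) (nat_lit 7) m7_7_2 := LT.reach st7 l7_7_1 e7_7_2
theorem l7_8_1 : LT (dt.ck q) THn.T (nat_lit 7) (nat_lit 8) m7_8_1 := LT.edges v4429 actc LT.zero (Dt.of e7_8_1 :)
theorem l7_8_2 : LT (dt.ck q) THn.T (nat_lit 7) (nat_lit 8) m7_8_2 := LT.reach st7 l7_8_1 e7_8_2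
theorem row7 : RowT (dt.ck q) THn.T PL 7 aL := RowT.of (ms := [(nat_lit 0), (nat_lit 0), (nat_lit 0), m7_3_2, (nat_lit 0), m7_5_2, (nat_lit 0), m7_7_2, m7_8_2, (nat_lit 0), (nat_lit 0)]) (.cons LT.zero (.cons LT.zero (.cons LT.zero (.cons l7_3_2 (.cons LT.zero (.cons l7_5_2 (.cons LT.zero (.cons l7_7_2 (.cons l7_8_2 (.cons LT.zero (.cons LT.zero .nil))))))))))) pc7
theorem st8 : ST (dt.ck q) (nat_lit 8) (S8.map Prod.snd) := ST.of v4429 (Dt.of st8c :)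
theorem l8_3_1 : LT (dt.ck q) THn.T (nat_lit 8) (nat_lit 3) m8_3_1 := LT.edges v4429 actc LT.zero (Dt.of e8_3_1 :)
theorem l8_3_2 : LT (dt.ck q) THn.T (nat_lit 8) (nat_lit 3) m8_3_2 := LT.reach st8 l8_3_1 e8_3_2
theorem l8_4_1 : LT (dt.ck q) THn.T (nat_lit 8) (nat_lit 4) m8_4_1 := LT.edges v4429 actc LT.zero (Dt.of e8_4_1 :)
theorem l8_4_2 : LT (dt.ck q) THn.T (nat_lit 8) (nat_lit 4) m8_4_2 := LT.reach st8 l8_4_1 e8_4_2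
theorem l8_5_1 : LT (dt.ck q) THn.T (nat_lit 8) (nat_lit 5) m8_5_1 := LT.edges v4429 actc LT.zero (Dt.of e8_5_1 :)
theorem l8_5_2 : LT (dt.ck q) THn.T (nat_lit 8) (nat_lit 5) m8_5_2 := LT.edges v4429 actc l8_5_1 (Dt.of e8_5_2 :)
theorem l8_5_3 : LT (dt.ck q) THn.T (nat_lit 8) (nat_lit 5) m8_5_3 := LT.edges v4429 actc l8_5_2 (Dt.of e8_5_3 :)
theorem l8_5_4 : LT (dt.ck q) THn.T (nat_lit 8) (nat_lit 5) m8_5_4 := LT.reach st8 l8_5_3 e8_5_4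
theorem l8_6_1 : LT (dt.ck q) THn.T (nat_lit 8) (nat_lit 6) m8_6_1 := LT.edges v4429 actc LT.zero (Dt.of e8_6_1 :)
theorem l8_6_2 : LT (dt.ck q) THn.T (nat_lit 8) (nat_lit 6) m8_6_2 := LT.reach st8 l8_6_1 e8_6_2
theorem l8_7_1 : LT (dt.ck q) THn.T (nat_lit 8) (nat_lit 7) m8_7_1 := LT.edges v4429 actc LT.zero (Dt.of e8_7_1 :)
theorem l8_7_2 : LT (dt.ck q) THn.T (nat_lit 8) (nat_lit 7) m8_7_2 := LT.reach st8 l8_7_1 e8_7_2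
theorem l8_8_1 : LT (dt.ck q) THn.T (nat_lit 8) (nat_lit 8) m8_8_1 := LT.edges v4429 actc LT.zero (Dt.of e8_8_1 :)
theorem l8_8_2 : LT (dt.ck q) THn.T (nat_lit 8) (nat_lit 8) m8_8_2 := LT.reach st8 l8_8_1 e8_8_2
theorem l8_9_1 : LT (dt.ck q) THn.T (nat_lit 8) (nat_lit 9) m8_9_1 := LT.edges v4429 actc LT.zero (Dt.of e8_9_1 :)
theorem l8_9_2 : LT (dt.ck q) THn.T (nat_lit 8) (nat_lit 9) m8_9_2 := LT.reach st8 l8_9_1 e8_9_2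
theorem l8_10_1 : LT (dt.ck q) THn.T (nat_lit 8) (nat_lit 10) m8_10_1 := LT.edges v4429 actc LT.zero (Dt.of e8_10_1 :)
theorem l8_10_2 : LT (dt.ck q) THn.T (nat_lit 8) (nat_lit 10) m8_10_2 := LT.reach st8 l8_10_1 e8_10_2
theorem row8 : RowT (dt.ck q) THn.T PL 8 aL := RowT.of (ms := [(nat_lit 0), (nat_lit 0), (nat_lit 0), m8_3_2, m8_4_2, m8_5_4, m8_6_2, m8_7_2, m8_8_2, m8_9_2, m8_10_2]) (.cons LT.zero (.cons LT.zero (.cons LT.zero (.cons l8_3_2 (.cons l8_4_2 (.cons l8_5_4 (.cons l8_6_2 (.cons l8_7_2 (.cons l8_8_2 (.cons l8_9_2 (.cons l8_10_2 .nil))))))))))) pc8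
theorem st9 : ST (dt.ck q) (nat_lit 9) (S9.map Prod.snd) := ST.of v4429 (Dt.of st9c :)
theorem l9_2_1 : LT (dt.ck q) THn.T (nat_lit 9) (nat_lit 2) m9_2_1 := LT.edges v4429 actc LT.zero (Dt.of e9_2_1 :)
theorem l9_2_2 : LT (dt.ck q) THn.T (nat_lit 9) (nat_lit 2) m9_2_2 := LT.reach st9 l9_2_1 e9_2_2
theorem l9_3_1 : LT (dt.ck q) THn.T (nat_lit 9) (nat_lit 3) m9_3_1 := LT.edges v4429 actc LT.zero (Dt.of e9_3_1 :)
theorem l9_3_2 : LT (dt.ck q) THn.T (nat_lit 9) (nat_lit 3) m9_3_2 := LT.reach st9 l9_3_1 e9_3_2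
theorem l9_4_1 : LT (dt.ck q) THn.T (nat_lit 9) (nat_lit 4) m9_4_1 := LT.edges v4429 actc LT.zero (Dt.of e9_4_1 :)
theorem l9_4_2 : LT (dt.ck q) THn.T (nat_lit 9) (nat_lit 4) m9_4_2 := LT.reach st9 l9_4_1 e9_4_2
theorem l9_5_1 : LT (dt.ck q) THn.T (nat_lit 9) (nat_lit 5) m9_5_1 := LT.edges v4429 actc LT.zero (Dt.of e9_5_1 :)
theorem l9_5_2 : LT (dt.ck q) THn.T (nat_lit 9) (nat_lit 5) m9_5_2 := LT.edges v4429 actc l9_5_1 (Dt.of e9_5_2 :)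
theorem l9_5_3 : LT (dt.ck q) THn.T (nat_lit 9) (nat_lit 5) m9_5_3 := LT.reach st9 l9_5_2 e9_5_3
theorem l9_6_1 : LT (dt.ck q) THn.T (nat_lit 9) (nat_lit 6) m9_6_1 := LT.edges v4429 actc LT.zero (Dt.of e9_6_1 :)
theorem l9_6_2 : LT (dt.ck q) THn.T (nat_lit 9) (nat_lit 6) m9_6_2 := LT.reach st9 l9_6_1 e9_6_2
theorem l9_8_1 : LT (dt.ck q) THn.T (nat_lit 9) (nat_lit 8) m9_8_1 := LT.edges v4429 actc LT.zero (Dt.of e9_8_1 :)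
theorem l9_8_2 : LT (dt.ck q) THn.T (nat_lit 9) (nat_lit 8) m9_8_2 := LT.reach st9 l9_8_1 e9_8_2
theorem l9_9_1 : LT (dt.ck q) THn.T (nat_lit 9) (nat_lit 9) m9_9_1 := LT.edges v4429 actc LT.zero (Dt.of e9_9_1 :)
theorem l9_9_2 : LT (dt.ck q) THn.T (nat_lit 9) (nat_lit 9) m9_9_2 := LT.reach st9 l9_9_1 e9_9_2
theorem l9_10_1 : LT (dt.ck q) THn.T (nat_lit 9) (nat_lit 10) m9_10_1 := LT.edges v4429 actc LT.zero (Dt.of e9_10_1 :)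
theorem l9_10_2 : LT (dt.ck q) THn.T (nat_lit 9) (nat_lit 10) m9_10_2 := LT.reach st9 l9_10_1 e9_10_2
theorem row9 : RowT (dt.ck q) THn.T PL 9 aL := RowT.of (ms := [(nat_lit 0), (nat_lit 0), m9_2_2, m9_3_2, m9_4_2, m9_5_3, m9_6_2, (nat_lit 0), m9_8_2, m9_9_2, m9_10_2]) (.cons LT.zero (.cons LT.zero (.cons l9_2_2 (.cons l9_3_2 (.cons l9_4_2 (.cons l9_5_3 (.cons l9_6_2 (.cons LT.zero (.cons l9_8_2 (.cons l9_9_2 (.cons l9_10_2 .nil))))))))))) pc9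
theorem st10 : ST (dt.ck q) (nat_lit 10) (S10.map Prod.snd) := ST.of v4429 (Dt.of st10c :)
theorem l10_2_1 : LT (dt.ck q) THn.T (nat_lit 10) (nat_lit 2) m10_2_1 := LT.edges v4429 actc LT.zero (Dt.of e10_2_1 :)
theorem l10_2_2 : LT (dt.ck q) THn.T (nat_lit 10) (nat_lit 2) m10_2_2 := LT.reach st10 l10_2_1 e10_2_2
theorem l10_3_1 : LT (dt.ck q) THn.T (nat_lit 10) (nat_lit 3) m10_3_1 := LT.edges v4429 actc LT.zero (Dt.of e10_3_1 :)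
theorem l10_3_2 : LT (dt.ck q) THn.T (nat_lit 10) (nat_lit 3) m10_3_2 := LT.reach st10 l10_3_1 e10_3_2
theorem l10_4_1 : LT (dt.ck q) THn.T (nat_lit 10) (nat_lit 4) m10_4_1 := LT.edges v4429 actc LT.zero (Dt.of e10_4_1 :)
theorem l10_4_2 : LT (dt.ck q) THn.T (nat_lit 10) (nat_lit 4) m10_4_2 := LT.reach st10 l10_4_1 e10_4_2
theorem l10_5_1 : LT (dt.ck q) THn.T (nat_lit 10) (nat_lit 5) m10_5_1 := LT.edges v4429 actc LT.zero (Dt.of e10_5_1 :)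
theorem l10_5_2 : LT (dt.ck q) THn.T (nat_lit 10) (nat_lit 5) m10_5_2 := LT.edges v4429 actc l10_5_1 (Dt.of e10_5_2 :)
theorem l10_5_3 : LT (dt.ck q) THn.T (nat_lit 10) (nat_lit 5) m10_5_3 := LT.reach st10 l10_5_2 e10_5_3
theorem l10_6_1 : LT (dt.ck q) THn.T (nat_lit 10) (nat_lit 6) m10_6_1 := LT.edges v4429 actc LT.zero (Dt.of e10_6_1 :)
theorem l10_6_2 : LT (dt.ck q) THn.T (nat_lit 10) (nat_lit 6) m10_6_2 := LT.reach st10 l10_6_1 e10_6_2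
theorem l10_8_1 : LT (dt.ck q) THn.T (nat_lit 10) (nat_lit 8) m10_8_1 := LT.edges v4429 actc LT.zero (Dt.of e10_8_1 :)
theorem l10_8_2 : LT (dt.ck q) THn.T (nat_lit 10) (nat_lit 8) m10_8_2 := LT.reach st10 l10_8_1 e10_8_2
theorem l10_9_1 : LT (dt.ck q) THn.T (nat_lit 10) (nat_lit 9) m10_9_1 := LT.edges v4429 actc LT.zero (Dt.of e10_9_1 :)
theorem l10_9_2 : LT (dt.ck q) THn.T (nat_lit 10) (nat_lit 9) m10_9_2 := LT.reach st10 l10_9_1 e10_9_2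
theorem l10_10_1 : LT (dt.ck q) THn.T (nat_lit 10) (nat_lit 10) m10_10_1 := LT.edges v4429 actc LT.zero (Dt.of e10_10_1 :)
theorem l10_10_2 : LT (dt.ck q) THn.T (nat_lit 10) (nat_lit 10) m10_10_2 := LT.reach st10 l10_10_1 e10_10_2
theorem row10 : RowT (dt.ck q) THn.T PL 10 aL := RowT.of (ms := [(nat_lit 0), (nat_lit 0), m10_2_2, m10_3_2, m10_4_2, m10_5_3, m10_6_2, (nat_lit 0), m10_8_2, m10_9_2, m10_10_2]) (.cons LT.zero (.cons LT.zero (.cons l10_2_2 (.cons l10_3_2 (.cons l10_4_2 (.cons l10_5_3 (.cons l10_6_2 (.cons LT.zero (.cons l10_8_2 (.cons l10_9_2 (.cons l10_10_2 .nil))))))))))) pc10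
theorem done : Done (dt.ck q) THn.T THn.U 143127000 := Done.of rt v4429 (Dt.of kgc :) (all_succ (all_succ (all_succ (all_succ (all_succ (all_succ (all_succ (all_succ (all_succ (all_succ (all_succ all_zero row0) row1) row2) row3) row4) row5) row6) row7) row8) row9) row10) num
theorem fin : Fin (dt.ck q) THn.T THn.Rl THn.U 634023936 143127000 :=
  Fin.of qok done THn.mod rp rels low (Dt.of ivc :) (by decide +kernel)
theorem bound : Bound RA 11 90745943887872000 := fin.bound par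
theorem pb {G : Type} [Group G] {g : ℕ → G} (h1 : Rels g RA) (h2 : Nat.card (gen g 9) = 634023936) (h3 : Nat.card (gen g 11) = 90745943887872000)
    {p m : ℕ} (hN : Good (gen THn.T.π 9) p m) (hp : p.Prime ∧ m * p ∣ 630) : PB (gen g 11) (p ^ (0 + 1)) :=
  fin.pb par v4429 h1 h2 h3 (Dt.of modc :) hN ⟨hp.1, hp.2.trans (by decide +kernel)⟩

end H16.THc
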